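import Cfsg.Agent.Co3Rec.Model
import Cfsg.Agent.Co3Rec.Data.Rels

/-!
A group generated by an image of the centraliser and an involution with the relations of the
certificate is an image of the third Conway group.
-/

set_option autoImplicit false
set_option maxRecDepth 100000

namespace Cfsg.Agent.Co3Rec

open Cfsg Cfsg.Agent.Compute Cfsg.Agent.StemCert
open Cfsg.Agent.DCoset (val wLen wBody Rules)

/-- The letter of a rule. -/
noncomputable abbrev rLet (r : ℕ) : ℕ := Data.ruleLetters.getD r 0

theorem rules_ok : allBelow 19 (fun r =>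
    Nat.beq (Enum.rules.rS r) (Enum.rules.rD r) && ltB 3 (unW (Enum.rules.rU r)) &&
      ltB 3 (unW (Enum.rules.rV r)) && Enum.tab.okWord (Enum.rules.rU r) &&
      Enum.tab.okWord (Enum.rules.rV r) &&
      cond (Nat.beq (Enum.rules.rS r) 0) (Nat.beq (Enum.rules.rU r) (Enum.rules.rV r))
        (Nat.beq (Enum.rules.rS r) 1 && Nat.ble 11 r && same (unW (Enum.rules.rU r)) [rLet (Nat.sub r 11)] &&
          same (unW (Enum.rules.rV r)) ([Data.sL, rLet (Nat.sub r 11), Data.sL]))) = true := by
  decide +kernel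

theorem rel_ok : allBelow 2 (fun r =>
    Nat.beq (Enum.rules.relHd r) 1 && Enum.tab.okWord (Enum.rules.relTl r) &&
      Nat.beq (Enum.rules.relLen r) 2 && allBelow 2 (fun m =>
        Nat.beq (Enum.rules.relT r m) 1 && Enum.tab.okWord (Enum.rules.relW r m) &&
          ltB 3 (unW (Enum.rules.relW r m)) &&
          same (unW (Enum.rules.relW r m)) ((Data.relD.getD r []).getD m [])) &&
      ltB 3 (unW (Enum.rules.relTl r)) && same (unW (Enum.rules.relTl r)) (Data.relTlD.getD r []) &&
      same (Data.sL :: (unW (Enum.rules.relW r 0) ++ Data.sL :: (unW (Enum.rules.relW r 1) ++ [Data.sL])))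
        (unW (Enum.rules.relTl r))) = true := by decide +kernel

theorem sE_sq : sE * sE = 1 := by
  have h := eq_of_same (a := [Data.sL, Data.sL]) (b := []) (by decide +kernel)
  simpa [Ctx.ev_cons, sE] using h

variable {H : Type*} [Group H] (Φ : C0 →* H) (s : H)

/-- The relations of the certificate. -/
structure Rel : Prop where
  sq : s * s = 1
  rot : ∀ l < 8, ∀ x y : C0, (x : R) = ctx.gen (rLet l) → (y : R) = sE * ctx.gen (rLet l) * sE →
    s * Φ x * s = Φ y
  rel : ∀ r < 2, s * (Φ (P.el (Enum.rules.relW r 0)) * s * (Φ (P.el (Enum.rules.relW r 1)) * s)) =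
    Φ (P.el (Enum.rules.relTl r))

/-- The extra letters. -/
def Tfun (τ : ℕ) : H := if τ = 1 then s else 1

variable {Φ s}

theorem Rel.sound (h : Rel Φ s) : Enum.rules.Sound (P.toModel Φ) (Tfun s) := by
  have h2 : Enum.rules.nT = 2 := rfl
  constructor
  · rfl
  · intro τ hτ
    rw [h2] at hτ ⊢
    interval_cases τ
    · exact ⟨by decide +kernel, by rw [show Enum.rules.invT 0 = 0 by decide +kernel]; simp [Tfun]⟩
    · refine ⟨by decide +kernel, ?_⟩
      rw [show Enum.rules.invT 1 = 1 by decide +kernel]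
      exact h.sq
  · intro σ τ hσ hτ hne
    rw [h2] at hσ hτ ⊢
    interval_cases σ <;> interval_cases τ
    · exact ⟨by decide +kernel, by rw [show Enum.rules.mulT 0 0 - 1 = 0 by decide +kernel]; simp [Tfun]⟩
    · exact ⟨by decide +kernel, by rw [show Enum.rules.mulT 0 1 - 1 = 1 by decide +kernel]; simp [Tfun]⟩
    · exact ⟨by decide +kernel, by rw [show Enum.rules.mulT 1 0 - 1 = 1 by decide +kernel]; simp [Tfun]⟩
    · refine ⟨by decide +kernel, ?_⟩
      rw [show Enum.rules.mulT 1 1 - 1 = 0 by decide +kernel]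
      exact h.sq
  · intro r hr
    have hc := allBelow_eq_true.mp rules_ok r (show r < 19 from hr)
    simp only [Bool.and_eq_true, Nat.beq_eq] at hc
    obtain ⟨⟨⟨⟨⟨hSD, hu⟩, hv⟩, hou⟩, hov⟩, hcase⟩ := hc
    rw [h2, P.el_val, P.el_val, ← hSD]
    cases hb : Nat.beq (Enum.rules.rS r) 0 <;> rw [hb] at hcase
    · simp only [cond_false, Bool.and_eq_true, Nat.beq_eq, Nat.ble_eq] at hcase
      obtain ⟨⟨⟨hS, hr11⟩, hU⟩, hV⟩ := hcase
      rw [hS]
      refine ⟨by norm_num, by norm_num, hou, hov, ?_⟩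
      have hxR : ((P.el (Enum.rules.rU r) : C0) : R) = ctx.gen (rLet (r - 11)) := by
        rw [P_el_coe _ hu, eq_of_same hU, ctx.ev_single]; rfl
      have hyR : ((P.el (Enum.rules.rV r) : C0) : R) = sE * ctx.gen (rLet (r - 11)) * sE := by
        rw [P_el_coe _ hv, eq_of_same hV, Ctx.ev_cons, Ctx.ev_cons, Ctx.ev_single, mul_assoc]
        rfl
      have e := h.rot (r - 11) (by change r < 19 at hr; omega) _ _ hxR hyR
      show Tfun s 1 * _ = _ * Tfun s 1
      simp only [Tfun, if_true]
      rw [← e, ← mul_assoc, ← mul_assoc, h.sq, one_mul]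
    · simp only [cond_true, Nat.beq_eq] at hcase
      have hS := Nat.eq_of_beq_eq_true hb
      rw [hS, hcase]
      exact ⟨by norm_num, by norm_num, hcase ▸ hou, hov, by simp [Tfun]⟩
  · intro r hr
    have hc := allBelow_eq_true.mp rel_ok r (show r < 2 from hr)
    simp only [Bool.and_eq_true, Nat.beq_eq, allBelow_eq_true] at hc
    obtain ⟨⟨⟨⟨⟨⟨hhd, hot⟩, hlen⟩, hm⟩, -⟩, -⟩, -⟩ := hc
    rw [hhd, h2, hlen]
    refine ⟨by norm_num, hot, fun m hm' => ⟨by rw [(hm m hm').1.1.1]; norm_num, (hm m hm').1.1.2⟩, ?_⟩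
    simp only [List.range_succ, List.range_zero, List.map_append, List.map_cons, List.map_nil,
      List.nil_append, List.cons_append, List.prod_cons, List.prod_nil, mul_one, P.el_val,
      (hm 0 (by norm_num)).1.1.1, (hm 1 (by norm_num)).1.1.1]
    simpa [Tfun] using h.rel r hr

/-- The bound on the group generated. -/
theorem Rel.card_le [Finite H] (h : Rel Φ s)
    (hgen : Subgroup.closure (Set.range Φ ∪ {s}) = ⊤) : Nat.card H ≤ 495766656000 := by
  have hgenG : Subgroup.closure (Set.range Φ ∪ {x | ∃ t, t < Enum.rules.nT ∧ x = Tfun s t}) = ⊤ := by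
    rw [eq_top_iff, ← hgen]
    refine Subgroup.closure_mono (Set.union_subset_union_right _ ?_)
    rintro x rfl
    exact ⟨1, by decide +kernel, by simp [Tfun]⟩
  have hF := DCoset.Steps.holds (D := Enum.steps) (Hs := Φ.range) h.sound
    (fun g _ => ⟨P.q g, rfl⟩) Enum.node_src (by decide +kernel) Enum.steps_ok
  obtain ⟨-, hle⟩ := DCoset.Cover.index_le (C := Enum.cover) (P := P) Φ (Tfun s) card_C0.le gen_top hgenG
    h.sound Enum.valid hF
  rw [Enum.idx_sum] at hle
  have h1 : Nat.card Φ.range ≤ 2903040 :=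
    card_C0 ▸ Nat.card_le_card_of_surjective _ (MonoidHom.rangeRestrict_surjective Φ)
  rw [← Subgroup.card_mul_index Φ.range]
  calc Nat.card Φ.range * Φ.range.index ≤ 2903040 * 170775 := Nat.mul_le_mul h1 hle
    _ = 495766656000 := by norm_num

theorem rel_R : Rel C0.subtype sE := by
  refine ⟨sE_sq, fun l _ x y hx hy => ?_, fun r hr => ?_⟩
  · rw [Subgroup.coe_subtype, hx, hy]
  · have hc := allBelow_eq_true.mp rel_ok r hr
    simp only [Bool.and_eq_true, Nat.beq_eq, allBelow_eq_true] at hc
    have hm := hc.1.1.1.2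
    have htl := hc.1.1.2
    have e := eq_of_same hc.2
    simp only [Ctx.ev_cons, Ctx.ev_append, Ctx.ev_nil, mul_one] at e
    simp only [Subgroup.coe_subtype, P_el_coe _ htl, P_el_coe _ (hm 0 (by norm_num)).1.2,
      P_el_coe _ (hm 1 (by norm_num)).1.2]
    rw [← e]
    simp [sE, mul_assoc]

theorem co_words_ok : allBelow 2 (fun g => allB (fun x => Nat.blt x Data.kC || Nat.beq x Data.sL)
    (Data.coWords.getD g []) && allB (fun x => Nat.beq (appW 9 Data.codes (Data.coWords.getD g []) x)
      (getField 9 (Co3Out.Data.codes.getD g 0) x)) Co3Out.Data.mainBase) = true := by decide +kernel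

/-- The centraliser and the involution generate the model. -/
theorem R_generated : Subgroup.closure (Set.range C0.subtype ∪ {sE}) = ⊤ := by
  rw [eq_top_iff, ← Co3Out.generated, Subgroup.closure_le]
  have key : ∀ g < 2, Co3Out.gen g ∈ Subgroup.closure (Set.range C0.subtype ∪ {sE}) := by
    intro g hg
    have h := allBelow_eq_true.mp co_words_ok g hg
    simp only [Bool.and_eq_true] at h
    have hlet : ∀ x ∈ Data.coWords.getD g [], x < ctx.k ∧
        ctx.gen x ∈ Subgroup.closure (Set.range C0.subtype ∪ {sE}) := fun x hx => by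
      have := allB_spec h.1 x hx
      simp only [Bool.or_eq_true, Nat.blt_eq, Nat.beq_eq] at this
      rcases this with hh | hh
      · exact ⟨lt_of_lt_of_le hh kC_le,
          Subgroup.subset_closure (Or.inl ⟨⟨_, gen_mem hh⟩, rfl⟩)⟩
      · exact ⟨hh ▸ (show Data.sL < Data.k by decide +kernel),
          Subgroup.subset_closure (Or.inr (by simp [sE, hh]))⟩
    have e : Co3Out.gen g = ctx.ev (Data.coWords.getD g []) := by
      refine (inv_mul_eq_one.mp (Co3Out.base_isBase.2 _ fun x hx => ?_))
      have h1 : Co3Out.ι (ctx.ev (Data.coWords.getD g [])) x = Co3Out.ι (Co3Out.gen g) x := Fin.ext (by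
        rw [show ctx.ev (Data.coWords.getD g []) = evalW ctx.gen (Data.coWords.getD g []) from rfl,
          appW_spec ctx.coded _ (fun y hy => (hlet y hy).1),
          Co3Out.coded g (lt_of_lt_of_le hg (by decide +kernel)) x]
        exact Nat.eq_of_beq_eq_true (allB_spec h.2 _ hx))
      rw [map_mul, map_inv, Equiv.Perm.mul_apply, h1]
      exact Equiv.symm_apply_apply _ _
    rw [e]
    exact list_prod_mem fun y hy => by
      obtain ⟨x, hx, rfl⟩ := List.mem_map.mp hy
      exact (hlet x hx).2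
  rintro x (rfl | rfl)
  exacts [key 0 (by norm_num), key 1 (by norm_num)]

/-- What is generated is the group itself, with the same centraliser and involution. -/
theorem Rel.exists_iso [Finite H] (h : Rel Φ s) (hne : ∃ x, Φ x ≠ 1) :
    ∃ θ : R →* H, Function.Injective θ ∧ θ.range = Subgroup.closure (Set.range Φ ∪ {s}) ∧
      (∀ x : C0, θ x = Φ x) ∧ θ sE = s := by
  classical
  let Ψ : C0 →* H × R := Φ.prod C0.subtype
  let Δ : Subgroup (H × R) := Subgroup.closure (Set.range Ψ ∪ {(s, sE)})
  have hΨ : ∀ x, Ψ x ∈ Δ := fun x => Subgroup.subset_closure (Or.inl ⟨x, rfl⟩)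
  let Ψ' : C0 →* Δ := Ψ.codRestrict Δ hΨ
  let s' : Δ := ⟨(s, sE), Subgroup.subset_closure (Or.inr rfl)⟩
  have hR := rel_R
  have hrel : Rel Ψ' s' := by
    refine ⟨Subtype.ext (Prod.ext h.sq hR.sq), fun l hl x y hx hy => Subtype.ext (Prod.ext ?_ ?_),
      fun r hr => Subtype.ext (Prod.ext ?_ ?_)⟩
    · exact h.rot l hl x y hx hy
    · exact hR.rot l hl x y hx hy
    · exact h.rel r hr
    · exact hR.rel r hr
  have hgen : Subgroup.closure (Set.range Ψ' ∪ {s'}) = ⊤ := by
    apply Subgroup.map_injective Δ.subtype_injective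
    rw [MonoidHom.map_closure, ← MonoidHom.range_eq_map, Subgroup.range_subtype, Set.image_union,
      Set.image_singleton, ← Set.range_comp]
    rfl
  have hle := hrel.card_le hgen
  let π₂ : Δ →* R := (MonoidHom.snd H R).comp Δ.subtype
  have h2s : Function.Surjective π₂ := by
    rw [← MonoidHom.range_eq_top, eq_top_iff, ← R_generated, Subgroup.closure_le]
    rintro x (⟨c, rfl⟩ | rfl)
    · exact ⟨Ψ' c, rfl⟩
    · exact ⟨s', rfl⟩
  have hb : Function.Bijective π₂ := by
    refine (Nat.bijective_iff_surjective_and_card _).mpr ⟨h2s, ?_⟩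
    have h3 := Nat.card_le_card_of_surjective _ h2s
    have h4 := Co3Out.card_co3
    change Nat.card R = _ at h4
    omega
  let e : Δ ≃* R := MulEquiv.ofBijective π₂ hb
  let θ : R →* H := ((MonoidHom.fst H R).comp Δ.subtype).comp e.symm.toMonoidHom
  have hc : ∀ x : C0, θ x = Φ x := fun x => by
    show (e.symm (x : R)).1.1 = _
    rw [show e.symm (x : R) = Ψ' x from e.symm_apply_eq.mpr rfl]
    rfl
  have hs : θ sE = s := by
    show (e.symm sE).1.1 = _
    rw [show e.symm sE = s' from e.symm_apply_eq.mpr rfl]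
  refine ⟨θ, ?_, ?_, hc, hs⟩
  · refine (MonoidHom.ker_eq_bot_iff θ).mp ((θ.normal_ker.eq_bot_or_eq_top).resolve_right fun htop => ?_)
    have h1 : ∀ x : C0, Φ x = 1 := fun x => by
      rw [← hc]; exact MonoidHom.mem_ker.mp (htop ▸ Subgroup.mem_top _)
    obtain ⟨a, ha⟩ := hne
    exact ha (h1 a)
  · rw [MonoidHom.range_eq_map, ← R_generated, MonoidHom.map_closure]
    congr 1
    rw [Set.image_union, Set.image_singleton, hs, ← Set.range_comp]
    congr 1
    ext z
    simp [hc]

end Cfsg.Agent.Co3Rec
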