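import Cfsg.Agent.Co3Rec.Word
import Cfsg.Agent.Co3Rec.Data.Letters

/-!
The letters of the certificates and the subgroups they generate.
-/

set_option autoImplicit false
set_option maxRecDepth 100000

namespace Cfsg.Agent.Co3Rec

open Cfsg Cfsg.Agent.Compute Cfsg.Agent.StemCert
open Cfsg.Agent.OutTab (ivB)

theorem defs_ok : LeechModel.wordsB 276 9 Co3Out.Data.k Co3Out.Data.codes Data.defs Data.codes Data.k = true := by
  decide +kernel

theorem inv_ok : ivB 9 Data.k Data.codes Co3Out.Data.mainBase Data.ivs = true := by decide +kernel

/-- The letters. -/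
noncomputable def ctx : Ctx where
  k := Data.k
  cs := Data.codes
  iv := Data.ivs
  gen s := evalW Co3Out.gen (Data.defs.getD s [])
  coded := LeechModel.coded_of_wordsB Co3Out.coded defs_ok
  inv_ok := inv_ok
  iv_lt := by decide +kernel

/-- Equality of words in the letters. -/
noncomputable abbrev same (a b : List ℕ) : Bool := sameB Data.k Data.codes a b

theorem eq_of_same {a b : List ℕ} (h : same a b = true) : ctx.ev a = ctx.ev b := ctx.eq_of_same h

/-- The letters of the first kind are products of the first three. -/
theorem cWords_ok : allBelow Data.kC (fun s =>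
    ltB 3 (Data.cWords.getD s []) && same [s] (Data.cWords.getD s [])) = true := by decide +kernel

/-- The model of the centraliser. -/
noncomputable def C0 : Subgroup R := Subgroup.closure {ctx.gen 0, ctx.gen 1}

theorem gen_inv_small : ctx.gen 2 = (ctx.gen 1)⁻¹ ∧ ctx.gen 0 = (ctx.gen 0)⁻¹ := by
  constructor
  · have h := ctx.ev_inv (l := [1]) (by decide +kernel)
    rw [show ctx.inv [1] = [2] by decide +kernel, ctx.ev_single, ctx.ev_single] at h
    exact h
  · have h := ctx.ev_inv (l := [0]) (by decide +kernel)
    rw [show ctx.inv [0] = [0] by decide +kernel, ctx.ev_single] at h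
    exact h

theorem small_mem {s : ℕ} (hs : s < 3) : ctx.gen s ∈ C0 := by
  have h0 : ctx.gen 0 ∈ C0 := Subgroup.subset_closure (by simp)
  have h1 : ctx.gen 1 ∈ C0 := Subgroup.subset_closure (by simp)
  interval_cases s
  · exact h0
  · exact h1
  · rw [gen_inv_small.1]; exact inv_mem h1

theorem ev_mem_of_small {l : List ℕ} (h : ∀ s ∈ l, s < 3) : ctx.ev l ∈ C0 :=
  list_prod_mem fun y hy => by
    obtain ⟨s, hs, rfl⟩ := List.mem_map.mp hy
    exact small_mem (h s hs)

theorem gen_mem {s : ℕ} (hs : s < Data.kC) : ctx.gen s ∈ C0 := by
  have h := allBelow_eq_true.mp cWords_ok s hs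
  simp only [Bool.and_eq_true] at h
  rw [← ctx.ev_single, eq_of_same h.2]
  exact ev_mem_of_small (ltB_iff.mp h.1)

/-- The letters of the first kind only. -/
noncomputable abbrev inC (l : List ℕ) : Bool := ltB Data.kC l

theorem kC_le : Data.kC ≤ Data.k := by decide +kernel

theorem ev_mem {l : List ℕ} (h : inC l = true) : ctx.ev l ∈ C0 :=
  list_prod_mem fun y hy => by
    obtain ⟨s, hs, rfl⟩ := List.mem_map.mp hy
    exact gen_mem (ltB_iff.mp h s hs)

theorem lt_of_inC {l : List ℕ} (h : inC l = true) : ∀ s ∈ l, s < ctx.k := fun s hs =>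
  lt_of_lt_of_le (ltB_iff.mp h s hs) kC_le

/-- The involution whose centraliser it is. -/
noncomputable def tE : R := ctx.gen Data.tL

/-- A second involution of the class. -/
noncomputable def aE : R := ctx.gen Data.aL

/-- An involution of the other class. -/
noncomputable def bE : R := ctx.gen Data.bL

/-- A third involution, the product of it with the previous one is of the other class too. -/
noncomputable def zE : R := ctx.gen Data.zL

/-- The involution exchanging the first two. -/
noncomputable def sE : R := ctx.gen Data.sL

/-- Bool: every generator of the first list commutes with the letter. -/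
theorem commute_of_same {a b : ℕ} (h : same [a, b] [b, a] = true) : ctx.gen a * ctx.gen b = ctx.gen b * ctx.gen a := by
  have := eq_of_same h
  simpa [Ctx.ev_cons] using this

theorem tE_central {c : R} (hc : c ∈ C0) : c * tE = tE * c := by
  have h : C0 ≤ Subgroup.centralizer {tE} := by
    rw [C0, Subgroup.closure_le]
    intro x hx
    simp only [Set.mem_insert_iff, Set.mem_singleton_iff] at hx
    refine Subgroup.mem_centralizer_singleton_iff.mpr ?_
    rcases hx with rfl | rfl
    · exact commute_of_same (by decide +kernel)
    · exact commute_of_same (by decide +kernel)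
  exact Subgroup.mem_centralizer_singleton_iff.mp (h hc)

theorem fx_gen {s : ℕ} (hs : s < Data.k) : fx (ctx.gen s) = fixW Data.codes [s] := by
  rw [← ctx.ev_single, ctx.fx_ev (by simpa using (show s < ctx.k from hs))]
  rfl

theorem fx_special : fx tE = 36 ∧ fx aE = 36 ∧ fx bE = 12 ∧ fx zE = 12 := by
  refine ⟨?_, ?_, ?_, ?_⟩
  all_goals first
    | (rw [tE, fx_gen (by decide +kernel)]; decide +kernel)
    | (rw [aE, fx_gen (by decide +kernel)]; decide +kernel)
    | (rw [bE, fx_gen (by decide +kernel)]; decide +kernel)
    | (rw [zE, fx_gen (by decide +kernel)]; decide +kernel)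

end Cfsg.Agent.Co3Rec
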