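import Cfsg.Agent.Co3Rec.Elem
import Cfsg.Agent.Co3Rec.Data.Pairs
import Cfsg.Agent.Invol.ZStar

/-!
Fusion of involutions in a group with the given centraliser of an involution: the central
involution is fused to the second class and not to the third, and the normaliser of the elementary
subgroup moves it.
-/

set_option autoImplicit false
set_option maxRecDepth 100000

namespace Cfsg.Agent.Co3Rec

open Cfsg Cfsg.Agent.Compute Cfsg.Agent.StemCert

variable {G : Type*} [Group G]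

/-- A copy of the model as the centraliser of an involution. -/
structure Setting (G : Type*) [Group G] where
  /-- the map from the model -/
  Φ : C0 →* G
  inj : Function.Injective Φ
  mem_range : ∀ y, y * Φ tC = Φ tC * y → y ∈ Φ.range

/-- A setting from the hypothesis on the centraliser. -/
theorem exists_setting [Finite G] (t : G) (ht : orderOf t = 2)
    (hC : Cfsg.IsNonsplitDoubleCover (Subgroup.centralizer ({t} : Set G))
      (Matrix.symplecticGroup (Fin 3) (ZMod 2))) : ∃ S : Setting G, S.Φ tC = t := by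
  classical
  obtain ⟨e⟩ := cover_iso hC
  set C := Subgroup.centralizer ({t} : Set G) with hCdef
  have htC : t ∈ C := Subgroup.mem_centralizer_singleton_iff.mpr rfl
  let t' : C := ⟨t, htC⟩
  have ht' : t' ∈ Subgroup.center C := Subgroup.mem_center_iff.mpr fun g => Subtype.ext
    (Subgroup.mem_centralizer_singleton_iff.mp g.2)
  have hz : e tC ∈ Subgroup.center C := Subgroup.mem_center_iff.mpr fun g => by
    obtain ⟨x, rfl⟩ := e.surjective g
    rw [← map_mul, ← map_mul, Subgroup.mem_center_iff.mp tC_center x]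
  have hne : e tC ≠ 1 := fun h => tE_ne_one (congrArg Subtype.val (e.map_eq_one_iff.mp h))
  have hne' : t' ≠ 1 := fun h => by
    have h1 : t = 1 := congrArg Subtype.val h
    rw [h1, orderOf_one] at ht
    norm_num at ht
  have heq : e tC = t' := by
    by_contra hd
    have h3 : ({1, e tC, t'} : Finset C).card = 3 := by
      rw [Finset.card_insert_of_notMem (by simp [Ne.symm hne, Ne.symm hne']),
        Finset.card_pair hd]
    have : Fintype (Subgroup.center C) := Fintype.ofFinite _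
    have h4 : ({1, e tC, t'} : Finset C).card ≤ Fintype.card (Subgroup.center C) := by
      rw [← Fintype.card_coe]
      refine Fintype.card_le_of_injective (fun x => ⟨x.1, ?_⟩) fun x y h => Subtype.ext (congrArg
        (fun z : Subgroup.center C => (z : C)) h)
      have := x.2
      simp only [Finset.mem_insert, Finset.mem_singleton] at this
      rcases this with h | h | h <;> rw [h]
      exacts [one_mem _, hz, ht']
    rw [h3, ← Nat.card_eq_fintype_card, hC.1] at h4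
    omega
  refine ⟨⟨C.subtype.comp e.toMonoidHom, C.subtype_injective.comp e.injective, fun y hy => ?_⟩, ?_⟩
  · have hy' : y ∈ C := by
      rw [hCdef, Subgroup.mem_centralizer_singleton_iff]
      have ht2 : ((e tC : C) : G) = t := congrArg Subtype.val heq
      simpa [ht2] using hy
    exact ⟨e.symm ⟨y, hy'⟩, by simp⟩
  · exact congrArg Subtype.val heq

namespace Setting

variable (S : Setting G)

open scoped _root_.Classical in
/-- The map on elements of the model. -/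
noncomputable def φ (x : R) : G := if h : x ∈ C0 then S.Φ ⟨x, h⟩ else 1

theorem φ_coe (x : C0) : S.φ x = S.Φ x := by rw [φ, dif_pos x.2]

theorem φ_mul {x y : R} (hx : x ∈ C0) (hy : y ∈ C0) : S.φ (x * y) = S.φ x * S.φ y := by
  rw [φ, φ, φ, dif_pos hx, dif_pos hy, dif_pos (mul_mem hx hy), ← map_mul]
  rfl

theorem φ_one : S.φ 1 = 1 := by
  rw [φ, dif_pos (one_mem _)]
  exact map_one S.Φ

theorem φ_inv {x : R} (hx : x ∈ C0) : S.φ x⁻¹ = (S.φ x)⁻¹ := by
  rw [φ, φ, dif_pos hx, dif_pos (inv_mem hx), ← map_inv]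
  rfl

theorem φ_conj {x y : R} (hx : x ∈ C0) (hy : y ∈ C0) :
    S.φ (x * y * x⁻¹) = S.φ x * S.φ y * (S.φ x)⁻¹ := by
  rw [S.φ_mul (mul_mem hx hy) (inv_mem hx), S.φ_mul hx hy, S.φ_inv hx]

theorem φ_inj {x y : R} (hx : x ∈ C0) (hy : y ∈ C0) (h : S.φ x = S.φ y) : x = y := by
  rw [φ, φ, dif_pos hx, dif_pos hy] at h
  exact congrArg Subtype.val (S.inj h)

/-- The central involution. -/
noncomputable abbrev T : G := S.φ tE

theorem T_eq : S.T = S.Φ tC := S.φ_coe tC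

theorem φ_comm {x : R} (hx : x ∈ C0) : S.φ x * S.T = S.T * S.φ x := by
  rw [← S.φ_mul hx tE_mem, ← S.φ_mul tE_mem hx, tE_central hx]

theorem exists_φ {y : G} (h : y * S.T = S.T * y) : ∃ x ∈ C0, y = S.φ x := by
  rw [T_eq] at h
  obtain ⟨x, rfl⟩ := S.mem_range y h
  exact ⟨x, x.2, (S.φ_coe x).symm⟩

theorem T_sq : S.T * S.T = 1 := by rw [← S.φ_mul tE_mem tE_mem, tE_sq, φ_one]

theorem T_ne_one : S.T ≠ 1 := fun h =>
  tE_ne_one (S.φ_inj tE_mem (one_mem _) (h.trans S.φ_one.symm))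

/-- The image of the elementary subgroup. -/
noncomputable def EG : Subgroup G where
  carrier := {y | ∃ e ∈ E0, S.φ e = y}
  one_mem' := ⟨1, one_mem _, S.φ_one⟩
  mul_mem' := by
    rintro _ _ ⟨a, ha, rfl⟩ ⟨b, hb, rfl⟩
    exact ⟨a * b, mul_mem ha hb, S.φ_mul (E0_le ha) (E0_le hb)⟩
  inv_mem' := by
    rintro _ ⟨a, ha, rfl⟩
    exact ⟨a⁻¹, inv_mem ha, S.φ_inv (E0_le ha)⟩

end Setting

theorem fx_bE {x : R} {v : R} (h : x = v * bE * v⁻¹) : fx x = 12 := by
  rw [h, fx_conj, fx_special.2.2.1]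

theorem fx_aE {x : R} {v : R} (h : x = v * aE * v⁻¹) : fx x = 36 := by
  rw [h, fx_conj, fx_special.2.1]

theorem bE_ne : bE ≠ 1 ∧ bE ≠ tE := by
  constructor <;> intro h <;> have h2 := fx_special.2.2.1 <;> rw [h] at h2
  · rw [fx_one] at h2; norm_num at h2
  · rw [fx_special.1] at h2; norm_num at h2

theorem pSq_ok : allBelow Data.pN (fun i => Nat.blt (Data.pSq i) Data.pN &&
    same (pW i ++ pW i) (pW (Data.pSq i)) && Nat.blt (Data.pType (Data.pSq i)) 4) = true := by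
  decide +kernel

/-- An involution of the third class is no square in the model. -/
theorem b_not_square {w : R} (hw : w ∈ C0) : w * w ≠ bE := by
  intro hwb
  have hp : IsPGroup 2 (Subgroup.zpowers w) := by
    rintro ⟨y, n, rfl⟩
    refine ⟨2, Subtype.ext ?_⟩
    show (w ^ n) ^ 2 ^ 2 = 1
    have h4 : w ^ 4 = 1 := by
      rw [show w ^ 4 = (w * w) * (w * w) by simp only [pow_succ, pow_zero, one_mul, mul_assoc], hwb, ae_be_sq.2]
    rw [show (2 : ℕ) ^ 2 = 4 by norm_num, ← zpow_natCast, ← zpow_mul, mul_comm, zpow_mul, zpow_natCast,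
      h4, one_zpow]
  obtain ⟨g, -, hgP⟩ := conj_into_P0 hp (Subgroup.zpowers_le.mpr hw)
  obtain ⟨i, hi, e⟩ := P0_listed (hgP w (Subgroup.mem_zpowers w))
  have h := allBelow_eq_true.mp pSq_ok i hi
  simp only [Bool.and_eq_true, Nat.blt_eq] at h
  obtain ⟨⟨hj, hsq⟩, hty⟩ := h
  have ej : ctx.ev (pW (Data.pSq i)) = g * bE * g⁻¹ := by
    rw [← eq_of_same hsq, Ctx.ev_append, ← e, ← hwb]
    group
  have h2 : ctx.ev (pW (Data.pSq i)) * ctx.ev (pW (Data.pSq i)) = 1 := by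
    rw [ej]; calc _ = g * (bE * bE) * g⁻¹ := by group
      _ = 1 := by rw [ae_be_sq.2]; group
  have hb := fx_bE ej
  rcases pType_spec hj h2 with ⟨-, h⟩ | ⟨-, h⟩ | ⟨-, v, -, h⟩ | ⟨h, -⟩
  · rw [h, fx_one] at hb; norm_num at hb
  · rw [h, fx_special.1] at hb; norm_num at hb
  · rw [fx_aE h] at hb; norm_num at hb
  · omega

theorem roots_ok : (same (pW Data.sqAIdx ++ pW Data.sqAIdx) [Data.tL] &&
    same (pW Data.sqAIdx ++ [Data.aL]) (Data.aL :: pW Data.sqAIdx) &&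
    same (pW Data.sqBIdx ++ pW Data.sqBIdx) [Data.tL] &&
    same (pW Data.sqBIdx ++ [Data.bL]) (Data.bL :: pW Data.sqBIdx) &&
    Nat.blt Data.sqAIdx Data.pN && Nat.blt Data.sqBIdx Data.pN) = true := by decide +kernel

/-- Each non-central involution commutes with a square root of the central one. -/
theorem exists_root {x : R} (hx : x ∈ C0) (h2 : x * x = 1) (h1 : x ≠ 1) (ht : x ≠ tE) :
    ∃ w ∈ C0, w * w = tE ∧ w * x = x * w := by
  have h := roots_ok
  simp only [Bool.and_eq_true, Nat.blt_eq] at h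
  obtain ⟨⟨⟨⟨⟨a1, a2⟩, b1⟩, b2⟩, ai⟩, bi⟩ := h
  have key : ∀ {i l : ℕ}, i < Data.pN → same (pW i ++ pW i) [Data.tL] = true →
      same (pW i ++ [l]) (l :: pW i) = true → ∀ v ∈ C0, x = v * ctx.gen l * v⁻¹ →
      ∃ w ∈ C0, w * w = tE ∧ w * x = x * w := by
    intro i l hi s1 s2 v hv hxv
    have hr := P0_le (pW_mem hi)
    have e1 := eq_of_same s1
    rw [Ctx.ev_append, ctx.ev_single] at e1
    have e2 := eq_of_same s2
    rw [Ctx.ev_append, ctx.ev_single, Ctx.ev_cons] at e2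
    set r := ctx.ev (pW i)
    refine ⟨v * r * v⁻¹, mul_mem (mul_mem hv hr) (inv_mem hv), ?_, ?_⟩
    · calc v * r * v⁻¹ * (v * r * v⁻¹) = v * (r * r) * v⁻¹ := by group
        _ = v * tE * v⁻¹ := by rw [e1]; rfl
        _ = tE := by rw [tE_central hv, mul_inv_cancel_right]
    · rw [hxv]
      calc v * r * v⁻¹ * (v * ctx.gen l * v⁻¹) = v * (r * ctx.gen l) * v⁻¹ := by group
        _ = v * (ctx.gen l * r) * v⁻¹ := by rw [e2]
        _ = _ := by group
  rcases involution_C0 hx h2 h1 with h | ⟨v, hv, h⟩ | ⟨v, hv, h⟩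
  · exact absurd h ht
  · exact key ai a1 a2 v hv h
  · exact key bi b1 b2 v hv h

theorem eConjW_ok : allBelow 3 (fun m => ltB 3 (Data.eConjW.getD m []) && allBelow 54 fun i =>
    forceN (Data.eImg (Nat.add (Nat.mul m 54) i)) fun r => cond (Nat.blt r 16)
      (same (ctx.inv (Data.eConjW.getD m []) ++ (pW (Data.pA.getD i 0) ++ Data.eConjW.getD m [])) (eW r))
      true) = true := by decide +kernel

theorem pA_ok : allBelow 54 (fun i => Nat.blt (Data.pA.getD i 0) Data.pN) = true ∧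
    allBelow Data.pN (fun i => !(Nat.beq (Data.pType i) 3) ||
      (Nat.blt (Data.pAPos i) 54 && Nat.beq (Data.pA.getD (Data.pAPos i) 0) i)) = true := by
  constructor <;> decide +kernel

theorem mulA_ok : allBelow 54 (fun i => allBelow 54 fun j =>
    Nat.blt (Data.mulA (Nat.add (Nat.mul i 54) j)) Data.pN &&
      same (pW (Data.pA.getD i 0) ++ pW (Data.pA.getD j 0))
        (pW (Data.mulA (Nat.add (Nat.mul i 54) j)))) = true := by decide +kernel

/-- The type of a product of two of the Sylow involutions. -/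
noncomputable abbrev tyA (i j : ℕ) : ℕ := Data.pType (Data.mulA (Nat.add (Nat.mul i 54) j))

theorem triples_ok : allBelow 54 (fun i => allBelow 54 fun j => !(Nat.beq (tyA i j) 3) ||
    allBelow 54 fun l => !(Nat.beq (tyA i l) 3) || !(Nat.beq (tyA j l) 3) ||
      !(Nat.beq (tyA (Data.pAPos (Data.mulA (Nat.add (Nat.mul i 54) j))) l) 3) ||
      (List.range 3).any (fun m => Nat.blt (Data.eImg (Nat.add (Nat.mul m 54) i)) 16 &&
        Nat.blt (Data.eImg (Nat.add (Nat.mul m 54) j)) 16 &&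
        Nat.blt (Data.eImg (Nat.add (Nat.mul m 54) l)) 16)) = true := by decide +kernel

theorem eMasks_ok : (allBelow 16 (fun e => (List.range 16).any fun m => Nat.beq (maskE 2 3 4 m) e) &&
    !(Nat.beq (em 1 3) 2) && !(Nat.beq (em 1 3) 0) && !(Nat.beq (em 1 4) 2) && !(Nat.beq (em 1 4) 0) &&
    !(Nat.beq (em 3 4) 2) && !(Nat.beq (em 3 4) 0) && !(Nat.beq (em (em 1 3) 4) 2) &&
    !(Nat.beq (em (em 1 3) 4) 0)) = true := by decide +kernel

/-- The elementary subgroup is generated by four of its elements. -/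
theorem E0_induction {p : R → Prop} (h1 : p 1)
    (hmul : ∀ x ∈ E0, ∀ y ∈ E0, p x → p y → p (x * y)) (hg : ∀ g < 4, p (ctx.ev (eW (g + 1))))
    {x : R} (hx : x ∈ E0) : p x := by
  obtain ⟨e, he, rfl⟩ := E0_listed hx
  obtain ⟨m, -, hm⟩ := List.any_eq_true.mp (allBelow_eq_true.mp mask_basis.2 e he)
  rw [← Nat.eq_of_beq_eq_true hm]
  have base : ∀ (b : Bool) (g : ℕ), g < 4 → cond b (g + 1) 0 < 16 ∧ p (ctx.ev (eW (cond b (g + 1) 0))) := by
    intro b g hg4
    cases b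
    · exact ⟨by simp, by rw [cond_false, eGen_idx.2]; exact h1⟩
    · exact ⟨by rw [cond_true]; omega, hg g hg4⟩
  have step : ∀ {u v : ℕ}, u < 16 ∧ p (ctx.ev (eW u)) → v < 16 ∧ p (ctx.ev (eW v)) →
      em u v < 16 ∧ p (ctx.ev (eW (em u v))) := by
    intro u v ⟨a1, a2⟩ ⟨b1, b2⟩
    refine ⟨(eW_mul a1 b1).1, ?_⟩
    rw [← (eW_mul a1 b1).2.1]
    exact hmul _ (eW_mem a1) _ (eW_mem b1) a2 b2
  exact (step (step (step (base (Nat.beq (Nat.mod m 2) 1) 0 (by norm_num))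
    (base (Nat.beq (Nat.mod (Nat.div m 2) 2) 1) 1 (by norm_num)))
    (base (Nat.beq (Nat.mod (Nat.div m 4) 2) 1) 2 (by norm_num)))
    (base (Nat.beq (Nat.mod (Nat.div m 8) 2) 1) 3 (by norm_num))).2

namespace Setting

variable (S : Setting G)

/-- The central involution is not fused to the third class. -/
theorem not_conj_T_B (g : G) : g * S.φ bE * g⁻¹ ≠ S.T := by
  intro hg
  have hBT : S.φ bE * S.T = S.T * S.φ bE := S.φ_comm bE_mem
  have hcomm : (g * S.T * g⁻¹) * S.T = S.T * (g * S.T * g⁻¹) := by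
    calc g * S.T * g⁻¹ * S.T = g * S.T * g⁻¹ * (g * S.φ bE * g⁻¹) := by rw [hg]
      _ = g * (S.T * S.φ bE) * g⁻¹ := by group
      _ = g * (S.φ bE * S.T) * g⁻¹ := by rw [hBT]
      _ = (g * S.φ bE * g⁻¹) * (g * S.T * g⁻¹) := by group
      _ = S.T * (g * S.T * g⁻¹) := by rw [hg]
  obtain ⟨x, hx, hxe⟩ := S.exists_φ hcomm
  have h2 : x * x = 1 := S.φ_inj (mul_mem hx hx) (one_mem _) (by
    rw [S.φ_mul hx hx, φ_one, ← hxe]
    calc g * S.T * g⁻¹ * (g * S.T * g⁻¹) = g * (S.T * S.T) * g⁻¹ := by group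
      _ = 1 := by rw [S.T_sq]; group)
  have h1 : x ≠ 1 := fun h => S.T_ne_one (conj_eq_one_iff.mp (hxe.trans (h ▸ S.φ_one)))
  have ht : x ≠ tE := fun h => by
    have e : g * S.T * g⁻¹ = g * S.φ bE * g⁻¹ := by rw [hxe, h, hg]
    exact bE_ne.2 (S.φ_inj tE_mem bE_mem (mul_left_cancel (mul_right_cancel e))).symm
  obtain ⟨w, hw, hw2, hwx⟩ := exists_root hx h2 h1 ht
  have hc : (g⁻¹ * S.φ w * g) * S.T = S.T * (g⁻¹ * S.φ w * g) := by
    have e : S.φ w * (g * S.T * g⁻¹) = g * S.T * g⁻¹ * S.φ w := by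
      rw [hxe, ← S.φ_mul hw hx, ← S.φ_mul hx hw, hwx]
    calc _ = g⁻¹ * (S.φ w * (g * S.T * g⁻¹)) * g := by group
      _ = g⁻¹ * (g * S.T * g⁻¹ * S.φ w) * g := by rw [e]
      _ = _ := by group
  obtain ⟨u, hu, hue⟩ := S.exists_φ hc
  refine b_not_square hu (S.φ_inj (mul_mem hu hu) bE_mem ?_)
  rw [S.φ_mul hu hu, ← hue]
  calc g⁻¹ * S.φ w * g * (g⁻¹ * S.φ w * g) = g⁻¹ * (S.φ w * S.φ w) * g := by group
    _ = g⁻¹ * S.T * g := by rw [← S.φ_mul hw hw, hw2]
    _ = S.φ bE := by rw [← hg]; group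

/-- The central involution is fused to the second class. -/
theorem exists_conj_A [Finite G] (hO : Cfsg.oddCore G = ⊥) (hZ : Subgroup.center G = ⊥) :
    ∃ g : G, g * S.φ aE * g⁻¹ = S.T := by
  by_contra hno
  have hord : orderOf S.T = 2 := orderOf_eq_prime_iff.mpr ⟨by rw [sq, S.T_sq], S.T_ne_one⟩
  have hiso : Cfsg.IsIsolatedInvolution S.T := by
    refine ⟨hord, fun g hc => ?_⟩
    by_contra hne
    obtain ⟨x, hx, hxe⟩ := S.exists_φ hc.eq.symm
    have h2 : x * x = 1 := S.φ_inj (mul_mem hx hx) (one_mem _) (by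
      rw [S.φ_mul hx hx, φ_one, ← hxe]
      calc g * S.T * g⁻¹ * (g * S.T * g⁻¹) = g * (S.T * S.T) * g⁻¹ := by group
        _ = 1 := by rw [S.T_sq]; group)
    have h1 : x ≠ 1 := fun h => S.T_ne_one (conj_eq_one_iff.mp (hxe.trans (h ▸ S.φ_one)))
    rcases involution_C0 hx h2 h1 with h | ⟨v, hv, h⟩ | ⟨v, hv, h⟩
    · exact hne (hxe.trans (h ▸ rfl))
    · rw [h, S.φ_conj hv aE_mem] at hxe
      refine hno ⟨g⁻¹ * S.φ v, ?_⟩
      calc g⁻¹ * S.φ v * S.φ aE * (g⁻¹ * S.φ v)⁻¹ = g⁻¹ * (S.φ v * S.φ aE * (S.φ v)⁻¹) * g := by group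
        _ = S.T := by rw [← hxe]; group
    · rw [h, S.φ_conj hv bE_mem] at hxe
      refine S.not_conj_T_B (g⁻¹ * S.φ v) ?_
      calc g⁻¹ * S.φ v * S.φ bE * (g⁻¹ * S.φ v)⁻¹ = g⁻¹ * (S.φ v * S.φ bE * (S.φ v)⁻¹) * g := by group
        _ = S.T := by rw [← hxe]; group
  have hcen : S.T ∈ Subgroup.center G := Subgroup.mem_center_iff.mpr fun g => by
    have h := Invol.zstar hiso g
    rw [hO, Subgroup.mem_bot, mul_inv_eq_one] at h
    exact (mul_inv_eq_iff_eq_mul.mp h).symm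
  rw [hZ, Subgroup.mem_bot] at hcen
  exact S.T_ne_one hcen

/-- An element of the normaliser of the elementary subgroup moves the central involution. -/
theorem exists_mover [Finite G] (hO : Cfsg.oddCore G = ⊥) (hZ : Subgroup.center G = ⊥) :
    ∃ n : G, (∀ e ∈ E0, n * S.φ e * n⁻¹ ∈ S.EG) ∧ n * S.φ aE * n⁻¹ = S.T := by
  obtain ⟨g, hg⟩ := S.exists_conj_A hO hZ
  have hf : ∀ e : R, e ∈ E0 → ∃ x ∈ C0, g * S.φ e * g⁻¹ = S.φ x := fun e he => by
    refine S.exists_φ ?_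
    conv_lhs => rw [← hg]
    conv_rhs => rw [← hg]
    calc _ = g * (S.φ e * S.φ aE) * g⁻¹ := by group
      _ = g * (S.φ aE * S.φ e) * g⁻¹ := by
        rw [← S.φ_mul (E0_le he) aE_mem, ← S.φ_mul aE_mem (E0_le he), E0_comm he aE_mem_E0]
      _ = _ := by group
  choose f hfC hfe using hf
  have hfm : ∀ x (hx : x ∈ E0) y (hy : y ∈ E0), f (x * y) (mul_mem hx hy) = f x hx * f y hy := by
    intro x hx y hy
    refine S.φ_inj (hfC _ _) (mul_mem (hfC _ _) (hfC _ _)) ?_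
    rw [S.φ_mul (hfC _ _) (hfC _ _), ← hfe, ← hfe, ← hfe, S.φ_mul (E0_le hx) (E0_le hy)]
    group
  let Q : Subgroup R :=
    { carrier := {y | ∃ x, ∃ hx : x ∈ E0, f x hx = y}
      one_mem' := ⟨1, one_mem _, S.φ_inj (hfC _ _) (one_mem _) (by rw [← hfe, φ_one]; group)⟩
      mul_mem' := by
        rintro _ _ ⟨x, hx, rfl⟩ ⟨y, hy, rfl⟩
        exact ⟨x * y, mul_mem hx hy, hfm x hx y hy⟩
      inv_mem' := by
        rintro _ ⟨x, hx, rfl⟩
        refine ⟨x⁻¹, inv_mem hx, S.φ_inj (hfC _ _) (inv_mem (hfC _ _)) ?_⟩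
        rw [S.φ_inv (hfC _ _), ← hfe, ← hfe, S.φ_inv (E0_le hx)]
        group }
  have hQC : Q ≤ C0 := by
    rintro _ ⟨x, hx, rfl⟩
    exact hfC _ _
  have hQp : IsPGroup 2 Q := by
    rintro ⟨_, x, hx, rfl⟩
    refine ⟨1, Subtype.ext ?_⟩
    show f x hx ^ 2 ^ 1 = 1
    rw [pow_one, sq, ← hfm x hx x hx]
    refine S.φ_inj (hfC _ _) (one_mem _) ?_
    rw [← hfe, E0_sq hx, φ_one]
    group
  obtain ⟨h, hh, hhP⟩ := conj_into_P0 hQp hQC
  have ht0 : f aE aE_mem_E0 = tE := S.φ_inj (hfC _ _) tE_mem (by rw [← hfe]; exact hg)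
  have hinj : ∀ x (hx : x ∈ E0) y (hy : y ∈ E0), f x hx = f y hy → x = y := by
    intro x hx y hy e
    refine S.φ_inj (E0_le hx) (E0_le hy) ?_
    have e' := congrArg S.φ e
    rw [← hfe, ← hfe] at e'
    exact mul_left_cancel (mul_right_cancel e')
  -- positions among the second class in the Sylow subgroup
  have hpos : ∀ x (hx : x ∈ E0), x ≠ 1 → x ≠ aE →
      ∀ p < Data.pN, h * f x hx * h⁻¹ = ctx.ev (pW p) →
      Data.pType p = 3 := by
    intro x hx h1 ha p hp e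
    have h2 : ctx.ev (pW p) * ctx.ev (pW p) = 1 := by
      rw [← e]
      calc _ = h * (f x hx * f x hx) * h⁻¹ := by group
        _ = h * f 1 (one_mem _) * h⁻¹ := by
          rw [← hfm x hx x hx]
          congr 2
          simp only [E0_sq hx]
        _ = 1 := by
          rw [show f 1 (one_mem _) = 1 from S.φ_inj (hfC _ _) (one_mem _) (by rw [← hfe, φ_one]; group)]
          group
    rcases pType_spec hp h2 with ⟨-, h0⟩ | ⟨-, h0⟩ | ⟨h3, -⟩ | ⟨-, v, hv, h0⟩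
    · rw [← e] at h0
      have h0' : f x hx = f 1 (one_mem _) :=
        (conj_eq_one_iff.mp h0).trans (S.φ_inj (hfC _ _) (one_mem _) (by rw [← hfe, φ_one]; group)).symm
      exact absurd (hinj _ hx _ _ h0') h1
    · rw [← e] at h0
      have h0' : f x hx = f aE aE_mem_E0 := by
        rw [ht0]
        calc f x hx = h⁻¹ * (h * f x hx * h⁻¹) * h := by group
          _ = h⁻¹ * (tE * h) := by rw [h0]; group
          _ = h⁻¹ * (h * tE) := by rw [tE_central hh]
          _ = tE := by group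
      exact absurd (hinj _ hx _ _ h0') ha
    · exact h3
    · exfalso
      have hu : h⁻¹ * v ∈ C0 := mul_mem (inv_mem hh) hv
      have h0' := hfe x hx
      rw [conj_eq_of (e.trans h0), S.φ_conj hu bE_mem] at h0'
      by_cases hxt : x = tE
      · subst hxt
        refine S.not_conj_T_B (g⁻¹ * S.φ (h⁻¹ * v)) ?_
        calc _ = g⁻¹ * (S.φ (h⁻¹ * v) * S.φ bE * (S.φ (h⁻¹ * v))⁻¹) * g := by group
          _ = S.T := by rw [← h0']; group
      · obtain ⟨w, hw, hxw⟩ := E0_involution hx h1 hxt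
        rw [hxw, S.φ_conj hw aE_mem] at h0'
        refine S.not_conj_T_B (g * (S.φ w)⁻¹ * g⁻¹ * S.φ (h⁻¹ * v)) ?_
        calc _ = g * (S.φ w)⁻¹ * g⁻¹ * (S.φ (h⁻¹ * v) * S.φ bE * (S.φ (h⁻¹ * v))⁻¹) * g * S.φ w * g⁻¹ := by group
          _ = g * (S.φ w)⁻¹ * g⁻¹ * (g * (S.φ w * S.φ aE * (S.φ w)⁻¹) * g⁻¹) * g * S.φ w * g⁻¹ := by rw [h0']
          _ = g * S.φ aE * g⁻¹ := by group
          _ = S.T := hg
  have hk := eMasks_ok
  simp only [Bool.and_eq_true, Bool.not_eq_true', allBelow_eq_true] at hk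
  obtain ⟨⟨⟨⟨⟨⟨⟨⟨-, k1⟩, k2⟩, k3⟩, k4⟩, k5⟩, k6⟩, k7⟩, k8⟩ := hk
  have hne : ∀ {i : ℕ}, i < 16 → Nat.beq i 2 = false → Nat.beq i 0 = false →
      ctx.ev (eW i) ≠ 1 ∧ ctx.ev (eW i) ≠ aE := by
    intro i hi n2 n0
    refine ⟨fun e => ?_, fun e => ?_⟩
    · have := eW_inj hi (show 0 < 16 by norm_num) (by rw [e, eGen_idx.2]; rfl)
      rw [this] at n0; exact Bool.noConfusion n0
    · have := eW_inj hi (show 2 < 16 by norm_num) (by rw [e, eW_a])
      rw [this] at n2; exact Bool.noConfusion n2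
  have hidx : ∀ {i : ℕ} (hi : i < 16), Nat.beq i 2 = false → Nat.beq i 0 = false →
      ∃ p < 54, h * f _ (eW_mem hi) * h⁻¹ = ctx.ev (pW (Data.pA.getD p 0)) := by
    intro i hi n2 n0
    obtain ⟨p, hp, e⟩ := P0_listed (hhP _ ⟨_, eW_mem hi, rfl⟩)
    have h3 := hpos _ (eW_mem hi) (hne hi n2 n0).1 (hne hi n2 n0).2 p hp e
    have hh' := allBelow_eq_true.mp pA_ok.2 p hp
    rw [h3] at hh'
    simp only [Nat.beq_refl, Bool.not_true, Bool.false_or, Bool.and_eq_true, Nat.blt_eq, Nat.beq_eq] at hh'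
    exact ⟨_, hh'.1, by rw [hh'.2]; exact e⟩
  have hprod : ∀ {i j : ℕ} (hi : i < 16) (hj : j < 16) {p q : ℕ}, p < 54 → q < 54 →
      h * f _ (eW_mem hi) * h⁻¹ = ctx.ev (pW (Data.pA.getD p 0)) →
      h * f _ (eW_mem hj) * h⁻¹ = ctx.ev (pW (Data.pA.getD q 0)) →
      Nat.beq (em i j) 2 = false → Nat.beq (em i j) 0 = false →
      tyA p q = 3 ∧ h * f _ (eW_mem (eW_mul hi hj).1) * h⁻¹ = ctx.ev (pW (Data.mulA (Nat.add (Nat.mul p 54) q))) ∧
        Data.mulA (Nat.add (Nat.mul p 54) q) < Data.pN := by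
    intro i j hi hj p q hp hq ep eq n2 n0
    have hm := allBelow_eq_true.mp (allBelow_eq_true.mp mulA_ok p hp) q hq
    simp only [Bool.and_eq_true, Nat.blt_eq] at hm
    have e : h * f _ (eW_mem (eW_mul hi hj).1) * h⁻¹ = ctx.ev (pW (Data.mulA (Nat.add (Nat.mul p 54) q))) := by
      rw [← eq_of_same hm.2, Ctx.ev_append, ← ep, ← eq]
      simp only [← (eW_mul hi hj).2.1]
      rw [hfm _ (eW_mem hi) _ (eW_mem hj)]
      group
    exact ⟨hpos _ _ (hne (eW_mul hi hj).1 n2 n0).1 (hne (eW_mul hi hj).1 n2 n0).2 _ hm.1 e, e, hm.1⟩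
  obtain ⟨p₁, hp₁, e₁⟩ := hidx (show 1 < 16 by norm_num) rfl rfl
  obtain ⟨p₂, hp₂, e₂⟩ := hidx (show 3 < 16 by norm_num) rfl rfl
  obtain ⟨p₃, hp₃, e₃⟩ := hidx (show 4 < 16 by norm_num) rfl rfl
  obtain ⟨t₁₂, f₁₂, hm₁₂⟩ := hprod (by norm_num) (by norm_num) hp₁ hp₂ e₁ e₂ k1 k2
  obtain ⟨t₁₃, -, -⟩ := hprod (by norm_num) (by norm_num) hp₁ hp₃ e₁ e₃ k3 k4
  obtain ⟨t₂₃, -, -⟩ := hprod (by norm_num) (by norm_num) hp₂ hp₃ e₂ e₃ k5 k6
  have hu := allBelow_eq_true.mp pA_ok.2 _ hm₁₂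
  rw [show Data.pType (Data.mulA (Nat.add (Nat.mul p₁ 54) p₂)) = 3 from t₁₂] at hu
  simp only [Nat.beq_refl, Bool.not_true, Bool.false_or, Bool.and_eq_true, Nat.blt_eq, Nat.beq_eq] at hu
  obtain ⟨t₁₂₃, -, -⟩ := hprod (eW_mul (show 1 < 16 by norm_num) (show 3 < 16 by norm_num)).1
    (by norm_num) hu.1 hp₃ (by rw [hu.2]; exact f₁₂) e₃ k7 k8
  have htr := allBelow_eq_true.mp (allBelow_eq_true.mp triples_ok p₁ hp₁) p₂ hp₂
  rw [t₁₂] at htr
  simp only [Nat.beq_refl, Bool.not_true, Bool.false_or, allBelow_eq_true] at htr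
  have htr' := htr p₃ hp₃
  rw [t₁₃, t₂₃, t₁₂₃] at htr'
  simp only [Nat.beq_refl, Bool.not_true, Bool.false_or, List.any_eq_true, List.mem_range,
    Bool.and_eq_true, Nat.blt_eq] at htr'
  obtain ⟨m, hm, ⟨i₁, i₂⟩, i₃⟩ := htr'
  have hcm := allBelow_eq_true.mp eConjW_ok m hm
  simp only [Bool.and_eq_true, allBelow_eq_true, forceN_eq] at hcm
  set c := ctx.ev (Data.eConjW.getD m []) with hcdef
  have hc : c ∈ C0 := ev_mem_of_small (ltB_iff.mp hcm.1)
  have hcw : ∀ s ∈ Data.eConjW.getD m [], s < ctx.k := fun s hs =>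
    lt_of_lt_of_le (ltB_iff.mp hcm.1 s hs) three_le
  have himg : ∀ {p : ℕ}, p < 54 → Data.eImg (Nat.add (Nat.mul m 54) p) < 16 →
      c⁻¹ * ctx.ev (pW (Data.pA.getD p 0)) * c ∈ E0 := by
    intro p hp hi
    have := hcm.2 p hp
    rw [show Nat.blt (Data.eImg (Nat.add (Nat.mul m 54) p)) 16 = true from Nat.blt_eq.mpr hi, cond_true] at this
    have e := eq_of_same this
    rw [Ctx.ev_append, Ctx.ev_append, ctx.ev_inv hcw, ← mul_assoc] at e
    rw [e]
    exact eW_mem hi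
  refine ⟨(S.φ c)⁻¹ * S.φ h * g, fun e he => ?_, ?_⟩
  · have key : ∀ x (hx : x ∈ E0), c⁻¹ * (h * f x hx * h⁻¹) * c ∈ E0 := by
      intro x hx
      refine E0_induction (p := fun x => ∀ hx : x ∈ E0, c⁻¹ * (h * f x hx * h⁻¹) * c ∈ E0) ?_ ?_ ?_ hx hx
      · intro h1
        rw [show f 1 h1 = 1 from S.φ_inj (hfC _ _) (one_mem _) (by rw [← hfe, φ_one]; group)]
        simp
      · intro x hx y hy ihx ihy hxy
        have := mul_mem (ihx hx) (ihy hy)
        rw [hfm x hx y hy]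
        convert this using 1
        group
      · intro q hq hmem
        interval_cases q
        · rw [e₁]; exact himg hp₁ i₁
        · simp only [show (1 : ℕ) + 1 = 2 from rfl, eW_a] at hmem ⊢
          rw [ht0, tE_central hh, mul_inv_cancel_right, mul_assoc, ← tE_central hc, inv_mul_cancel_left]
          exact tE_mem_E0
        · rw [e₂]; exact himg hp₂ i₂
        · rw [e₃]; exact himg hp₃ i₃
    refine ⟨_, key e he, ?_⟩
    have hfx := hfC e he
    have a1 : h * f e he * h⁻¹ ∈ C0 := mul_mem (mul_mem hh hfx) (inv_mem hh)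
    rw [S.φ_mul (mul_mem (inv_mem hc) a1) hc, S.φ_mul (inv_mem hc) a1, S.φ_inv hc,
      S.φ_conj hh hfx, ← hfe]
    group
  · calc (S.φ c)⁻¹ * S.φ h * g * S.φ aE * ((S.φ c)⁻¹ * S.φ h * g)⁻¹
        = (S.φ c)⁻¹ * (S.φ h * (g * S.φ aE * g⁻¹) * (S.φ h)⁻¹) * S.φ c := by group
      _ = (S.φ c)⁻¹ * (S.T * S.φ c) := by rw [hg, S.φ_comm hh]; group
      _ = S.T := by rw [← S.φ_comm hc]; group

end Setting

end Cfsg.Agent.Co3Rec
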