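import Cfsg.Agent.Co3Rec.Sift
import Cfsg.Agent.Co3Rec.Setting

/-!
The centraliser of a pure four group in the model modulo that group, its involutions of the first
class, a bound for its subgroups avoiding them, and the conjugacy of the pure four groups.
-/

set_option autoImplicit false
set_option maxRecDepth 100000

namespace Cfsg.Agent.Co3Rec

open Cfsg Cfsg.Agent.Compute Cfsg.Agent.StemCert

/-- The four elements of the pure four group. -/
noncomputable abbrev wW (r : ℕ) : List ℕ := xw (Data.xW.getD r 0)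

/-- The representative of a class. -/
noncomputable abbrev repW (c : ℕ) : List ℕ := xw (Data.xRep c)

/-- A listed involution of the first class. -/
noncomputable abbrev tW (k : ℕ) : List ℕ := xw (Data.xT.getD k 0)

/-- The product of two classes. -/
noncomputable abbrev mm (a b : ℕ) : ℕ := Data.xMul (Nat.add (Nat.mul a 120) b)

/-- The classes of the involutions of the first class. -/
noncomputable def goodC (c : ℕ) : Bool := Data.xGood.any (Nat.beq c)

theorem wW_ok : (same (wW 0) [] && same (wW 1) [Data.bL] && same (wW 2) [Data.zL] &&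
    same (wW 3) [Data.zL, Data.bL] && same [Data.bL, Data.zL] [Data.zL, Data.bL] &&
    same [Data.zL, Data.zL] [] && same (repW 0) [] &&
    allBelow 4 (fun r => Nat.blt (Data.xW.getD r 0) Data.x0N)) = true := by decide +kernel

theorem cls_ok : allBelow Data.x0N (fun i => Nat.blt (Data.xCls i) 120 && Nat.blt (Data.xRem i) 4 &&
    Nat.blt (Data.xRep (Data.xCls i)) Data.x0N &&
    same (xw i) (repW (Data.xCls i) ++ wW (Data.xRem i))) = true := by decide +kernel

theorem mul_ok : allBelow 120 (fun a => Nat.blt (Data.xRep a) Data.x0N && allBelow 120 fun b =>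
    Nat.blt (mm a b) 120 && Nat.blt (Data.xMulRem (Nat.add (Nat.mul a 120) b)) 4 &&
      same (repW a ++ repW b) (repW (mm a b) ++ wW (Data.xMulRem (Nat.add (Nat.mul a 120) b)))) = true := by
  decide +kernel

theorem xT_ok : allBelow 15 (fun k => Nat.blt (Data.xT.getD k 0) Data.x0N &&
    ltB Data.k (Data.xTW.getD k []) && same (tW k) (cjW (Data.xTW.getD k []) Data.tL) &&
    allBelow 15 (fun j => Nat.beq j k || allBelow 4 fun r => !(same (tW j) (tW k ++ wW r)))) = true := by
  decide +kernel

theorem xT_complete : allBelow Data.x0N (fun i => !(Nat.beq (fixW Data.codes (xw i)) 36) ||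
    !(same (xw i ++ xw i) []) || (List.range 15).any (fun k => same (xw i) (tW k))) = true := by
  decide +kernel

theorem good_ok : allBelow 120 (fun c => !(goodC c) ||
    (List.range 15).any (fun k => (List.range 4).any fun r => same (repW c) (tW k ++ wW r))) = true := by
  decide +kernel

/-- Products in two classes deciding whether they generate an involution of the first class. -/
def clsWords : List (List ℕ) :=
  [[0,0,1,1],[0,1,0,1],[1,1],[0,0,0],[0,0],[1,1,1],[0,1],[0,1,1],[0,1,1,0,1,1],[0,0,1,0,0,1],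
    [0,0,1,0,1],[0,0,1]]

/-- The value of such a product. -/
noncomputable def evalC (a b : ℕ) (w : List ℕ) : ℕ :=
  List.rec (motive := fun _ => ℕ) 0 (fun s _ r => mm (cond (Nat.beq s 0) a b) r) w

/-- No listed product of the two is of the first class. -/
noncomputable def compat (a b : ℕ) : Bool := !(clsWords.any fun w => goodC (evalC a b w))

/-- The number of compatible classes. -/
noncomputable def degC (a : ℕ) : ℕ :=
  Nat.rec (motive := fun _ => ℕ) 0 (fun b r => cond (compat a b) (Nat.succ r) r) 120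

/-- The classes of the involutions compatible with more classes. -/
def heavyC : List ℕ := [2, 6, 28, 52, 53, 57, 62, 108, 111, 119]

set_option maxHeartbeats 4000000 in
theorem deg_ok : allBelow 120 (fun a => Nat.beq a 0 || heavyC.any (Nat.beq a) || Nat.ble (degC a) 14) = true ∧
    heavyC.all (fun a => heavyC.all fun b => Nat.beq a b ||
      (!(Nat.beq (mm a b) 0) && !(heavyC.any (Nat.beq (mm a b))))) = true := by
  constructor <;> decide +kernel

theorem degC_eq (a : ℕ) : ∀ n : ℕ,
    (Nat.rec (motive := fun _ => ℕ) 0 (fun b r => cond (compat a b) (Nat.succ r) r) n : ℕ) =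
      ((Finset.range n).filter fun b => compat a b = true).card
  | 0 => by simp
  | n + 1 => by
    rw [Finset.range_add_one, Finset.filter_insert]
    show cond _ _ _ = _
    rw [degC_eq a n]
    cases h : compat a n
    · simp
    · simp [Finset.card_insert_of_notMem]

/-- A set of classes closed under products and avoiding the first class is small. -/
theorem small_closed (S : Finset ℕ) (hS : ∀ a ∈ S, a < 120) (h0 : 0 ∈ S)
    (hmul : ∀ a ∈ S, ∀ b ∈ S, mm a b ∈ S) (hgood : ∀ a ∈ S, goodC a = false) : S.card ≤ 14 := by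
  have hcomp : ∀ a ∈ S, ∀ b ∈ S, compat a b = true := by
    intro a ha b hb
    have hev : ∀ w, evalC a b w ∈ S := by
      intro w
      induction w with
      | nil => exact h0
      | cons s w ih =>
        show mm (cond (Nat.beq s 0) a b) (evalC a b w) ∈ S
        cases Nat.beq s 0
        exacts [hmul _ hb _ ih, hmul _ ha _ ih]
    simp only [compat, Bool.not_eq_true', ← Bool.not_eq_true, List.any_eq_true, not_exists, not_and]
    intro w _
    rw [hgood _ (hev w)]
    simp
  by_cases hl : ∃ a ∈ S, a ≠ 0 ∧ heavyC.any (Nat.beq a) = false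
  · obtain ⟨a, ha, ha0, hah⟩ := hl
    have h := allBelow_eq_true.mp deg_ok.1 a (hS a ha)
    rw [hah, show Nat.beq a 0 = false by rw [← Bool.not_eq_true, Nat.beq_eq]; exact ha0] at h
    simp only [Bool.false_or, Nat.ble_eq] at h
    refine le_trans (Finset.card_le_card fun b hb => ?_) (((degC_eq a 120).symm.trans_le) h)
    simp only [Finset.mem_filter, Finset.mem_range]
    exact ⟨hS b hb, hcomp a ha b hb⟩
  · push Not at hl
    have hH : ∀ a ∈ S, a ≠ 0 → heavyC.any (Nat.beq a) = true := fun a ha h => by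
      have := hl a ha h
      simpa using this
    have htwo : ∀ a ∈ S, ∀ b ∈ S, a ≠ 0 → b ≠ 0 → a = b := by
      intro a ha b hb a0 b0
      obtain ⟨a', ha', ea⟩ := List.any_eq_true.mp (hH a ha a0)
      obtain ⟨b', hb', eb⟩ := List.any_eq_true.mp (hH b hb b0)
      rw [← Nat.eq_of_beq_eq_true ea] at ha'
      rw [← Nat.eq_of_beq_eq_true eb] at hb'
      have h := List.all_eq_true.mp (List.all_eq_true.mp deg_ok.2 a ha') b hb'
      simp only [Bool.or_eq_true, Nat.beq_eq, Bool.and_eq_true, Bool.not_eq_true'] at h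
      rcases h with h | ⟨h1, h2⟩
      · exact h
      · exfalso
        have hne : mm a b ≠ 0 := fun e => by rw [e] at h1; simp at h1
        rw [hH _ (hmul a ha b hb) hne] at h2
        exact Bool.noConfusion h2
    have h1 : (S.erase 0).card ≤ 1 := Finset.card_le_one.mpr fun a ha b hb => by
      rw [Finset.mem_erase] at ha hb
      exact htwo a ha.2 b hb.2 ha.1 hb.1
    have := Finset.card_erase_add_one h0
    omega

theorem bL_lt : Data.bL < ctx.k := zL_lt.2

theorem badConj_ok : allBelow (List.length Data.pB) (fun p => allBelow (List.length Data.pB) fun q =>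
    forceN (Data.pB.getD p 0) fun i => forceN (Data.pB.getD q 0) fun j =>
      !(same (pW i ++ pW j) (pW j ++ pW i)) || Nat.beq i j ||
      (Nat.blt (Data.mulB (Nat.add (Nat.mul p (List.length Data.pB)) q)) Data.pN &&
        same (pW i ++ pW j) (pW (Data.mulB (Nat.add (Nat.mul p (List.length Data.pB)) q))) &&
        (Nat.blt (Data.pType (Data.mulB (Nat.add (Nat.mul p (List.length Data.pB)) q))) 4 ||
          (Nat.blt (Data.badK (Nat.add (Nat.mul p (List.length Data.pB)) q)) (List.length Data.badLetters) &&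
            forceN (Data.badLetters.getD (Data.badK (Nat.add (Nat.mul p (List.length Data.pB)) q)) 0) fun l =>
              ltB Data.k [l] && same [l, Data.bL] [Data.bL, l] &&
              (same (ctx.inv [l] ++ ctx.inv (unW (Data.pConj.get i)) ++ pW j ++
                  (unW (Data.pConj.get i) ++ [l])) [Data.zL] ||
                same (ctx.inv [l] ++ ctx.inv (unW (Data.pConj.get i)) ++ pW j ++
                  (unW (Data.pConj.get i) ++ [l])) [Data.zL, Data.bL]))))) = true ∧
    allBelow Data.pN (fun i => Nat.blt (Data.pType i) 4 || Data.pB.any (Nat.beq i)) = true := by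
  constructor <;> decide +kernel

/-- An involution of the third class is no square. -/
theorem b_not_square_R {w : R} : w * w ≠ bE := by
  intro hwb
  have hp : IsPGroup 2 (Subgroup.zpowers w) := by
    rintro ⟨y, n, rfl⟩
    refine ⟨2, Subtype.ext ?_⟩
    show (w ^ n) ^ 2 ^ 2 = 1
    have h4 : w ^ 4 = 1 := by
      rw [show w ^ 4 = (w * w) * (w * w) by simp only [pow_succ, pow_zero, one_mul, mul_assoc], hwb,
        ae_be_sq.2]
    rw [show (2 : ℕ) ^ 2 = 4 by norm_num, ← zpow_natCast, ← zpow_mul, mul_comm, zpow_mul, zpow_natCast,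
      h4, one_zpow]
  obtain ⟨g, hgP⟩ := conj_into_P0' hp
  obtain ⟨i, hi, e⟩ := P0_listed (hgP w (Subgroup.mem_zpowers w))
  have h := allBelow_eq_true.mp pSq_ok i hi
  simp only [Bool.and_eq_true, Nat.blt_eq] at h
  obtain ⟨⟨hj, hsq⟩, hty⟩ := h
  have ej : ctx.ev (pW (Data.pSq i)) = g * bE * g⁻¹ := by
    rw [← eq_of_same hsq, Ctx.ev_append, ← e, ← hwb]
    group
  have h2 : ctx.ev (pW (Data.pSq i)) * ctx.ev (pW (Data.pSq i)) = 1 := by
    rw [ej]; calc _ = g * (bE * bE) * g⁻¹ := by group
      _ = 1 := by rw [ae_be_sq.2]; group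
  have hb := fx_bE ej
  rcases pType_spec hj h2 with ⟨-, h⟩ | ⟨-, h⟩ | ⟨-, v, -, h⟩ | ⟨h, -⟩
  · rw [h, fx_one] at hb; norm_num at hb
  · rw [h, fx_special.1] at hb; norm_num at hb
  · rw [fx_aE h] at hb; norm_num at hb
  · omega

/-- A pure four group through the involution is conjugate to the standard one fixing it. -/
theorem four_group_conj {x : R} (hxb : x * bE = bE * x) (hx : ∃ g : R, x = g * bE * g⁻¹)
    (hxy : ∃ g : R, bE * x = g * bE * g⁻¹) :
    ∃ k : R, k * bE = bE * k ∧ (k * x * k⁻¹ = zE ∨ k * x * k⁻¹ = zE * bE) := by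
  obtain ⟨g₁, hg₁⟩ := hx
  obtain ⟨g₂, hg₂⟩ := hxy
  have hx2 : x * x = 1 := by
    rw [hg₁]; calc _ = g₁ * (bE * bE) * g₁⁻¹ := by group
      _ = 1 := by rw [ae_be_sq.2]; group
  -- the four group as a subgroup
  let V : Subgroup R :=
    { carrier := {y | y = 1 ∨ y = bE ∨ y = x ∨ y = bE * x}
      one_mem' := Or.inl rfl
      mul_mem' := by
        have b2 := ae_be_sq.2
        have b2' : ∀ y : R, bE * (bE * y) = y := fun y => by rw [← mul_assoc, b2, one_mul]
        have x2' : ∀ y : R, x * (x * y) = y := fun y => by rw [← mul_assoc, hx2, one_mul]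
        have c' : ∀ y : R, x * (bE * y) = bE * (x * y) := fun y => by rw [← mul_assoc, hxb, mul_assoc]
        rintro p q (rfl | rfl | rfl | rfl) (rfl | rfl | rfl | rfl) <;>
          simp [mul_assoc, b2, b2', hx2, x2', hxb, c']
      inv_mem' := by
        have b2 := inv_eq_of_mul_eq_one_right ae_be_sq.2
        have x2 := inv_eq_of_mul_eq_one_right hx2
        rintro p (rfl | rfl | rfl | rfl)
        · exact Or.inl inv_one
        · exact Or.inr (Or.inl b2)
        · exact Or.inr (Or.inr (Or.inl x2))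
        · exact Or.inr (Or.inr (Or.inr (by rw [mul_inv_rev, b2, x2, hxb]))) }
  have hsq : ∀ y ∈ V, y * y = 1 := by
    rintro y (rfl | rfl | rfl | rfl)
    · exact one_mul 1
    · exact ae_be_sq.2
    · exact hx2
    · calc bE * x * (bE * x) = bE * (x * bE) * x := by group
        _ = bE * (bE * x) * x := by rw [hxb]
        _ = (bE * bE) * (x * x) := by group
        _ = 1 := by rw [ae_be_sq.2, hx2, one_mul]
  have hV : IsPGroup 2 V := fun y => ⟨1, by rw [pow_one, sq]; exact Subtype.ext (hsq y y.2)⟩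
  obtain ⟨g, hgP⟩ := conj_into_P0' hV
  obtain ⟨i, hi, ei⟩ := P0_listed (hgP bE (Or.inr (Or.inl rfl)))
  obtain ⟨j, hj, ej⟩ := P0_listed (hgP x (Or.inr (Or.inr (Or.inl rfl))))
  have e2 : ∀ {y : R} {n : ℕ}, y ∈ V → g * y * g⁻¹ = ctx.ev (pW n) → ctx.ev (pW n) * ctx.ev (pW n) = 1 := by
    intro y n hy e
    rw [← e]
    calc _ = g * (y * y) * g⁻¹ := by group
      _ = 1 := by rw [hsq y hy]; group
  have ty : ∀ {n : ℕ}, n < Data.pN → ctx.ev (pW n) * ctx.ev (pW n) = 1 → fx (ctx.ev (pW n)) = 12 →
      4 ≤ Data.pType n := by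
    intro n hn h2 hfx
    rcases pType_spec hn h2 with ⟨-, h⟩ | ⟨-, h⟩ | ⟨-, v, -, h⟩ | ⟨h, -⟩
    · rw [h, fx_one] at hfx; norm_num at hfx
    · rw [h, fx_special.1] at hfx; norm_num at hfx
    · rw [fx_aE h] at hfx; norm_num at hfx
    · exact h
  have ti : 4 ≤ Data.pType i := ty hi (e2 (Or.inr (Or.inl rfl)) ei) (fx_bE ei.symm)
  have tj : 4 ≤ Data.pType j := ty hj (e2 (Or.inr (Or.inr (Or.inl rfl))) ej)
    (fx_bE (v := g * g₁) (by rw [← ej, hg₁]; group))
  obtain ⟨hok, hall⟩ := badConj_ok
  have pos : ∀ {n : ℕ}, n < Data.pN → 4 ≤ Data.pType n →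
      ∃ p < List.length Data.pB, Data.pB.getD p 0 = n := by
    intro n hn ht
    have h := allBelow_eq_true.mp hall n hn
    simp only [Bool.or_eq_true, Nat.blt_eq] at h
    rcases h with h | h
    · omega
    obtain ⟨r, hr, e⟩ := List.any_eq_true.mp h
    obtain ⟨p, hp, rfl⟩ := List.getElem_of_mem hr
    exact ⟨p, hp, by rw [List.getD_eq_getElem _ _ hp]; exact (Nat.eq_of_beq_eq_true e).symm⟩
  obtain ⟨p, hp, rfl⟩ := pos hi ti
  obtain ⟨q, hq, rfl⟩ := pos hj tj
  have h := allBelow_eq_true.mp (allBelow_eq_true.mp hok p hp) q hq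
  simp only [forceN_eq, Bool.or_eq_true, Bool.not_eq_true', Bool.and_eq_true, Nat.beq_eq,
    Nat.blt_eq] at h
  set i := Data.pB.getD p 0
  set j := Data.pB.getD q 0
  have hcm : same (pW i ++ pW j) (pW j ++ pW i) = true := same_of_eq
    (fun s hs => by rcases List.mem_append.mp hs with hs | hs <;> [exact pW_lt hi s hs; exact pW_lt hj s hs])
    (fun s hs => by rcases List.mem_append.mp hs with hs | hs <;> [exact pW_lt hj s hs; exact pW_lt hi s hs])
    (by
      rw [Ctx.ev_append, Ctx.ev_append, ← ei, ← ej]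
      calc g * bE * g⁻¹ * (g * x * g⁻¹) = g * (bE * x) * g⁻¹ := by group
        _ = g * (x * bE) * g⁻¹ := by rw [hxb]
        _ = _ := by group)
  rcases h with (h | h) | ⟨⟨hm, hsame⟩, hrest⟩
  · rw [hcm] at h; exact Bool.noConfusion h
  · exfalso
    have : g * bE * g⁻¹ = g * x * g⁻¹ := by rw [ei, ej, h]
    have hxb' : bE = x := mul_left_cancel (mul_right_cancel this)
    rw [← hxb', ae_be_sq.2] at hg₂
    exact absurd (fx_bE hg₂) (by rw [fx_one]; norm_num)
  rcases hrest with ht | ⟨hlt, hl⟩
  · exfalso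
    have e := eq_of_same hsame
    rw [Ctx.ev_append, ← ei, ← ej] at e
    have hgy : g * (bE * x) * g⁻¹ = ctx.ev (pW (Data.mulB (Nat.add (Nat.mul p (List.length Data.pB)) q))) := by
      rw [← e]; group
    have := ty hm (e2 (Or.inr (Or.inr (Or.inr rfl))) hgy) (fx_bE (v := g * g₂) (by rw [← hgy, hg₂]; group))
    omega
  set l := Data.badLetters.getD (Data.badK (Nat.add (Nat.mul p (List.length Data.pB)) q)) 0
  obtain ⟨⟨hll, hlb⟩, hz⟩ := hl
  have hconj := allBelow_eq_true.mp pType_ok i hi
  rw [show Nat.beq (Data.pType i) 0 = false by rw [← Bool.not_eq_true, Nat.beq_eq]; omega,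
    show Nat.beq (Data.pType i) 1 = false by rw [← Bool.not_eq_true, Nat.beq_eq]; omega,
    show Nat.beq (Data.pType i) 2 = false by rw [← Bool.not_eq_true, Nat.beq_eq]; omega,
    show Nat.beq (Data.pType i) 3 = false by rw [← Bool.not_eq_true, Nat.beq_eq]; omega] at hconj
  simp only [cond_false, Bool.and_eq_true] at hconj
  have hic := eq_of_same hconj.2
  rw [ev_cjW hconj.1, ← ei] at hic
  set c := ctx.ev (unW (Data.pConj.get i))
  set m := ctx.gen l
  have hmb : m * bE = bE * m := by
    have := eq_of_same hlb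
    simpa [Ctx.ev_cons, bE, m] using this
  have hbconj : c⁻¹ * g * bE * (c⁻¹ * g)⁻¹ = bE := by
    calc c⁻¹ * g * bE * (c⁻¹ * g)⁻¹ = c⁻¹ * (g * bE * g⁻¹) * c := by group
      _ = bE := by rw [hic, show ctx.gen Data.bL = bE from rfl]; group
  refine ⟨m⁻¹ * c⁻¹ * g, ?_, ?_⟩
  · have h1 : c⁻¹ * g * bE = bE * (c⁻¹ * g) := mul_inv_eq_iff_eq_mul.mp hbconj
    calc m⁻¹ * c⁻¹ * g * bE = m⁻¹ * (c⁻¹ * g * bE) := by group
      _ = m⁻¹ * (bE * m) * (m⁻¹ * (c⁻¹ * g)) := by rw [h1]; group
      _ = bE * (m⁻¹ * c⁻¹ * g) := by rw [← hmb]; group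
  have hlt' : ∀ s ∈ unW (Data.pConj.get i), s < ctx.k := lt_of_inC hconj.1
  have key : ∀ w : List ℕ, same (ctx.inv [l] ++ ctx.inv (unW (Data.pConj.get i)) ++ pW j ++
      (unW (Data.pConj.get i) ++ [l])) w = true →
      m⁻¹ * c⁻¹ * g * x * (m⁻¹ * c⁻¹ * g)⁻¹ = ctx.ev w := by
    intro w hw
    have e := eq_of_same hw
    rw [Ctx.ev_append, Ctx.ev_append, Ctx.ev_append, Ctx.ev_append, ctx.ev_inv hlt',
      ctx.ev_inv (ltB_iff.mp hll), ctx.ev_single, ← ej] at e
    rw [← e]
    simp only [c, m]
    group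
  rcases hz with hz | hz
  · left
    rw [key _ hz, ctx.ev_single]
    rfl
  · right
    rw [key _ hz, Ctx.ev_cons, ctx.ev_single]
    rfl

end Cfsg.Agent.Co3Rec
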