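import Cfsg.Agent.SympMult.SpSix
import Cfsg.Prelude.Def_SporadicB
import Cfsg.Prelude.Def_KGroupFacts

/-!
A perfect central extension of Sp6(2) with kernel of order two is unique.
-/

set_option autoImplicit false

namespace Cfsg.Agent.Co3Rec

open Subgroup
open scoped commutatorElement

/-- A carrier without operations. -/
def Carrier (n : ℕ) : Type := Fin n

instance (n : ℕ) : Finite (Carrier n) := inferInstanceAs (Finite (Fin n))

/-- The group Sp6(2). -/
abbrev Sp : Type := ↥(Matrix.symplecticGroup (Fin 3) (ZMod 2))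

theorem card_zmod_two : Fintype.card (ZMod 2) = 2 := ZMod.card 2

theorem card_Sp : Nat.card Sp = 1451520 := SympMult.SpSix.card_sp card_zmod_two

theorem center_Sp : center Sp = ⊥ := by
  apply Subgroup.eq_bot_of_card_eq
  rw [Cfsg.Agent.Classical.card_center_symplectic (by norm_num), card_zmod_two]
  rfl

/-- A stem extension of Sp6(2) has kernel of order at most two. -/
theorem card_stem_ker_le {Γ : Type} [Group Γ] [Finite Γ] (σ : Γ →* Sp) (h : Cfsg.IsStemExtension σ) :
    Nat.card σ.ker ≤ 2 := by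
  obtain ⟨π, hπ⟩ := SympMult.SpSix.kernel_bound card_zmod_two σ h
  refine (Nat.card_le_card_of_surjective π hπ).trans ?_
  simp

theorem perfect_Sp_of {H : Type*} [Group H] (σ : H →* Sp) (hs : Function.Surjective σ)
    (hH : commutator H = ⊤) : commutator Sp = ⊤ := by
  rw [_root_.commutator_def, ← Subgroup.map_top_of_surjective σ hs, ← Subgroup.map_commutator,
    ← _root_.commutator_def, hH]

/-- The two perfect central extensions with kernels of order two are isomorphic. -/
theorem stem_iso {H₁ H₂ : Type} [Group H₁] [Finite H₁] [Group H₂] [Finite H₂]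
    (σ₁ : H₁ →* Sp) (σ₂ : H₂ →* Sp) (hs₁ : Function.Surjective σ₁) (hs₂ : Function.Surjective σ₂)
    (hz₁ : σ₁.ker ≤ center H₁) (hz₂ : σ₂.ker ≤ center H₂)
    (hp₁ : commutator H₁ = ⊤) (hp₂ : commutator H₂ = ⊤)
    (hk₁ : Nat.card σ₁.ker = 2) (hk₂ : Nat.card σ₂.ker = 2) : Nonempty (H₁ ≃* H₂) := by
  classical
  let Γ : Subgroup (H₁ × H₂) :=
    { carrier := {p | σ₁ p.1 = σ₂ p.2}
      one_mem' := by simp
      mul_mem' := fun {a b} ha hb => by
        simp only [Set.mem_setOf_eq, Prod.fst_mul, Prod.snd_mul, map_mul] at ha hb ⊢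
        rw [ha, hb]
      inv_mem' := fun {a} ha => by
        simp only [Set.mem_setOf_eq, Prod.fst_inv, Prod.snd_inv, map_inv] at ha ⊢
        rw [ha] }
  let τ : Γ →* Sp := (σ₁.comp (MonoidHom.fst H₁ H₂)).comp Γ.subtype
  have hτs : Function.Surjective τ := fun x => by
    obtain ⟨a, ha⟩ := hs₁ x
    obtain ⟨b, hb⟩ := hs₂ x
    exact ⟨⟨(a, b), ha.trans hb.symm⟩, ha⟩
  have hτz : τ.ker ≤ center Γ := fun g hg => by
    have h1 : σ₁ g.1.1 = 1 := hg
    have h2 : σ₂ g.1.2 = 1 := g.2.symm.trans h1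
    refine mem_center_iff.mpr fun x => Subtype.ext (Prod.ext ?_ ?_)
    · exact mem_center_iff.mp (hz₁ h1) _
    · exact mem_center_iff.mp (hz₂ h2) _
  have hSp := perfect_Sp_of σ₁ hs₁ hp₁
  set D : Subgroup Γ := commutator Γ with hD
  have hmapD : D.map τ = ⊤ := by
    rw [hD, _root_.commutator_def, Subgroup.map_commutator, Subgroup.map_top_of_surjective τ hτs,
      ← _root_.commutator_def, hSp]
  have hdec : ∀ g : Γ, ∃ z ∈ center Γ, ∃ u ∈ D, g = z * u := fun g => by
    obtain ⟨u, hu, hug⟩ := (hmapD ▸ mem_top (τ g) : τ g ∈ D.map τ)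
    refine ⟨g * u⁻¹, hτz ?_, u, hu, by group⟩
    rw [MonoidHom.mem_ker, map_mul, map_inv, hug, mul_inv_cancel]
  have hDD : ⁅D, D⁆ = D := by
    refine le_antisymm (commutator_le_right D D) ?_
    conv_lhs => rw [hD, _root_.commutator_def]
    rw [commutator_le]
    intro a _ b _
    obtain ⟨z, hz, u, hu, rfl⟩ := hdec a
    obtain ⟨w, hw, v, hv, rfl⟩ := hdec b
    have e : ⁅z * u, w * v⁆ = ⁅u, v⁆ := by
      have cz : ∀ x, z * x = x * z := fun x => (mem_center_iff.mp hz x).symm
      have cw : ∀ x, w * x = x * w := fun x => (mem_center_iff.mp hw x).symm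
      simp only [commutatorElement_def, mul_inv_rev]
      calc z * u * (w * v) * (u⁻¹ * z⁻¹) * (v⁻¹ * w⁻¹) = z * (u * w) * v * u⁻¹ * (z⁻¹ * v⁻¹) * w⁻¹ := by group
        _ = z * (w * u) * v * u⁻¹ * (v⁻¹ * z⁻¹) * w⁻¹ := by
          rw [cw u, show z⁻¹ * v⁻¹ = v⁻¹ * z⁻¹ by rw [← mul_inv_rev, ← mul_inv_rev, cz]]
        _ = z * (w * (u * v * u⁻¹ * v⁻¹)) * z⁻¹ * w⁻¹ := by group
        _ = (w * (u * v * u⁻¹ * v⁻¹)) * z * z⁻¹ * w⁻¹ := by rw [cz]
        _ = w * (u * v * u⁻¹ * v⁻¹) * w⁻¹ := by group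
        _ = u * v * u⁻¹ * v⁻¹ := by rw [cw, mul_inv_cancel_right]
    rw [e]
    exact commutator_mem_commutator hu hv
  let π : D →* Sp := τ.comp D.subtype
  have hπs : Function.Surjective π := fun x => by
    obtain ⟨u, hu, e⟩ := (hmapD ▸ mem_top x : x ∈ D.map τ)
    exact ⟨⟨u, hu⟩, e⟩
  have hperfD : commutator D = ⊤ := by
    apply Subgroup.map_injective D.subtype_injective
    rw [_root_.commutator_def, Subgroup.map_commutator, ← MonoidHom.range_eq_map, range_subtype, hDD]
  have hstem : Cfsg.IsStemExtension π := by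
    refine ⟨hπs, fun d hd => mem_center_iff.mpr fun x => Subtype.ext ?_, by rw [hperfD]; exact le_top⟩
    exact mem_center_iff.mp (hτz hd) x.1
  have hπk := card_stem_ker_le π hstem
  have hcardD : Nat.card D ≤ 2903040 := by
    rw [← Subgroup.card_mul_index π.ker, Subgroup.index_ker, MonoidHom.range_eq_top.mpr hπs, card_top,
      card_Sp]
    omega
  have key : ∀ {H : Type} [Group H] [Finite H] (σ : H →* Sp) (q : Γ →* H),
      Function.Surjective σ → σ.ker ≤ center H → commutator H = ⊤ → Nat.card σ.ker = 2 →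
      (∀ g, σ (q g) = τ g) → Nonempty (D ≃* H) := by
    intro H _ _ σ q hs hz hp hk hq
    let f : D →* H := q.comp D.subtype
    have hcov : ∀ x : H, ∃ d : D, x * (f d)⁻¹ ∈ center H := fun x => by
      obtain ⟨d, hd⟩ := hπs (σ x)
      refine ⟨d, hz ?_⟩
      rw [MonoidHom.mem_ker, map_mul, map_inv, show σ (f d) = π d from hq _, hd, mul_inv_cancel]
    have hfs : Function.Surjective f := by
      rw [← MonoidHom.range_eq_top, eq_top_iff, ← hp, _root_.commutator_def, commutator_le]
      intro a _ b _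
      obtain ⟨d, hd⟩ := hcov a
      obtain ⟨d', hd'⟩ := hcov b
      refine ⟨⁅d, d'⁆, ?_⟩
      rw [map_commutatorElement, commutatorElement_def, commutatorElement_def]
      set z := a * (f d)⁻¹ with hzd
      set w := b * (f d')⁻¹ with hwd
      rw [show a = z * f d by rw [hzd, inv_mul_cancel_right], show b = w * f d' by rw [hwd, inv_mul_cancel_right]]
      have cz : ∀ x, z * x = x * z := fun x => (mem_center_iff.mp hd x).symm
      have cw : ∀ x, w * x = x * w := fun x => (mem_center_iff.mp hd' x).symm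
      symm
      calc z * f d * (w * f d') * (z * f d)⁻¹ * (w * f d')⁻¹
          = z * (f d * w) * f d' * (f d)⁻¹ * (z⁻¹ * (f d')⁻¹) * w⁻¹ := by group
        _ = z * (w * f d) * f d' * (f d)⁻¹ * ((f d')⁻¹ * z⁻¹) * w⁻¹ := by
          rw [cw (f d), show z⁻¹ * (f d')⁻¹ = (f d')⁻¹ * z⁻¹ by rw [← mul_inv_rev, ← mul_inv_rev, cz]]
        _ = z * (w * (f d * f d' * (f d)⁻¹ * (f d')⁻¹)) * z⁻¹ * w⁻¹ := by group
        _ = (w * (f d * f d' * (f d)⁻¹ * (f d')⁻¹)) * z * z⁻¹ * w⁻¹ := by rw [cz]
        _ = w * (f d * f d' * (f d)⁻¹ * (f d')⁻¹) * w⁻¹ := by group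
        _ = f d * f d' * (f d)⁻¹ * (f d')⁻¹ := by rw [cw, mul_inv_cancel_right]
    have hcardH : Nat.card H = 2903040 := by
      rw [← Subgroup.card_mul_index σ.ker, Subgroup.index_ker, MonoidHom.range_eq_top.mpr hs, card_top,
        card_Sp, hk]
    have hle := Nat.card_le_card_of_surjective f hfs
    exact ⟨MulEquiv.ofBijective f ((Nat.bijective_iff_surjective_and_card f).mpr ⟨hfs, by omega⟩)⟩
  obtain ⟨e₁⟩ := key σ₁ ((MonoidHom.fst H₁ H₂).comp Γ.subtype) hs₁ hz₁ hp₁ hk₁ (fun g => rfl)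
  obtain ⟨e₂⟩ := key σ₂ ((MonoidHom.snd H₁ H₂).comp Γ.subtype) hs₂ hz₂ hp₂ hk₂ (fun g => g.2.symm)
  exact ⟨e₁.symm.trans e₂⟩

/-- A non-split double cover of Sp6(2) is isomorphic to any perfect central extension with kernel
of order two. -/
theorem nonsplit_iso {K : Type*} [Group K] [Finite K] (h : Cfsg.IsNonsplitDoubleCover K Sp)
    {H : Type} [Group H] [Finite H] (σ : H →* Sp) (hs : Function.Surjective σ) (hz : σ.ker ≤ center H)
    (hp : commutator H = ⊤) (hk : Nat.card σ.ker = 2) : Nonempty (H ≃* K) := by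
  classical
  obtain ⟨hcard, ⟨e⟩, hns⟩ := h
  let f : K →* Sp := e.toMonoidHom.comp (QuotientGroup.mk' (center K))
  have hf : Function.Surjective f := e.surjective.comp QuotientGroup.mk_surjective
  have hker : f.ker = center K := (MonoidHom.ker_mulEquiv_comp _ e).trans (QuotientGroup.ker_mk' _)
  have hSp := perfect_Sp_of σ hs hp
  have hmap : (commutator K).map f = ⊤ := by
    rw [_root_.commutator_def, Subgroup.map_commutator, Subgroup.map_top_of_surjective f hf,
      ← _root_.commutator_def, hSp]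
  have hcov : ∀ g : K, ∃ z ∈ center K, ∃ u ∈ commutator K, g = z * u := fun g => by
    obtain ⟨u, hu, hug⟩ := (hmap ▸ mem_top (f g) : f g ∈ (commutator K).map f)
    refine ⟨g * u⁻¹, ?_, u, hu, by group⟩
    rw [← hker, MonoidHom.mem_ker, map_mul, map_inv, hug, mul_inv_cancel]
  have hperf : commutator K = ⊤ := by
    by_cases hle : center K ≤ commutator K
    · refine eq_top_iff.2 fun g _ => ?_
      obtain ⟨z, hz', u, hu, rfl⟩ := hcov g
      exact mul_mem (hle hz') hu
    · exfalso
      have hd : center K ⊓ commutator K = ⊥ := by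
        by_contra hne
        have hdvd : Nat.card ↥(center K ⊓ commutator K) ∣ 2 := hcard ▸ card_dvd_of_le inf_le_left
        rcases (Nat.dvd_prime Nat.prime_two).1 hdvd with h1 | h2
        · exact hne (Subgroup.card_eq_one.1 h1)
        · exact hle (le_inf_iff.1 (Subgroup.eq_of_le_of_card_ge inf_le_left (by omega)).ge).2
      exact hns (commutator K) (isComplement'_of_disjoint_and_mul_eq_univ (disjoint_iff.2 hd)
        (Set.eq_univ_of_forall fun g => by
          obtain ⟨z, hz', u, hu, rfl⟩ := hcov g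
          exact Set.mul_mem_mul hz' hu))
  let ec : Carrier (Nat.card K) ≃ K := (Finite.equivFin K).symm
  letI grp : Group (Carrier (Nat.card K)) := ec.group
  let c : Carrier (Nat.card K) ≃* K := ec.mulEquiv
  have hker' : (f.comp c.toMonoidHom).ker = (center K).map c.symm.toMonoidHom := by
    ext x
    rw [Subgroup.mem_map_equiv, MonoidHom.mem_ker, ← hker, MonoidHom.mem_ker]
    rfl
  obtain ⟨φ⟩ := stem_iso σ (f.comp c.toMonoidHom) hs (hf.comp c.surjective) hz
    (fun x hx => by
      rw [hker', Subgroup.mem_map_equiv] at hx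
      refine mem_center_iff.mpr fun y => c.injective ?_
      rw [map_mul, map_mul]
      exact mem_center_iff.mp hx (c y))
    hp (by
      have := congrArg (Subgroup.map c.symm.toMonoidHom) hperf
      rwa [_root_.commutator_def, Subgroup.map_commutator, Subgroup.map_top_of_surjective _ c.symm.surjective,
        ← _root_.commutator_def] at this)
    hk (by rw [hker', Subgroup.card_map_of_injective c.symm.injective, hcard])
  exact ⟨φ.trans c⟩

end Cfsg.Agent.Co3Rec
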