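import Cfsg.Agent.Co3Rec.Facts
import Cfsg.Agent.Co3Rec.Data.Elem
import Cfsg.Agent.Co3Rec.Data.Normal
import Cfsg.Agent.Co3Rec.Data.Rels
import Cfsg.Agent.Co3Rec.Data.Stab

/-!
An elementary abelian subgroup of order sixteen of the model, its stabiliser and its normaliser.
-/

set_option autoImplicit false
set_option maxRecDepth 100000

namespace Cfsg.Agent.Co3Rec

open Cfsg Cfsg.Agent.Compute Cfsg.Agent.StemCert

/-- The word of an element of the elementary subgroup. -/
noncomputable abbrev eW (i : ℕ) : List ℕ := unW (Data.eEls.get i)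

/-- The product in the elementary subgroup. -/
noncomputable abbrev em (i j : ℕ) : ℕ := Data.eMul (Nat.add (Nat.mul i 16) j)

/-- The elementary subgroup. -/
noncomputable def E0 : Subgroup R := Subgroup.closure {y | ∃ s ∈ Data.eGens, y = ctx.gen s}

theorem eGens_ok : allB (fun s => Nat.blt s Data.kC) Data.eGens = true ∧
    Data.eGens = [Data.tL, Data.aL, Data.e2L, Data.e3L] := by
  constructor <;> decide +kernel

theorem eEls_ok : allBelow 16 (fun i => inC (eW i) && allB (fun s => Data.eGens.any (Nat.beq s)) (eW i) &&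
    allBelow 16 (fun j => Nat.blt (em i j) 16 && same (eW i ++ eW j) (eW (em i j)) &&
      Nat.beq (em i j) (em j i) && (Nat.beq i j || !(same (eW i) (eW j))))) = true := by decide +kernel

theorem eGen_idx : allBelow 4 (fun g => same [Data.eGens.getD g 0] (eW (Nat.succ g))) = true ∧
    eW 0 = [] := by
  constructor <;> decide +kernel

theorem eW_mem {i : ℕ} (hi : i < 16) : ctx.ev (eW i) ∈ E0 := by
  have h := allBelow_eq_true.mp eEls_ok i hi
  simp only [Bool.and_eq_true] at h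
  refine list_prod_mem fun y hy => ?_
  obtain ⟨s, hs, rfl⟩ := List.mem_map.mp hy
  obtain ⟨r, hr, hrs⟩ := List.any_eq_true.mp (allB_spec h.1.2 s hs)
  exact Subgroup.subset_closure ⟨s, Nat.eq_of_beq_eq_true hrs ▸ hr, rfl⟩

theorem eW_mul {i j : ℕ} (hi : i < 16) (hj : j < 16) :
    em i j < 16 ∧ ctx.ev (eW i) * ctx.ev (eW j) = ctx.ev (eW (em i j)) ∧ em i j = em j i := by
  have h := allBelow_eq_true.mp eEls_ok i hi
  simp only [Bool.and_eq_true, allBelow_eq_true, Nat.blt_eq, Nat.beq_eq] at h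
  obtain ⟨⟨⟨h1, h2⟩, h3⟩, -⟩ := h.2 j hj
  exact ⟨h1, by rw [← Ctx.ev_append]; exact eq_of_same h2, h3⟩

theorem eW_inj {i j : ℕ} (hi : i < 16) (hj : j < 16) (e : ctx.ev (eW i) = ctx.ev (eW j)) : i = j := by
  have h := allBelow_eq_true.mp eEls_ok i hi
  simp only [Bool.and_eq_true, allBelow_eq_true, Bool.or_eq_true, Nat.beq_eq, Bool.not_eq_true'] at h
  rcases (h.2 j hj).2 with h1 | h1
  · exact h1
  · exfalso
    have hlt : ∀ l < 16, ∀ s ∈ eW l, s < ctx.k := fun l hl => by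
      have := allBelow_eq_true.mp eEls_ok l hl
      simp only [Bool.and_eq_true] at this
      exact lt_of_inC this.1.1
    rw [same_of_eq (hlt i hi) (hlt j hj) e] at h1
    exact Bool.noConfusion h1

theorem E0_listed {x : R} (hx : x ∈ E0) : ∃ i < 16, x = ctx.ev (eW i) := by
  rw [E0, ← Subgroup.mem_toSubmonoid, Subgroup.closure_toSubmonoid_of_finite] at hx
  induction hx using Submonoid.closure_induction_left with
  | one => exact ⟨0, by norm_num, by rw [eGen_idx.2]; rfl⟩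
  | mul_left x hx y _ ih =>
    obtain ⟨s, hs, rfl⟩ := hx
    obtain ⟨j, hj, rfl⟩ := ih
    obtain ⟨g, hg, rfl⟩ := List.getElem_of_mem hs
    have hg4 : g < 4 := lt_of_lt_of_le hg (le_of_eq (by rw [eGens_ok.2]; rfl))
    have e := eq_of_same (allBelow_eq_true.mp eGen_idx.1 g hg4)
    rw [ctx.ev_single, List.getD_eq_getElem _ _ hg] at e
    obtain ⟨h1, h2, -⟩ := eW_mul (i := g + 1) (by omega) hj
    exact ⟨_, h1, by rw [e, h2]⟩

theorem E0_le : E0 ≤ C0 := by
  rw [E0, Subgroup.closure_le]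
  rintro _ ⟨s, hs, rfl⟩
  exact gen_mem (Nat.blt_eq.mp (allB_spec eGens_ok.1 s hs))

theorem E0_comm {x y : R} (hx : x ∈ E0) (hy : y ∈ E0) : x * y = y * x := by
  obtain ⟨i, hi, rfl⟩ := E0_listed hx
  obtain ⟨j, hj, rfl⟩ := E0_listed hy
  rw [(eW_mul hi hj).2.1, (eW_mul hj hi).2.1, (eW_mul hi hj).2.2]

theorem eW_one {g : ℕ} (hg : g < 4) : ctx.ev (eW (g + 1)) = ctx.gen (Data.eGens.getD g 0) := by
  rw [← eq_of_same (allBelow_eq_true.mp eGen_idx.1 g hg), ctx.ev_single]

theorem eW_t : ctx.ev (eW 1) = tE := by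
  rw [eW_one (g := 0) (by norm_num), eGens_ok.2]; rfl

theorem eW_a : ctx.ev (eW 2) = aE := by
  rw [eW_one (g := 1) (by norm_num), eGens_ok.2]; rfl

theorem tE_mem_E0 : tE ∈ E0 := eW_t ▸ eW_mem (by norm_num)

theorem aE_mem_E0 : aE ∈ E0 := eW_a ▸ eW_mem (by norm_num)

theorem eType_ok : allBelow 16 (fun i => Nat.beq i 0 || Nat.beq i 1 ||
    (inC (unW (Data.eConj.get i)) && same (eW i) (cjW (unW (Data.eConj.get i)) Data.aL))) = true := by
  decide +kernel

/-- The involutions of the elementary subgroup. -/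
theorem E0_involution {x : R} (hx : x ∈ E0) (h1 : x ≠ 1) (ht : x ≠ tE) :
    ∃ v ∈ C0, x = v * aE * v⁻¹ := by
  obtain ⟨i, hi, rfl⟩ := E0_listed hx
  have h := allBelow_eq_true.mp eType_ok i hi
  simp only [Bool.or_eq_true, Nat.beq_eq, Bool.and_eq_true] at h
  rcases h with (h | h) | ⟨hv, he⟩
  · exact absurd (by rw [h, eGen_idx.2]; rfl) h1
  · exact absurd (h ▸ eW_t) ht
  · exact ⟨_, ev_mem hv, by rw [eq_of_same he, ev_cjW hv]; rfl⟩

theorem E0_sq {x : R} (hx : x ∈ E0) : x * x = 1 := by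
  by_cases h1 : x = 1
  · rw [h1, one_mul]
  by_cases ht : x = tE
  · rw [ht, tE_sq]
  obtain ⟨v, -, rfl⟩ := E0_involution hx h1 ht
  calc v * aE * v⁻¹ * (v * aE * v⁻¹) = v * (aE * aE) * v⁻¹ := by group
    _ = 1 := by rw [ae_be_sq.1]; group

theorem card_E0 : Nat.card E0 = 16 := by
  let f : Fin 16 → E0 := fun i => ⟨_, eW_mem i.2⟩
  have hb : Function.Bijective f := ⟨fun i j e => Fin.ext (eW_inj i.2 j.2 (congrArg Subtype.val e)),
    fun x => by obtain ⟨i, hi, e⟩ := E0_listed x.2; exact ⟨⟨i, hi⟩, Subtype.ext e.symm⟩⟩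
  rw [← Nat.card_congr (Equiv.ofBijective f hb), Nat.card_fin]

theorem centE_ok : allBelow Data.kN (fun i =>
    !(same (unW (Data.kEls.get i) ++ [Data.e2L]) (Data.e2L :: unW (Data.kEls.get i))) ||
    !(same (unW (Data.kEls.get i) ++ [Data.e3L]) (Data.e3L :: unW (Data.kEls.get i))) ||
    (List.range 16).any (fun j => same (unW (Data.kEls.get i)) (eW j))) = true := by decide +kernel

/-- The elementary subgroup is its own centraliser in the model. -/
theorem centralizer_E0 {x : R} (hx : x ∈ C0) (h : ∀ e ∈ E0, x * e = e * x) : x ∈ E0 := by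
  obtain ⟨i, hi, rfl⟩ := centralizer_a_listed hx (h _ aE_mem_E0)
  have hk := allBelow_eq_true.mp centE_ok i hi
  simp only [Bool.or_eq_true, Bool.not_eq_true', List.any_eq_true, List.mem_range] at hk
  have hki := allBelow_eq_true.mp kEls_ok i hi
  simp only [Bool.and_eq_true] at hki
  have hlt := lt_of_inC hki.1
  have key : ∀ l < Data.kC, ctx.gen l ∈ E0 →
      same (unW (Data.kEls.get i) ++ [l]) (l :: unW (Data.kEls.get i)) = true := fun l hl hle =>
    same_of_eq (fun s hs => by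
        rcases List.mem_append.mp hs with hs | hs
        exacts [hlt s hs, (List.mem_singleton.mp hs) ▸ lt_of_lt_of_le hl kC_le])
      (fun s hs => by
        rcases List.mem_cons.mp hs with rfl | hs
        exacts [lt_of_lt_of_le hl kC_le, hlt s hs])
      (by rw [Ctx.ev_append, ctx.ev_single, Ctx.ev_cons]; exact h _ hle)
  have g2 : Data.e2L ∈ Data.eGens := by rw [eGens_ok.2]; simp
  have g3 : Data.e3L ∈ Data.eGens := by rw [eGens_ok.2]; simp
  rcases hk with (hk | hk) | ⟨j, hj, hs⟩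
  · rw [key _ (Nat.blt_eq.mp (allB_spec eGens_ok.1 _ g2)) (Subgroup.subset_closure ⟨_, g2, rfl⟩)] at hk
    exact Bool.noConfusion hk
  · rw [key _ (Nat.blt_eq.mp (allB_spec eGens_ok.1 _ g3)) (Subgroup.subset_closure ⟨_, g3, rfl⟩)] at hk
    exact Bool.noConfusion hk
  · rw [eq_of_same hs]; exact eW_mem hj

/-- The stabiliser of the elementary subgroup in the model. -/
noncomputable def D0 : Subgroup R := Subgroup.closure {y | ∃ s ∈ Data.dGens, y = ctx.gen s}

/-- The word of a listed element of the stabiliser. -/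
noncomputable abbrev dW (i : ℕ) : List ℕ := unW (Data.dEls.get i)

theorem dGens_ok : allB (fun s => Nat.blt s Data.kC) Data.dGens = true ∧
    Data.dGens = [Data.g1L, Data.ivs.getD Data.g1L 0, Data.g2L, Data.ivs.getD Data.g2L 0] ∧
    allB (fun s => Nat.blt s Data.k) Data.nLetters = true ∧
    Data.nLetters = [Data.g1L, Data.g2L, Data.sL] := by
  refine ⟨?_, ?_, ?_, ?_⟩ <;> decide +kernel

theorem D0_le : D0 ≤ C0 := by
  rw [D0, Subgroup.closure_le]
  rintro _ ⟨s, hs, rfl⟩
  exact gen_mem (Nat.blt_eq.mp (allB_spec dGens_ok.1 s hs))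

theorem mem_D0_of_word {l : List ℕ} (h : allB (fun s => Data.dGens.any (Nat.beq s)) l = true) :
    ctx.ev l ∈ D0 := by
  refine list_prod_mem fun y hy => ?_
  obtain ⟨s, hs, rfl⟩ := List.mem_map.mp hy
  obtain ⟨r, hr, hrs⟩ := List.any_eq_true.mp (allB_spec h s hs)
  exact Subgroup.subset_closure ⟨s, Nat.eq_of_beq_eq_true hrs ▸ hr, rfl⟩

/-- The product of the images of the basis selected by a mask. -/
noncomputable def maskE (i j l : ℕ) (m : ℕ) : ℕ :=
  em (em (em (cond (Nat.beq (Nat.mod m 2) 1) 1 0) (cond (Nat.beq (Nat.mod (Nat.div m 2) 2) 1) i 0))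
    (cond (Nat.beq (Nat.mod (Nat.div m 4) 2) 1) j 0)) (cond (Nat.beq (Nat.mod (Nat.div m 8) 2) 1) l 0)

theorem mask_basis : allBelow 15 (fun m => !(Nat.beq (maskE 2 3 4 (Nat.succ m)) 0)) = true ∧
    allBelow 16 (fun e => (List.range 16).any fun m => Nat.beq (maskE 2 3 4 m) e) = true := by
  constructor <;> decide +kernel

theorem autD_ok : allBelow 16 (fun i => allBelow 16 fun j => allBelow 16 fun l =>
    forceN (Data.autD (Nat.add (Nat.mul (Nat.add (Nat.mul i 16) j) 16) l)) fun d =>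
      cond (Nat.blt d Data.dN)
        (allB (fun s => Data.dGens.any (Nat.beq s)) (dW d) &&
          same (dW d ++ [Data.aL]) (eW i ++ dW d) && same (dW d ++ [Data.e2L]) (eW j ++ dW d) &&
          same (dW d ++ [Data.e3L]) (eW l ++ dW d))
        ((List.range 15).any fun m => Nat.beq (maskE i j l (Nat.succ m)) 0)) = true := by decide +kernel

theorem maskE_spec (f : R → R) (hf : ∀ x ∈ E0, ∀ y ∈ E0, f (x * y) = f x * f y)
    {i j l : ℕ} (hi : i < 16) (hj : j < 16) (hl : l < 16) (ht : f tE = tE)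
    (ea : f (ctx.ev (eW 2)) = ctx.ev (eW i)) (eb : f (ctx.ev (eW 3)) = ctx.ev (eW j))
    (ec : f (ctx.ev (eW 4)) = ctx.ev (eW l)) (m : ℕ) :
    maskE i j l m < 16 ∧ maskE 2 3 4 m < 16 ∧
      f (ctx.ev (eW (maskE 2 3 4 m))) = ctx.ev (eW (maskE i j l m)) := by
  have h1 : f 1 = 1 := by
    have := hf 1 (one_mem _) 1 (one_mem _)
    rw [one_mul] at this
    exact left_eq_mul.mp this
  have hz : ctx.ev (eW 0) = 1 := by rw [eGen_idx.2]; rfl
  have base : ∀ (b : Bool) {u v : ℕ}, u < 16 → v < 16 → f (ctx.ev (eW u)) = ctx.ev (eW v) →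
      cond b u 0 < 16 ∧ cond b v 0 < 16 ∧ f (ctx.ev (eW (cond b u 0))) = ctx.ev (eW (cond b v 0)) := by
    intro b u v hu hv e
    cases b
    · exact ⟨by simp, by simp, by simp [hz, h1]⟩
    · exact ⟨hu, hv, e⟩
  have step : ∀ {u u' v v' : ℕ}, u < 16 ∧ u' < 16 ∧ f (ctx.ev (eW u)) = ctx.ev (eW u') →
      v < 16 ∧ v' < 16 ∧ f (ctx.ev (eW v)) = ctx.ev (eW v') →
      em u v < 16 ∧ em u' v' < 16 ∧ f (ctx.ev (eW (em u v))) = ctx.ev (eW (em u' v')) := by
    intro u u' v v' ⟨a1, a2, a3⟩ ⟨b1, b2, b3⟩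
    refine ⟨(eW_mul a1 b1).1, (eW_mul a2 b2).1, ?_⟩
    rw [← (eW_mul a1 b1).2.1, ← (eW_mul a2 b2).2.1, hf _ (eW_mem a1) _ (eW_mem b1), a3, b3]
  have := step (step (step (base (Nat.beq (Nat.mod m 2) 1) (u := 1) (v := 1) (by norm_num) (by norm_num)
      (by rw [eW_t, ht])) (base (Nat.beq (Nat.mod (Nat.div m 2) 2) 1) (by norm_num) hi ea))
    (base (Nat.beq (Nat.mod (Nat.div m 4) 2) 1) (by norm_num) hj eb))
    (base (Nat.beq (Nat.mod (Nat.div m 8) 2) 1) (by norm_num) hl ec)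
  exact ⟨this.2.1, this.1, this.2.2⟩

/-- An automorphism of the elementary subgroup fixing the central involution is conjugation. -/
theorem aut_real (f : R → R) (hf : ∀ x ∈ E0, ∀ y ∈ E0, f (x * y) = f x * f y)
    (hmap : ∀ x ∈ E0, f x ∈ E0) (hker : ∀ x ∈ E0, f x = 1 → x = 1) (ht : f tE = tE) :
    ∃ d ∈ D0, ∀ x ∈ E0, d * x * d⁻¹ = f x := by
  obtain ⟨i, hi, ea⟩ := E0_listed (hmap _ (eW_mem (show 2 < 16 by norm_num)))
  obtain ⟨j, hj, eb⟩ := E0_listed (hmap _ (eW_mem (show 3 < 16 by norm_num)))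
  obtain ⟨l, hl, ec⟩ := E0_listed (hmap _ (eW_mem (show 4 < 16 by norm_num)))
  have h := allBelow_eq_true.mp (allBelow_eq_true.mp (allBelow_eq_true.mp autD_ok i hi) j hj) l hl
  rw [forceN_eq] at h
  set d := Data.autD (Nat.add (Nat.mul (Nat.add (Nat.mul i 16) j) 16) l)
  rcases Bool.eq_false_or_eq_true (Nat.blt d Data.dN) with hd | hd <;> rw [hd] at h
  · simp only [cond_true, Bool.and_eq_true] at h
    obtain ⟨⟨⟨hw, s1⟩, s2⟩, s3⟩ := h
    refine ⟨_, mem_D0_of_word hw, ?_⟩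
    set D := ctx.ev (dW d)
    have e1 : D * ctx.ev (eW 2) * D⁻¹ = f (ctx.ev (eW 2)) := by
      rw [ea, mul_inv_eq_iff_eq_mul, eW_one (g := 1) (by norm_num), eGens_ok.2]
      have := eq_of_same s1
      simpa [Ctx.ev_append, Ctx.ev_cons] using this
    have e2 : D * ctx.ev (eW 3) * D⁻¹ = f (ctx.ev (eW 3)) := by
      rw [eb, mul_inv_eq_iff_eq_mul, eW_one (g := 2) (by norm_num), eGens_ok.2]
      have := eq_of_same s2
      simpa [Ctx.ev_append, Ctx.ev_cons] using this
    have e3 : D * ctx.ev (eW 4) * D⁻¹ = f (ctx.ev (eW 4)) := by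
      rw [ec, mul_inv_eq_iff_eq_mul, eW_one (g := 3) (by norm_num), eGens_ok.2]
      have := eq_of_same s3
      simpa [Ctx.ev_append, Ctx.ev_cons] using this
    have hDt : D * tE * D⁻¹ = tE := by
      rw [tE_central (D0_le (mem_D0_of_word hw)), mul_inv_cancel_right]
    intro x hx
    obtain ⟨e, he, rfl⟩ := E0_listed hx
    obtain ⟨m, -, hm⟩ := List.any_eq_true.mp (allBelow_eq_true.mp mask_basis.2 e he)
    rw [← Nat.eq_of_beq_eq_true hm, (maskE_spec f hf hi hj hl ht ea eb ec m).2.2]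
    exact (maskE_spec (fun z => D * z * D⁻¹) (fun z _ w _ => by group) hi hj hl hDt
      (e1.trans ea) (e2.trans eb) (e3.trans ec) m).2.2
  · exfalso
    simp only [cond_false, List.any_eq_true, List.mem_range] at h
    obtain ⟨m, hm, h0⟩ := h
    obtain ⟨-, h2, h3⟩ := maskE_spec f hf hi hj hl ht ea eb ec (Nat.succ m)
    rw [Nat.eq_of_beq_eq_true h0, eGen_idx.2] at h3
    have h4 := hker _ (eW_mem h2) h3
    have h5 := eW_inj h2 (show 0 < 16 by norm_num) (by rw [h4, eGen_idx.2]; rfl)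
    have h6 := allBelow_eq_true.mp mask_basis.1 m hm
    rw [h5] at h6
    simp at h6

/-- The normaliser. -/
noncomputable def N0 : Subgroup R := Subgroup.closure {y | ∃ s ∈ Data.nLetters, y = ctx.gen s}

theorem eConjGen_ok : allBelow 3 (fun g => allBelow 16 fun i =>
    Nat.blt (Data.eConjGen (Nat.add (Nat.mul g 16) i)) 16 &&
      same (eW i ++ [Data.nLetters.getD g 0])
        (Data.nLetters.getD g 0 :: eW (Data.eConjGen (Nat.add (Nat.mul g 16) i)))) = true := by
  decide +kernel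

theorem N0_conj {x : R} (hx : x ∈ N0) : ∀ e ∈ E0, x⁻¹ * e * x ∈ E0 := by
  rw [N0, ← Subgroup.mem_toSubmonoid, Subgroup.closure_toSubmonoid_of_finite] at hx
  induction hx using Submonoid.closure_induction with
  | mem x hx =>
    intro e he
    obtain ⟨s, hs, rfl⟩ := hx
    obtain ⟨g, hg, rfl⟩ := List.getElem_of_mem hs
    obtain ⟨i, hi, rfl⟩ := E0_listed he
    have hg3 : g < 3 := lt_of_lt_of_le hg (le_of_eq (by rw [dGens_ok.2.2.2]; rfl))
    have h := allBelow_eq_true.mp (allBelow_eq_true.mp eConjGen_ok g hg3) i hi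
    simp only [Bool.and_eq_true, Nat.blt_eq] at h
    have e := eq_of_same h.2
    rw [Ctx.ev_append, ctx.ev_single, Ctx.ev_cons, List.getD_eq_getElem _ _ hg] at e
    rw [mul_assoc, e, inv_mul_cancel_left]
    exact eW_mem h.1
  | one => intro e he; simpa using he
  | mul x y _ _ ihx ihy =>
    intro e he
    have := ihy _ (ihx e he)
    rwa [show (x * y)⁻¹ * e * (x * y) = y⁻¹ * (x⁻¹ * e * x) * y by group]

theorem N0_conj' {x : R} (hx : x ∈ N0) {e : R} (he : e ∈ E0) : x * e * x⁻¹ ∈ E0 := by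
  simpa using N0_conj (inv_mem hx) e he

theorem D0_le_N0 : D0 ≤ N0 := by
  rw [D0, Subgroup.closure_le]
  obtain ⟨-, hd, -, hn⟩ := dGens_ok
  have m1 : ctx.gen Data.g1L ∈ N0 := Subgroup.subset_closure ⟨_, by rw [hn]; simp, rfl⟩
  have m2 : ctx.gen Data.g2L ∈ N0 := Subgroup.subset_closure ⟨_, by rw [hn]; simp, rfl⟩
  have hi : ∀ s < Data.k, ctx.gen (Data.ivs.getD s 0) = (ctx.gen s)⁻¹ := fun s hs => by
    have h := ctx.ev_inv (l := [s]) (fun x hx => (List.mem_singleton.mp hx) ▸ hs)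
    rw [ctx.ev_single] at h
    exact (ctx.ev_single _).symm.trans h
  rintro _ ⟨s, hs, rfl⟩
  rw [hd] at hs
  simp only [List.mem_cons, List.not_mem_nil, or_false] at hs
  rcases hs with rfl | rfl | rfl | rfl
  · exact m1
  · rw [hi _ (by decide +kernel)]; exact inv_mem m1
  · exact m2
  · rw [hi _ (by decide +kernel)]; exact inv_mem m2

theorem sE_mem_N0 : sE ∈ N0 := Subgroup.subset_closure ⟨_, by rw [dGens_ok.2.2.2]; simp, rfl⟩

theorem derBasis_words : allBelow 4 (fun r => allB (fun s => Data.dGens.any (Nat.beq s))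
    ((Data.derBasis.getD r []).map fun q => Data.dGens.getD q 0) &&
    same [Data.eGens.getD r 0] ((Data.derBasis.getD r []).map fun q => Data.dGens.getD q 0)) = true := by
  decide +kernel

theorem E0_le_D0 : E0 ≤ D0 := by
  rw [E0, Subgroup.closure_le]
  rintro _ ⟨s, hs, rfl⟩
  obtain ⟨g, hg, rfl⟩ := List.getElem_of_mem hs
  have hg4 : g < 4 := lt_of_lt_of_le hg (le_of_eq (by rw [eGens_ok.2]; rfl))
  have h := allBelow_eq_true.mp derBasis_words g hg4
  simp only [Bool.and_eq_true] at h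
  rw [← ctx.ev_single, ← List.getD_eq_getElem _ 0 hg, eq_of_same h.2]
  exact mem_D0_of_word h.1

theorem E0_le_N0 : E0 ≤ N0 := E0_le_D0.trans D0_le_N0

/-- The word of a coset representative. -/
noncomputable abbrev rW (j : ℕ) : List ℕ := Data.nReps.getD j []

theorem nReps_ok : allBelow 15 (fun j =>
    allB (fun s => Data.nLetters.any (Nat.beq s)) (rW j) &&
    Nat.blt (Data.nImg.getD j 0) 16 && same (eW (Data.nImg.getD j 0)) (ctx.inv (rW j) ++ Data.tL :: rW j) &&
    allBelow 15 (fun i => Nat.beq i j || !(Nat.beq (Data.nImg.getD i 0) (Data.nImg.getD j 0))) &&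
    allBelow 3 (fun g => forceN (Data.nStep.getD (Nat.add (Nat.mul g 15) j) 0) fun r =>
      forceN (Data.nStepD.getD (Nat.add (Nat.mul g 15) j) 0) fun d =>
        Nat.blt r 15 && allB (fun s => Data.dGens.any (Nat.beq s)) (dW d) &&
          same (rW j ++ [Data.nLetters.getD g 0]) (dW d ++ rW r))) = true ∧
    rW 0 = [] ∧ Data.nImg.getD 0 0 = 1 := by
  refine ⟨?_, ?_, ?_⟩ <;> decide +kernel

theorem rW_mem {j : ℕ} (hj : j < 15) : ctx.ev (rW j) ∈ N0 ∧ ∀ s ∈ rW j, s < ctx.k := by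
  have h := allBelow_eq_true.mp nReps_ok.1 j hj
  simp only [Bool.and_eq_true] at h
  refine ⟨list_prod_mem fun y hy => ?_, fun s hs => ?_⟩
  · obtain ⟨s, hs, rfl⟩ := List.mem_map.mp hy
    obtain ⟨r, hr, hrs⟩ := List.any_eq_true.mp (allB_spec h.1.1.1.1 s hs)
    exact Subgroup.subset_closure ⟨s, Nat.eq_of_beq_eq_true hrs ▸ hr, rfl⟩
  · obtain ⟨r, hr, hrs⟩ := List.any_eq_true.mp (allB_spec h.1.1.1.1 s hs)
    rw [Nat.eq_of_beq_eq_true hrs]
    exact Nat.blt_eq.mp (allB_spec dGens_ok.2.2.1 r hr)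

theorem rW_img {j : ℕ} (hj : j < 15) :
    Data.nImg.getD j 0 < 16 ∧ (ctx.ev (rW j))⁻¹ * tE * ctx.ev (rW j) = ctx.ev (eW (Data.nImg.getD j 0)) := by
  have h := allBelow_eq_true.mp nReps_ok.1 j hj
  simp only [Bool.and_eq_true, Nat.blt_eq] at h
  refine ⟨h.1.1.1.2, ?_⟩
  rw [eq_of_same h.1.1.2, Ctx.ev_append, Ctx.ev_cons, ctx.ev_inv (rW_mem hj).2, mul_assoc]
  rfl

theorem rW_img_inj {i j : ℕ} (hi : i < 15) (hj : j < 15)
    (e : (ctx.ev (rW i))⁻¹ * tE * ctx.ev (rW i) = (ctx.ev (rW j))⁻¹ * tE * ctx.ev (rW j)) : i = j := by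
  rw [(rW_img hi).2, (rW_img hj).2] at e
  have h1 := eW_inj (rW_img hi).1 (rW_img hj).1 e
  have h := allBelow_eq_true.mp nReps_ok.1 j hj
  simp only [Bool.and_eq_true, allBelow_eq_true, Bool.or_eq_true, Nat.beq_eq, Bool.not_eq_true'] at h
  rcases h.1.2 i hi with h2 | h2
  · exact h2
  · rw [h1] at h2; simp at h2

theorem N0_decomp {x : R} (hx : x ∈ N0) : ∃ d ∈ D0, ∃ j < 15, x = d * ctx.ev (rW j) := by
  rw [N0, ← Subgroup.mem_toSubmonoid, Subgroup.closure_toSubmonoid_of_finite] at hx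
  induction hx using Submonoid.closure_induction_right with
  | one => exact ⟨1, one_mem _, 0, by norm_num, by rw [nReps_ok.2.1]; simp⟩
  | mul_right y _ z hz ih =>
    obtain ⟨d, hd, j, hj, rfl⟩ := ih
    obtain ⟨s, hs, rfl⟩ := hz
    obtain ⟨g, hg, rfl⟩ := List.getElem_of_mem hs
    have hg3 : g < 3 := lt_of_lt_of_le hg (le_of_eq (by rw [dGens_ok.2.2.2]; rfl))
    have h := allBelow_eq_true.mp nReps_ok.1 j hj
    simp only [Bool.and_eq_true, allBelow_eq_true, forceN_eq, Nat.blt_eq] at h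
    obtain ⟨⟨hr, hdw⟩, hs⟩ := h.2 g hg3
    have e := eq_of_same hs
    rw [Ctx.ev_append, Ctx.ev_append, ctx.ev_single, List.getD_eq_getElem _ _ hg] at e
    exact ⟨d * ctx.ev (dW (Data.nStepD.getD (Nat.add (Nat.mul g 15) j) 0)),
      mul_mem hd (mem_D0_of_word hdw), _, hr, by rw [mul_assoc, e, mul_assoc]⟩

/-- The elements of the normaliser fixing the central involution. -/
theorem N0_fix {x : R} (hx : x ∈ N0) (ht : x * tE * x⁻¹ = tE) : x ∈ D0 := by
  obtain ⟨d, hd, j, hj, rfl⟩ := N0_decomp hx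
  have hdt := tE_central (D0_le hd)
  set r := ctx.ev (rW j) with hr
  have hd' : d⁻¹ * tE * d = tE := by rw [mul_assoc, ← hdt, inv_mul_cancel_left]
  have h1 : r * tE * r⁻¹ = tE := by
    calc r * tE * r⁻¹ = d⁻¹ * (d * r * tE * (d * r)⁻¹) * d := by group
      _ = tE := by rw [ht, hd']
  have h2 : r⁻¹ * tE * r = tE := by
    conv_lhs => rw [← h1]
    group
  have h0 : j = 0 := rW_img_inj hj (by norm_num) (by
    rw [nReps_ok.2.1, ← hr, h2]; simp)
  rw [hr, h0, nReps_ok.2.1]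
  simpa using hd

theorem N0_index : (D0.subgroupOf N0).index = 15 := by
  let f : Fin 15 → N0 ⧸ D0.subgroupOf N0 := fun j => QuotientGroup.mk ⟨_, inv_mem (rW_mem j.2).1⟩
  have hb : Function.Bijective f := by
    refine ⟨fun i j e => Fin.ext ?_, fun z => ?_⟩
    · have h := QuotientGroup.eq.mp e
      rw [Subgroup.mem_subgroupOf] at h
      simp only [InvMemClass.coe_inv, Subgroup.coe_mul, inv_inv] at h
      have ht := tE_central (D0_le h)
      refine rW_img_inj i.2 j.2 ?_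
      set r := ctx.ev (rW i)
      set q := ctx.ev (rW j)
      calc r⁻¹ * tE * r = r⁻¹ * (tE * (r * q⁻¹)) * q := by group
        _ = r⁻¹ * (r * q⁻¹ * tE) * q := by rw [ht]
        _ = q⁻¹ * tE * q := by group
    · induction z using QuotientGroup.induction_on with
      | _ x =>
        obtain ⟨d, hd, j, hj, e⟩ := N0_decomp (inv_mem x.2)
        refine ⟨⟨j, hj⟩, QuotientGroup.eq.mpr ?_⟩
        rw [Subgroup.mem_subgroupOf]
        simp only [InvMemClass.coe_inv, Subgroup.coe_mul, inv_inv]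
        have : (x : R) = (ctx.ev (rW j))⁻¹ * d⁻¹ := by
          rw [← inv_inv (x : R), e, mul_inv_rev]
        rw [this, mul_inv_cancel_left]
        exact inv_mem hd
  rw [Subgroup.index_eq_card, ← Nat.card_congr (Equiv.ofBijective f hb), Nat.card_fin]

theorem derRel_ok : (allBelow 2 (fun r => ltB 4 (Data.derRels.getD r []) &&
      same ((Data.derRels.getD r []).map fun q => Data.dGens.getD q 0) []) &&
    allBelow 4 (fun r => ltB 4 (Data.derBasis.getD r []) &&
      same ((Data.derBasis.getD r []).map fun q => Data.dGens.getD q 0) [Data.eGens.getD r 0])) = true := by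
  decide +kernel

/-- The words of the images of the generators under a crossed map. -/
noncomputable def derImg (e₁ e₂ : ℕ) : List (List ℕ) :=
  [Data.g1L :: eW e₁, ctx.inv (Data.g1L :: eW e₁), Data.g2L :: eW e₂, ctx.inv (Data.g2L :: eW e₂)]

theorem derTag_ok : allBelow 16 (fun e₁ => allBelow 16 fun e₂ =>
    forceN (Data.derTag.getD (Nat.add (Nat.mul e₁ 16) e₂) 0) fun c =>
      cond (Nat.blt c 16)
        (same (Data.g1L :: eW e₁) (ctx.inv (eW c) ++ Data.g1L :: eW c) &&
          same (Data.g2L :: eW e₂) (ctx.inv (eW c) ++ Data.g2L :: eW c))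
        (cond (Nat.blt c 200)
          (Nat.blt (Nat.sub c 100) 2 &&
            !(same ((Data.derRels.getD (Nat.sub c 100) []).flatMap fun q => (derImg e₁ e₂).getD q []) []))
          (Nat.blt (Nat.sub c 200) 4 &&
            !(same ((Data.derBasis.getD (Nat.sub c 200) []).flatMap fun q => (derImg e₁ e₂).getD q [])
              [Data.eGens.getD (Nat.sub c 200) 0])))) = true := by decide +kernel

/-- A crossed homomorphism of the stabiliser to the elementary subgroup is inner. -/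
theorem derivation (η : D0 →* R) (hE : ∀ d : D0, (d : R) ∈ E0 → η d = d)
    (hco : ∀ d : D0, (d : R)⁻¹ * η d ∈ E0) :
    ∃ u ∈ E0, ∀ d : D0, η d = u⁻¹ * (d : R) * u := by
  obtain ⟨hgl, hd, -, -⟩ := dGens_ok
  have hmem : ∀ q < 4, ctx.gen (Data.dGens.getD q 0) ∈ D0 := fun q hq =>
    Subgroup.subset_closure ⟨_, by
      rw [List.getD_eq_getElem _ _ (by rw [hd]; exact hq)]; exact List.getElem_mem _, rfl⟩
  let G4 : ℕ → D0 := fun q => if hq : q < 4 then ⟨_, hmem q hq⟩ else 1
  have hG4 : ∀ q < 4, ((G4 q : D0) : R) = ctx.gen (Data.dGens.getD q 0) := fun q hq => by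
    simp [G4, dif_pos hq]
  obtain ⟨e₁, he₁, h₁⟩ := E0_listed (hco (G4 0))
  obtain ⟨e₂, he₂, h₂⟩ := E0_listed (hco (G4 2))
  have p₁ : η (G4 0) = ctx.ev (Data.g1L :: eW e₁) := by
    rw [Ctx.ev_cons, ← h₁, hG4 0 (by norm_num), hd]
    simp
  have p₂ : η (G4 2) = ctx.ev (Data.g2L :: eW e₂) := by
    rw [Ctx.ev_cons, ← h₂, hG4 2 (by norm_num), hd]
    simp
  have hlt : ∀ e < 16, ∀ s ∈ eW e, s < ctx.k := fun e he => by
    have := allBelow_eq_true.mp eEls_ok e he
    simp only [Bool.and_eq_true] at this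
    exact lt_of_inC this.1.1
  have hg : Data.g1L < ctx.k ∧ Data.g2L < ctx.k := by
    show Data.g1L < Data.k ∧ Data.g2L < Data.k
    decide +kernel
  have hl1 : ∀ s ∈ Data.g1L :: eW e₁, s < ctx.k := fun s hs => by
    rcases List.mem_cons.mp hs with rfl | hs
    exacts [hg.1, hlt e₁ he₁ s hs]
  have hl2 : ∀ s ∈ Data.g2L :: eW e₂, s < ctx.k := fun s hs => by
    rcases List.mem_cons.mp hs with rfl | hs
    exacts [hg.2, hlt e₂ he₂ s hs]
  have hinv : ∀ q < 4, G4 1 = (G4 0)⁻¹ ∧ G4 3 = (G4 2)⁻¹ := fun _ _ => by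
    constructor <;> apply Subtype.ext <;>
      rw [InvMemClass.coe_inv, hG4 _ (by norm_num), hG4 _ (by norm_num), hd]
    · have h := ctx.ev_inv (l := [Data.g1L]) (fun x hx => (List.mem_singleton.mp hx) ▸ hg.1)
      rw [ctx.ev_single] at h
      exact (ctx.ev_single _).symm.trans h
    · have h := ctx.ev_inv (l := [Data.g2L]) (fun x hx => (List.mem_singleton.mp hx) ▸ hg.2)
      rw [ctx.ev_single] at h
      exact (ctx.ev_single _).symm.trans h
  have himg : ∀ q < 4, η (G4 q) = ctx.ev ((derImg e₁ e₂).getD q []) ∧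
      ∀ s ∈ (derImg e₁ e₂).getD q [], s < ctx.k := by
    intro q hq
    interval_cases q
    · exact ⟨p₁, hl1⟩
    · exact ⟨by rw [(hinv 0 (by norm_num)).1, map_inv, p₁]; exact (ctx.ev_inv hl1).symm, ctx.inv_lt hl1⟩
    · exact ⟨p₂, hl2⟩
    · exact ⟨by rw [(hinv 0 (by norm_num)).2, map_inv, p₂]; exact (ctx.ev_inv hl2).symm, ctx.inv_lt hl2⟩
  have hword : ∀ w : List ℕ, (∀ q ∈ w, q < 4) →
      η ((w.map G4).prod) = ctx.ev (w.flatMap fun q => (derImg e₁ e₂).getD q []) ∧
      (((w.map G4).prod : D0) : R) = ctx.ev (w.map fun q => Data.dGens.getD q 0) ∧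
      ∀ s ∈ w.flatMap (fun q => (derImg e₁ e₂).getD q []), s < ctx.k := by
    intro w hw
    induction w with
    | nil => simp
    | cons q w ih =>
      obtain ⟨i1, i2, i3⟩ := ih fun r hr => hw r (List.mem_cons_of_mem _ hr)
      have hq := hw q (by simp)
      refine ⟨?_, ?_, ?_⟩
      · rw [List.map_cons, List.prod_cons, map_mul, i1, (himg q hq).1, List.flatMap_cons, Ctx.ev_append]
      · rw [List.map_cons, List.prod_cons, Subgroup.coe_mul, i2, hG4 q hq, List.map_cons, Ctx.ev_cons]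
      · intro s hs
        rw [List.flatMap_cons, List.mem_append] at hs
        exact hs.elim ((himg q hq).2 s) (i3 s)
  have hk := derRel_ok
  simp only [Bool.and_eq_true, allBelow_eq_true] at hk
  have h := allBelow_eq_true.mp (allBelow_eq_true.mp derTag_ok e₁ he₁) e₂ he₂
  rw [forceN_eq] at h
  set c := Data.derTag.getD (Nat.add (Nat.mul e₁ 16) e₂) 0
  rcases Bool.eq_false_or_eq_true (Nat.blt c 16) with hc | hc <;> rw [hc] at h
  · simp only [cond_true, Bool.and_eq_true] at h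
    have hc' : c < 16 := Nat.blt_eq.mp hc
    set u := ctx.ev (eW c)
    refine ⟨u, eW_mem hc', ?_⟩
    have q₁ : η (G4 0) = u⁻¹ * ctx.gen Data.g1L * u := by
      rw [p₁, eq_of_same h.1, Ctx.ev_append, Ctx.ev_cons, ctx.ev_inv (hlt c hc'), mul_assoc]
    have q₂ : η (G4 2) = u⁻¹ * ctx.gen Data.g2L * u := by
      rw [p₂, eq_of_same h.2, Ctx.ev_append, Ctx.ev_cons, ctx.ev_inv (hlt c hc'), mul_assoc]
    let κ : D0 →* R := (MulAut.conj u⁻¹).toMonoidHom.comp D0.subtype
    have hκ : ∀ d, κ d = u⁻¹ * (d : R) * u := fun d => by simp [κ]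
    have hgen : ∀ q < 4, η (G4 q) = κ (G4 q) := by
      have a0 : η (G4 0) = κ (G4 0) := by rw [q₁, hκ, hG4 0 (by norm_num), hd]; rfl
      have a2 : η (G4 2) = κ (G4 2) := by rw [q₂, hκ, hG4 2 (by norm_num), hd]; rfl
      intro q hq
      interval_cases q
      · exact a0
      · rw [(hinv 0 (by norm_num)).1, map_inv, map_inv, a0]
      · exact a2
      · rw [(hinv 0 (by norm_num)).2, map_inv, map_inv, a2]
    intro d
    rw [← hκ]
    have htop : Subgroup.closure (G4 '' {q | q < 4}) = ⊤ := by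
      apply Subgroup.map_injective D0.subtype_injective
      rw [MonoidHom.map_closure, ← MonoidHom.range_eq_map, Subgroup.range_subtype]
      conv_rhs => rw [D0]
      congr 1
      ext y
      simp only [Set.mem_image, Set.mem_setOf_eq, exists_exists_and_eq_and, Subgroup.coe_subtype]
      constructor
      · rintro ⟨q, hq, rfl⟩
        exact ⟨_, by rw [List.getD_eq_getElem _ _ (by rw [hd]; exact hq)]; exact List.getElem_mem _, hG4 q hq⟩
      · rintro ⟨s, hs, rfl⟩
        obtain ⟨q, hq, rfl⟩ := List.getElem_of_mem hs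
        have hq' : q < 4 := lt_of_lt_of_le hq (le_of_eq (by rw [hd]; rfl))
        exact ⟨q, hq', by rw [hG4 q hq', List.getD_eq_getElem _ _ hq]⟩
    exact DFunLike.congr_fun (MonoidHom.eq_of_eqOn_dense htop (by
      rintro _ ⟨q, hq, rfl⟩; exact hgen q hq)) d
  · exfalso
    rw [cond_false] at h
    rcases Bool.eq_false_or_eq_true (Nat.blt c 200) with hc2 | hc2 <;> rw [hc2] at h
    · simp only [cond_true, Bool.and_eq_true, Nat.blt_eq, Bool.not_eq_true'] at h
      obtain ⟨hl, hs⟩ := hk.1 _ h.1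
      obtain ⟨w1, w2, w3⟩ := hword _ (ltB_iff.mp hl)
      have e : ((Data.derRels.getD (Nat.sub c 100) []).map G4).prod = 1 :=
        Subtype.ext (by rw [w2, eq_of_same hs]; rfl)
      rw [e, map_one] at w1
      rw [same_of_eq w3 (by simp) (by rw [← w1]; rfl)] at h
      exact Bool.noConfusion h.2
    · simp only [cond_false, Bool.and_eq_true, Nat.blt_eq, Bool.not_eq_true'] at h
      obtain ⟨hl, hs⟩ := hk.2 _ h.1
      obtain ⟨w1, w2, w3⟩ := hword _ (ltB_iff.mp hl)
      have hmemE : ctx.gen (Data.eGens.getD (Nat.sub c 200) 0) ∈ E0 := by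
        refine Subgroup.subset_closure ⟨_, ?_, rfl⟩
        rw [List.getD_eq_getElem _ _ (by rw [eGens_ok.2]; exact h.1)]
        exact List.getElem_mem _
      have hcoe : (((Data.derBasis.getD (Nat.sub c 200) []).map G4).prod : R) =
          ctx.gen (Data.eGens.getD (Nat.sub c 200) 0) := by
        rw [w2, eq_of_same hs, ctx.ev_single]
      rw [hE _ (hcoe ▸ hmemE), hcoe] at w1
      rw [same_of_eq w3 (fun s hs => (List.mem_singleton.mp hs) ▸ lt_of_lt_of_le (Nat.blt_eq.mp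
        (allB_spec eGens_ok.1 _ (by
          rw [List.getD_eq_getElem _ _ (by rw [eGens_ok.2]; exact h.1)]; exact List.getElem_mem _))) kC_le)
        (by rw [← w1, ctx.ev_single])] at h
      exact Bool.noConfusion h.2

end Cfsg.Agent.Co3Rec
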