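import Cfsg.Agent.Co3Rec.Setting
import Cfsg.Agent.Co3Rec.Amalgam
import Cfsg.Agent.Co3Rec.Data.Extend
import Cfsg.Agent.Core.Gaschutz

/-!
The normaliser of the elementary subgroup extends the map from the centraliser, and its involution
outside the centraliser satisfies the relations of the certificate.
-/

set_option autoImplicit false
set_option maxRecDepth 100000

namespace Cfsg.Agent.Co3Rec

open Cfsg Cfsg.Agent.Compute Cfsg.Agent.StemCert

theorem autD_total : allBelow 14 (fun i => (List.range 256).any (fun jl =>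
    Nat.blt (Data.autD (Nat.add (Nat.mul (Nat.add (Nat.mul (Nat.add i 2) 16) (Nat.div jl 16)) 16) (Nat.mod jl 16)))
      Data.dN)) = true := by decide +kernel

/-- The stabiliser is transitive on the involutions other than the central one. -/
theorem D0_transitive {i : ℕ} (h2 : 2 ≤ i) (hi : i < 16) :
    ∃ d ∈ D0, d * aE * d⁻¹ = ctx.ev (eW i) := by
  have h := allBelow_eq_true.mp autD_total (i - 2) (by omega)
  simp only [List.any_eq_true, List.mem_range] at h
  obtain ⟨jl, hjl, hd⟩ := h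
  rw [show Nat.add (i - 2) 2 = i by show i - 2 + 2 = i; omega] at hd
  have h' := allBelow_eq_true.mp (allBelow_eq_true.mp (allBelow_eq_true.mp autD_ok i hi)
    (jl / 16) (by omega)) (jl % 16) (by omega)
  rw [forceN_eq, show Nat.div jl 16 = jl / 16 from rfl] at *
  rw [show Nat.mod jl 16 = jl % 16 from rfl] at hd
  rw [hd, cond_true] at h'
  simp only [Bool.and_eq_true] at h'
  refine ⟨_, mem_D0_of_word h'.1.1.1, ?_⟩
  rw [mul_inv_eq_iff_eq_mul]
  have := eq_of_same h'.1.1.2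
  simpa [Ctx.ev_append, Ctx.ev_cons, aE] using this

/-- The three letters of the certificate and a fourth one. -/
noncomputable def quadW (q : ℕ) : List ℕ :=
  cond (Nat.blt q 3) [Data.uLetters.getD q 0] [Data.K3L]

/-- The possible images of the four letters. -/
noncomputable def quadImg (j q : ℕ) : List ℕ :=
  cond (Nat.blt q 3) (Data.uImgD.getD q []) (unW (Data.kEls.get j))

theorem quad_ok : allBelow 3 (fun q =>
    allB (fun s => Data.dGens.any (Nat.beq s)) (Data.uD.getD q []) &&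
    allB (fun s => Data.dGens.any (Nat.beq s)) (Data.uImgD.getD q []) &&
    Nat.blt (Data.uLetters.getD q 0) Data.kC && inC (Data.uImgD.getD q []) &&
    same [Data.uLetters.getD q 0] (Data.uD.getD q []) &&
    same (Data.sL :: (Data.uD.getD q [] ++ [Data.sL])) (Data.uImgD.getD q [])) = true := by
  decide +kernel

theorem k3_ok : (same [Data.K3L, Data.aL] [Data.aL, Data.K3L] &&
    same [Data.sL, Data.aL, Data.sL] [Data.tL] && same [Data.sL, Data.tL, Data.sL] [Data.aL] &&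
    Nat.blt Data.K3L Data.kC && Nat.blt Data.k3Img Data.kN &&
    same (Data.sL :: [Data.K3L, Data.sL]) (unW (Data.kEls.get Data.k3Img))) = true := by decide +kernel

theorem kRel_ok : allBelow 4 (fun r => ltB 4 (Data.kRelL.getD r []) && ltB 4 (Data.kRelR.getD r []) &&
    same ((Data.kRelL.getD r []).flatMap quadW) ((Data.kRelR.getD r []).flatMap quadW)) = true := by
  decide +kernel

/-- Only one candidate satisfies the relations. -/
theorem kWit_ok : allBelow Data.kN (fun j => Nat.beq j Data.k3Img || forceN (Data.kWit j) (fun r =>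
    Nat.blt r 4 && !(same ((Data.kRelL.getD r []).flatMap (quadImg j))
      ((Data.kRelR.getD r []).flatMap (quadImg j))))) = true := by decide +kernel

theorem ruleLetters_ok : allBelow 8 (fun l => cond (Nat.blt l 3) (Nat.beq (rLet l) (Data.uLetters.getD l 0))
    (cond (Nat.beq l 3) (Nat.beq (rLet l) Data.K3L)
      (Nat.beq (rLet l) (Data.ivs.getD (rLet (Nat.sub l 4)) 0) &&
        Nat.blt (rLet (Nat.sub l 4)) Data.kC))) = true := by decide +kernel

theorem relD_ok : allBelow 2 (fun r => allBelow 2 (fun m =>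
      allB (fun s => Data.dGens.any (Nat.beq s)) ((Data.relD.getD r []).getD m [])) &&
    allB (fun s => Data.dGens.any (Nat.beq s)) (Data.relTlD.getD r [])) = true := by decide +kernel

namespace Setting

variable {G : Type*} [Group G] (S : Setting G)

theorem mem_EG {y : G} : y ∈ S.EG ↔ ∃ e ∈ E0, S.φ e = y := Iff.rfl

theorem φ_mem_EG {e : R} (he : e ∈ E0) : S.φ e ∈ S.EG := ⟨e, he, rfl⟩

/-- An element acting on the elementary subgroup like a given element of the normaliser. -/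
def Like (x : R) (y : G) : Prop := ∀ e ∈ E0, y * S.φ e * y⁻¹ = S.φ (x * e * x⁻¹)

theorem like_D0 {d : R} (hd : d ∈ D0) : S.Like d (S.φ d) :=
  fun e he => (S.φ_conj (D0_le hd) (E0_le he)).symm

theorem eq_of_like_one {y : G} (h : S.Like 1 y) : ∃ e ∈ E0, y = S.φ e := by
  have hc : ∀ e ∈ E0, y * S.φ e = S.φ e * y := fun e he => by
    have h1 := h e he
    rw [one_mul, inv_one, mul_one] at h1
    exact mul_inv_eq_iff_eq_mul.mp h1
  obtain ⟨c, hc0, rfl⟩ := S.exists_φ (hc _ tE_mem_E0)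
  refine ⟨c, centralizer_E0 hc0 fun e he => ?_, rfl⟩
  refine S.φ_inj (mul_mem hc0 (E0_le he)) (mul_mem (E0_le he) hc0) ?_
  rw [S.φ_mul hc0 (E0_le he), S.φ_mul (E0_le he) hc0, hc e he]

/-- Every element of the normaliser in the model is imitated. -/
theorem exists_like {n : G} (hn : ∀ e ∈ E0, n * S.φ e * n⁻¹ ∈ S.EG) (hna : n * S.φ aE * n⁻¹ = S.T)
    {x : R} (hx : x ∈ N0) : ∃ y : G, S.Like x y := by
  classical
  -- elements which normalise form a monoid closed under taking preimages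
  have hpre : ∀ y : G, (∀ e ∈ E0, y * S.φ e * y⁻¹ ∈ S.EG) →
      ∀ e ∈ E0, ∃ e' ∈ E0, y * S.φ e' * y⁻¹ = S.φ e := by
    intro y hy e he
    choose f hf hfe using hy
    let F : E0 → E0 := fun u => ⟨f u u.2, hf u u.2⟩
    have hinj : Function.Injective F := fun u v h => Subtype.ext (S.φ_inj (E0_le u.2) (E0_le v.2) (by
      have h' : f u u.2 = f v v.2 := congrArg Subtype.val h
      have e1 := hfe u u.2
      rw [h', hfe v v.2] at e1
      exact (mul_left_cancel (mul_right_cancel e1)).symm))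
    obtain ⟨u, hu⟩ := (Finite.injective_iff_surjective.mp hinj) ⟨e, he⟩
    exact ⟨u, u.2, by
      rw [← hfe u u.2]
      exact congrArg (fun z : E0 => S.φ z) hu⟩
  -- an element sending the central involution to the wanted place
  have hi : x * tE * x⁻¹ ∈ E0 := N0_conj' hx tE_mem_E0
  obtain ⟨y₁, hy₁, hy₁t⟩ : ∃ y : G, (∀ e ∈ E0, y * S.φ e * y⁻¹ ∈ S.EG) ∧
      y * S.T * y⁻¹ = S.φ (x * tE * x⁻¹) := by
    obtain ⟨i, hi16, hie⟩ := E0_listed hi
    by_cases ht : x * tE * x⁻¹ = tE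
    · exact ⟨1, fun e he => by simpa using S.φ_mem_EG he, by rw [ht]; simp⟩
    have h0 : i ≠ 0 := fun h => tE_ne_one (conj_eq_one_iff.mp (by rw [hie, h, eGen_idx.2]; rfl))
    have h1 : i ≠ 1 := fun h => ht (by rw [hie, h, eW_t])
    obtain ⟨d, hd, hda⟩ := D0_transitive (show 2 ≤ i by omega) hi16
    refine ⟨S.φ d * n⁻¹, fun e he => ?_, ?_⟩
    · obtain ⟨e', he', he''⟩ := hpre n hn e he
      refine ⟨d * e' * d⁻¹, N0_conj' (D0_le_N0 hd) he', ?_⟩
      rw [S.φ_conj (D0_le hd) (E0_le he'), ← he'']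
      group
    · rw [hie, ← hda, S.φ_conj (D0_le hd) aE_mem, ← hna]
      group
  -- correct it inside the centraliser
  choose f hf hfe using hy₁
  let c : R → R := fun e => if he : e ∈ E0 then x⁻¹ * f e he * x else 1
  have hc : ∀ e (he : e ∈ E0), c e = x⁻¹ * f e he * x := fun e he => dif_pos he
  have hfm : ∀ a (ha : a ∈ E0) b (hb : b ∈ E0), f (a * b) (mul_mem ha hb) = f a ha * f b hb := by
    intro a ha b hb
    refine S.φ_inj (E0_le (hf _ _)) (mul_mem (E0_le (hf _ _)) (E0_le (hf _ _))) ?_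
    rw [S.φ_mul (E0_le (hf _ _)) (E0_le (hf _ _)), hfe, hfe, hfe, S.φ_mul (E0_le ha) (E0_le hb)]
    group
  obtain ⟨d, hd, hdc⟩ := aut_real c
    (fun a ha b hb => by rw [hc _ (mul_mem ha hb), hc a ha, hc b hb, hfm a ha b hb]; group)
    (fun e he => by
      rw [hc e he]
      simpa using N0_conj' (inv_mem hx) (hf e he))
    (fun e he h => by
      rw [hc e he] at h
      have h1 : f e he = 1 := by
        calc f e he = x * (x⁻¹ * f e he * x) * x⁻¹ := by group
          _ = 1 := by rw [h]; group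
      have h2 := hfe e he
      rw [h1, S.φ_one] at h2
      exact S.φ_inj (E0_le he) (one_mem _) ((conj_eq_one_iff.mp h2.symm).trans S.φ_one.symm))
    (by
      rw [hc _ tE_mem_E0]
      have : f tE tE_mem_E0 = x * tE * x⁻¹ :=
        S.φ_inj (E0_le (hf _ _)) (E0_le hi) ((hfe _ _).trans hy₁t)
      rw [this]; group)
  refine ⟨y₁ * (S.φ d)⁻¹, fun e he => ?_⟩
  have hd' : d⁻¹ * e * d ∈ E0 := by simpa using N0_conj' (inv_mem (D0_le_N0 hd)) he
  have h1 := hdc _ hd'
  rw [hc _ hd', show d * (d⁻¹ * e * d) * d⁻¹ = e by group] at h1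
  have h2 := hfe _ hd'
  rw [S.φ_mul (
      mul_mem (inv_mem (D0_le hd)) (E0_le he)) (D0_le hd),
    S.φ_mul (inv_mem (D0_le hd)) (E0_le he), S.φ_inv (D0_le hd)] at h2
  have h3 : x * e * x⁻¹ = f _ hd' := by
    calc x * e * x⁻¹ = x * (x⁻¹ * f _ hd' * x) * x⁻¹ := congrArg (fun z => x * z * x⁻¹) h1
      _ = f _ hd' := by group
  rw [h3, h2]
  group

/-- The map from the normaliser of the elementary subgroup. -/
theorem exists_ext [Finite G] {n : G} (hn : ∀ e ∈ E0, n * S.φ e * n⁻¹ ∈ S.EG)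
    (hna : n * S.φ aE * n⁻¹ = S.T) :
    ∃ ψ : N0 →* G, (∀ x : N0, (x : R) ∈ D0 → ψ x = S.φ x) ∧
      ∀ x : N0, S.Like x (ψ x) := by
  classical
  let Q : Subgroup (R × G) :=
    { carrier := {p | p.1 ∈ N0 ∧ S.Like p.1 p.2}
      one_mem' := ⟨one_mem _, fun e _ => by simp⟩
      mul_mem' := fun {p q} hp hq => ⟨mul_mem hp.1 hq.1, fun e he => by
        have h1 := hq.2 e he
        have h2 := hp.2 _ (N0_conj' hq.1 he)
        simp only [Prod.fst_mul, Prod.snd_mul]
        calc p.2 * q.2 * S.φ e * (p.2 * q.2)⁻¹ = p.2 * (q.2 * S.φ e * q.2⁻¹) * p.2⁻¹ := by group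
          _ = S.φ (p.1 * (q.1 * e * q.1⁻¹) * p.1⁻¹) := by rw [h1, h2]
          _ = _ := by group⟩
      inv_mem' := fun {p} hp => ⟨inv_mem hp.1, fun e he => by
        have h1 := hp.2 _ (N0_conj' (inv_mem hp.1) he)
        rw [show p.1 * (p.1⁻¹ * e * (p.1⁻¹)⁻¹) * p.1⁻¹ = e by group] at h1
        simp only [Prod.fst_inv, Prod.snd_inv]
        rw [← h1]
        group⟩ }
  let π : Q →* N0 := ((MonoidHom.fst R G).comp Q.subtype).codRestrict N0 fun q => q.2.1
  have hπ : Function.Surjective π := fun x => by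
    obtain ⟨y, hy⟩ := S.exists_like hn hna x.2
    exact ⟨⟨(x, y), x.2, hy⟩, rfl⟩
  -- the graph of the map over a subgroup of the centraliser
  let graph : ∀ H : Subgroup R, H ≤ C0 → Subgroup Q := fun H hH =>
    { carrier := {q | q.1.1 ∈ H ∧ q.1.2 = S.φ q.1.1}
      one_mem' := ⟨one_mem _, S.φ_one.symm⟩
      mul_mem' := fun {p q} hp hq => ⟨mul_mem hp.1 hq.1, by
        show p.1.2 * q.1.2 = S.φ (p.1.1 * q.1.1)
        rw [hp.2, hq.2, S.φ_mul (hH hp.1) (hH hq.1)]⟩
      inv_mem' := fun {p} hp => ⟨inv_mem hp.1, by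
        show p.1.2⁻¹ = S.φ p.1.1⁻¹
        rw [hp.2, S.φ_inv (hH hp.1)]⟩ }
  let Δ : Subgroup Q := graph E0 E0_le
  let A : Subgroup Q := graph D0 D0_le
  let U : Subgroup Q := (D0.subgroupOf N0).comap π
  have hΔn : Δ.Normal := ⟨fun d hd q => by
    refine ⟨N0_conj' q.2.1 hd.1, ?_⟩
    show q.1.2 * d.1.2 * q.1.2⁻¹ = _
    rw [hd.2]
    exact q.2.2 _ hd.1⟩
  have hker : ∀ k : Q, k ∈ π.ker ↔ k.1.1 = 1 := fun k =>
    ⟨fun h => congrArg Subtype.val (MonoidHom.mem_ker.mp h), fun h => MonoidHom.mem_ker.mpr (Subtype.ext h)⟩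
  have hkE : ∀ k ∈ π.ker, ∃ e ∈ E0, k.1.2 = S.φ e := fun k hk =>
    S.eq_of_like_one ((hker k).mp hk ▸ k.2.2)
  have hk2 : ∀ k ∈ π.ker, k * k = 1 := fun k hk => by
    obtain ⟨e, he, hke⟩ := hkE k hk
    refine Subtype.ext (Prod.ext ?_ ?_)
    · show k.1.1 * k.1.1 = 1
      rw [(hker k).mp hk, mul_one]
    · show k.1.2 * k.1.2 = 1
      rw [hke, ← S.φ_mul (E0_le he) (E0_le he), E0_sq he, S.φ_one]
  let q' : Q →* Q ⧸ Δ := QuotientGroup.mk' Δ
  let K' : Subgroup (Q ⧸ Δ) := π.ker.map q'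
  have hK'2 : ∀ k ∈ K', k * k = 1 := by
    rintro _ ⟨k, hk, rfl⟩
    rw [← map_mul, hk2 k hk, map_one]
  have : K'.Normal := Subgroup.Normal.map inferInstance q' (QuotientGroup.mk'_surjective Δ)
  have : IsMulCommutative K' := ⟨⟨fun a b => by
    have hs : ∀ c : K', c⁻¹ = c := fun c => inv_eq_of_mul_eq_one_right (Subtype.ext (hK'2 c c.2))
    calc a * b = (a * b)⁻¹ := (hs _).symm
      _ = b⁻¹ * a⁻¹ := mul_inv_rev a b
      _ = b * a := by rw [hs, hs]⟩⟩
  have hΔA : Δ ≤ A := fun q hq => ⟨E0_le_D0 hq.1, hq.2⟩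
  have hAU : A ≤ U := fun q hq => hq.1
  have hindex : (U.map q').index = 15 := by
    rw [Subgroup.index_map_eq _ (QuotientGroup.mk'_surjective Δ)
      (by rw [QuotientGroup.ker_mk']; exact hΔA.trans hAU),
      Subgroup.index_comap_of_surjective _ hπ, N0_index]
  have hcop : (Nat.card K').Coprime (U.map q').index := by
    have hp : IsPGroup 2 K' := fun k => ⟨1, by
      rw [pow_one, sq]; exact Subtype.ext (hK'2 k k.2)⟩
    have : Fact (Nat.Prime 2) := ⟨Nat.prime_two⟩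
    obtain ⟨m, hm⟩ := IsPGroup.iff_card.mp hp
    rw [hindex, hm]
    exact Nat.Coprime.pow_left _ (by norm_num)
  have hKA : K' ⊔ A.map q' = U.map q' := by
    rw [← Subgroup.map_sup]
    congr 1
    refine le_antisymm (sup_le (fun k hk => ?_) hAU) fun u hu => ?_
    · show k.1.1 ∈ D0
      rw [(hker k).mp hk]
      exact one_mem _
    · have hd : u.1.1 ∈ D0 := hu
      let a : Q := ⟨(u.1.1, S.φ u.1.1), u.2.1, S.like_D0 hd⟩
      have ha : a ∈ A := ⟨hd, rfl⟩
      rw [show u = (u * a⁻¹) * a by group]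
      refine mul_mem (Subgroup.mem_sup_left ((hker _).mpr ?_)) (Subgroup.mem_sup_right ha)
      show u.1.1 * u.1.1⁻¹ = 1
      exact mul_inv_cancel _
  have hAK : A.map q' ⊓ K' = ⊥ := by
    refine (Subgroup.eq_bot_iff_forall _).mpr ?_
    rintro _ ⟨⟨a, ha, rfl⟩, k, hk, hka⟩
    rw [QuotientGroup.mk'_apply, QuotientGroup.eq_one_iff]
    have hd := QuotientGroup.eq.mp hka
    have h1 : k.1.1⁻¹ * a.1.1 ∈ E0 := hd.1
    rw [(hker k).mp hk, inv_one, one_mul] at h1
    exact ⟨h1, ha.2⟩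
  obtain ⟨H, hH⟩ := Core.gaschutz_exists (K := K') (U := U.map q')
    (Subgroup.map_mono (fun k hk => by
      show k.1.1 ∈ D0
      rw [(hker k).mp hk]; exact one_mem _))
    hcop (Subgroup.map_mono hAU) hAK hKA
  let X : Subgroup Q := H.comap q'
  have huniq : ∀ k ∈ X, k.1.1 = 1 → k = 1 := by
    intro k hkX hk1
    have hb : q' k ∈ K' ⊓ H := ⟨⟨k, (hker k).mpr hk1, rfl⟩, hkX⟩
    rw [hH.disjoint.eq_bot, Subgroup.mem_bot] at hb
    have hd : k ∈ Δ := (QuotientGroup.eq_one_iff k).mp hb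
    refine Subtype.ext (Prod.ext hk1 ?_)
    rw [hd.2, hk1, S.φ_one]
    rfl
  have hbij : Function.Bijective (π.comp X.subtype) := by
    refine ⟨(MonoidHom.ker_eq_bot_iff _).mp ((Subgroup.eq_bot_iff_forall _).mpr fun k hk =>
      Subtype.ext (huniq k k.2 ((hker _).mp hk))), fun x => ?_⟩
    obtain ⟨q, rfl⟩ := hπ x
    obtain ⟨⟨⟨_, k, hk, rfl⟩, ⟨h, hh⟩⟩, e⟩ := hH.2 (q' q)
    have hX : k⁻¹ * q ∈ X := by
      show q' (k⁻¹ * q) ∈ H
      rw [map_mul, map_inv, ← show q' k * h = q' q from e, inv_mul_cancel_left]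
      exact hh
    refine ⟨⟨_, hX⟩, ?_⟩
    show π (k⁻¹ * q) = π q
    rw [map_mul, map_inv, MonoidHom.mem_ker.mp hk, inv_one, one_mul]
  let e : X ≃* N0 := MulEquiv.ofBijective _ hbij
  let ψ₀ : N0 →* G :=
    (MonoidHom.snd R G).comp (Q.subtype.comp (X.subtype.comp e.symm.toMonoidHom))
  have hfst : ∀ x : N0, (e.symm x : Q).1.1 = (x : R) := fun x =>
    congrArg Subtype.val (e.apply_symm_apply x)
  have hlike : ∀ x : N0, S.Like x (ψ₀ x) := fun x => hfst x ▸ (e.symm x : Q).2.2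
  have hE : ∀ x : N0, (x : R) ∈ E0 → ψ₀ x = S.φ x := by
    intro x hx
    let q : Q := ⟨((x : R), S.φ x), x.2, S.like_D0 (E0_le_D0 hx)⟩
    have hq : q ∈ X := by
      show q' q ∈ H
      rw [show q' q = 1 from (QuotientGroup.eq_one_iff q).mpr ⟨hx, rfl⟩]
      exact one_mem _
    have : e.symm x = ⟨q, hq⟩ := e.symm_apply_eq.mpr (Subtype.ext rfl)
    show (e.symm x : Q).1.2 = _
    rw [this]
  -- on the stabiliser it differs by a crossed map
  have hD : ∀ d : D0, ∃ z ∈ E0, ψ₀ ⟨d, D0_le_N0 d.2⟩ = S.φ (d * z) := by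
    intro d
    obtain ⟨z, hz, hze⟩ := S.eq_of_like_one (y := (S.φ d)⁻¹ * ψ₀ ⟨d, D0_le_N0 d.2⟩) (by
      intro u hu
      rw [one_mul, inv_one, mul_one]
      have h1 := hlike ⟨d, D0_le_N0 d.2⟩ u hu
      calc _ = (S.φ d)⁻¹ * (ψ₀ ⟨d, D0_le_N0 d.2⟩ * S.φ u * (ψ₀ ⟨d, D0_le_N0 d.2⟩)⁻¹) * S.φ d := by group
        _ = S.φ u := by rw [h1, ← S.like_D0 d.2 u hu]; group)
    exact ⟨z, hz, by rw [S.φ_mul (D0_le d.2) (E0_le hz), ← hze, mul_inv_cancel_left]⟩
  choose z hz hzψ using hD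
  have hin : ∀ d : D0, (d : R) * z d ∈ C0 := fun d => mul_mem (D0_le d.2) (E0_le (hz d))
  let η : D0 →* R :=
    { toFun := fun d => d * z d
      map_one' := S.φ_inj (hin 1) (one_mem _) (by
        rw [← hzψ, S.φ_one]; exact map_one ψ₀)
      map_mul' := fun a b => S.φ_inj (hin _) (mul_mem (hin a) (hin b)) (by
        rw [← hzψ, S.φ_mul (hin a) (hin b), ← hzψ, ← hzψ, ← map_mul]; rfl) }
  obtain ⟨u, hu, hη⟩ := derivation η
    (fun d hd => S.φ_inj (hin d) (D0_le d.2) ((hzψ d).symm.trans (hE ⟨d, D0_le_N0 d.2⟩ hd)))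
    (fun d => by
      show (d : R)⁻¹ * (d * z d) ∈ E0
      rw [inv_mul_cancel_left]; exact hz d)
  refine ⟨(MulAut.conj (S.φ u)).toMonoidHom.comp ψ₀, fun x hx => ?_, fun x v hv => ?_⟩
  · show S.φ u * ψ₀ x * (S.φ u)⁻¹ = S.φ x
    rw [show x = ⟨((⟨x, hx⟩ : D0) : R), D0_le_N0 hx⟩ from rfl, hzψ,
      show ((⟨x, hx⟩ : D0) : R) * z ⟨x, hx⟩ = u⁻¹ * x * u from hη ⟨x, hx⟩,
      S.φ_mul (mul_mem (inv_mem (E0_le hu)) (D0_le hx)) (E0_le hu),
      S.φ_mul (inv_mem (E0_le hu)) (D0_le hx), S.φ_inv (E0_le hu)]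
    group
  · show S.φ u * ψ₀ x * (S.φ u)⁻¹ * S.φ v * (S.φ u * ψ₀ x * (S.φ u)⁻¹)⁻¹ = _
    have hcm : ∀ w ∈ E0, (S.φ u)⁻¹ * S.φ w * S.φ u = S.φ w := fun w hw => by
      rw [mul_assoc, ← S.φ_mul (E0_le hw) (E0_le hu), E0_comm hw hu, S.φ_mul (E0_le hu) (E0_le hw),
        inv_mul_cancel_left]
    have hcm' : ∀ w ∈ E0, S.φ u * S.φ w * (S.φ u)⁻¹ = S.φ w := fun w hw => by
      rw [← S.φ_mul (E0_le hu) (E0_le hw), E0_comm hu hw, S.φ_mul (E0_le hw) (E0_le hu),
        mul_inv_cancel_right]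
    calc _ = S.φ u * (ψ₀ x * ((S.φ u)⁻¹ * S.φ v * S.φ u) * (ψ₀ x)⁻¹) * (S.φ u)⁻¹ := by group
      _ = S.φ ((x : R) * v * (x : R)⁻¹) := by rw [hcm v hv, hlike x v hv, hcm' _ (N0_conj' x.2 hv)]

/-- The involution outside the centraliser satisfies the relations. -/
theorem exists_rel [Finite G] {n : G} (hn : ∀ e ∈ E0, n * S.φ e * n⁻¹ ∈ S.EG)
    (hna : n * S.φ aE * n⁻¹ = S.T) : ∃ s : G, Rel S.Φ s ∧ s * S.T * s⁻¹ = S.φ aE := by
  obtain ⟨ψ, hψD, hψL⟩ := S.exists_ext hn hna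
  set s : G := ψ ⟨sE, sE_mem_N0⟩ with hs
  have hss : s * s = 1 := by
    rw [hs, ← map_mul, show (⟨sE, sE_mem_N0⟩ * ⟨sE, sE_mem_N0⟩ : N0) = 1 from Subtype.ext sE_sq,
      map_one]
  have hsi : s⁻¹ = s := inv_eq_of_mul_eq_one_right hss
  obtain ⟨⟨⟨⟨⟨hka, hsas⟩, hsts⟩, hk3lt⟩, hj0⟩, hk3⟩ := by
    simpa only [Bool.and_eq_true] using k3_ok
  have hsta : sE * tE * sE = aE := by
    have := eq_of_same hsts
    simpa [Ctx.ev_cons, sE, tE, aE, mul_assoc] using this
  have hsa : sE * aE * sE = tE := by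
    have := eq_of_same hsas
    simpa [Ctx.ev_cons, sE, tE, aE, mul_assoc] using this
  have hsinv : sE⁻¹ = sE := inv_eq_of_mul_eq_one_right sE_sq
  have hst : s * S.T * s = S.φ aE := by
    have := hψL ⟨sE, sE_mem_N0⟩ tE tE_mem_E0
    rw [← hs, hsi] at this
    rw [this]
    show S.φ (sE * tE * sE⁻¹) = _
    rw [hsinv, hsta]
  have hsa' : s * S.φ aE * s = S.T := by
    have := hψL ⟨sE, sE_mem_N0⟩ aE aE_mem_E0
    rw [← hs, hsi] at this
    rw [this]
    show S.φ (sE * aE * sE⁻¹) = _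
    rw [hsinv, hsa]
  -- the elements on which conjugation agrees
  let Good : R → Prop := fun x => x ∈ C0 ∧ sE * x * sE ∈ C0 ∧ s * S.φ x * s = S.φ (sE * x * sE)
  have hgood_mul : ∀ x y, Good x → Good y → Good (x * y) := by
    rintro x y ⟨x1, x2, x3⟩ ⟨y1, y2, y3⟩
    have e : sE * (x * y) * sE = sE * x * sE * (sE * y * sE) := by
      calc sE * (x * y) * sE = sE * x * 1 * y * sE := by group
        _ = _ := by rw [← sE_sq]; group
    refine ⟨mul_mem x1 y1, e ▸ mul_mem x2 y2, ?_⟩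
    rw [e, S.φ_mul x1 y1, S.φ_mul x2 y2, ← x3, ← y3]
    calc s * (S.φ x * S.φ y) * s = s * S.φ x * 1 * S.φ y * s := by group
      _ = _ := by rw [← hss]; group
  have hgood_inv : ∀ x, Good x → Good x⁻¹ := by
    rintro x ⟨x1, x2, x3⟩
    have e : sE * x⁻¹ * sE = (sE * x * sE)⁻¹ := by
      rw [mul_inv_rev, mul_inv_rev, hsinv, mul_assoc]
    refine ⟨inv_mem x1, e ▸ inv_mem x2, ?_⟩
    rw [e, S.φ_inv x1, S.φ_inv x2, ← x3, mul_inv_rev, mul_inv_rev, hsi, mul_assoc]
  have hu : ∀ q < 3, Good (ctx.gen (Data.uLetters.getD q 0)) ∧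
      sE * ctx.gen (Data.uLetters.getD q 0) * sE = ctx.ev (Data.uImgD.getD q []) := by
    intro q hq
    have h := allBelow_eq_true.mp quad_ok q hq
    simp only [Bool.and_eq_true] at h
    obtain ⟨⟨⟨⟨⟨hd, hd'⟩, -⟩, -⟩, he⟩, hse⟩ := h
    have h1 := eq_of_same he
    rw [ctx.ev_single] at h1
    have h2 := eq_of_same hse
    rw [Ctx.ev_cons, Ctx.ev_append, ctx.ev_single, ← mul_assoc, ← h1] at h2
    have m1 : ctx.gen (Data.uLetters.getD q 0) ∈ D0 := h1 ▸ mem_D0_of_word hd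
    have m2 : sE * ctx.gen (Data.uLetters.getD q 0) * sE ∈ D0 := h2 ▸ mem_D0_of_word hd'
    refine ⟨⟨D0_le m1, D0_le m2, ?_⟩, h2⟩
    rw [← hψD ⟨_, D0_le_N0 m1⟩ m1, ← hψD ⟨_, D0_le_N0 m2⟩ m2, hs, ← map_mul, ← map_mul]
    rfl
  have hK : Good (ctx.gen Data.K3L) := by
    have k0 : ctx.gen Data.K3L ∈ C0 := gen_mem (Nat.blt_eq.mp hk3lt)
    have kim : sE * ctx.gen Data.K3L * sE = ctx.ev (unW (Data.kEls.get Data.k3Img)) := by
      have := eq_of_same hk3
      simpa [Ctx.ev_cons, sE, mul_assoc] using this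
    have hkels : ∀ j < Data.kN, inC (unW (Data.kEls.get j)) = true := fun j hj => by
      have := allBelow_eq_true.mp kEls_ok j hj
      simp only [Bool.and_eq_true] at this
      exact this.1
    have kka : ctx.gen Data.K3L * aE = aE * ctx.gen Data.K3L := by
      have := eq_of_same hka
      simpa [Ctx.ev_cons, aE] using this
    set y := s * S.φ (ctx.gen Data.K3L) * s with hy
    have hyT : y * S.T = S.T * y := by
      rw [hy, ← hsa']
      calc s * S.φ (ctx.gen Data.K3L) * s * (s * S.φ aE * s)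
          = s * S.φ (ctx.gen Data.K3L) * (s * s) * S.φ aE * s := by group
        _ = s * (S.φ (ctx.gen Data.K3L) * S.φ aE) * s := by rw [hss]; group
        _ = s * (S.φ aE * S.φ (ctx.gen Data.K3L)) * s := by
          rw [← S.φ_mul k0 aE_mem, ← S.φ_mul aE_mem k0, kka]
        _ = s * S.φ aE * (s * s) * S.φ (ctx.gen Data.K3L) * s := by rw [hss]; group
        _ = _ := by group
    have hya : y * S.φ aE = S.φ aE * y := by
      rw [hy, ← hst]
      calc s * S.φ (ctx.gen Data.K3L) * s * (s * S.T * s)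
          = s * S.φ (ctx.gen Data.K3L) * (s * s) * S.T * s := by group
        _ = s * (S.φ (ctx.gen Data.K3L) * S.T) * s := by rw [hss]; group
        _ = s * (S.T * S.φ (ctx.gen Data.K3L)) * s := by rw [S.φ_comm k0]
        _ = s * S.T * (s * s) * S.φ (ctx.gen Data.K3L) * s := by rw [hss]; group
        _ = _ := by group
    obtain ⟨w, hw, hwe⟩ := S.exists_φ hyT
    obtain ⟨j, hj, rfl⟩ := centralizer_a_listed hw (S.φ_inj (mul_mem hw aE_mem) (mul_mem aE_mem hw)
      (by rw [S.φ_mul hw aE_mem, S.φ_mul aE_mem hw, ← hwe, hya]))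
    -- the four letters and their images
    let gq : ℕ → R := fun q => ctx.ev (quadW q)
    let iq : ℕ → R := fun q => ctx.ev (quadImg j q)
    have hq4 : ∀ q < 4, gq q ∈ C0 ∧ iq q ∈ C0 ∧ s * S.φ (gq q) * s = S.φ (iq q) := by
      intro q hq
      rcases Nat.lt_succ_iff_lt_or_eq.mp hq with h3 | h3
      · have hb : Nat.blt q 3 = true := Nat.blt_eq.mpr h3
        obtain ⟨⟨g1, g2, g3⟩, g4⟩ := hu q h3
        simp only [gq, iq, quadW, quadImg, hb, cond_true, ctx.ev_single, ← g4]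
        exact ⟨g1, g2, g3⟩
      · subst h3
        have hb : Nat.blt 3 3 = false := rfl
        simp only [gq, iq, quadW, quadImg, hb, cond_false, ctx.ev_single]
        exact ⟨k0, hw, hwe⟩
    have hword : ∀ l : List ℕ, (∀ q ∈ l, q < 4) → ctx.ev (l.flatMap quadW) ∈ C0 ∧
        ctx.ev (l.flatMap (quadImg j)) ∈ C0 ∧
        s * S.φ (ctx.ev (l.flatMap quadW)) * s = S.φ (ctx.ev (l.flatMap (quadImg j))) := by
      intro l hl
      induction l with
      | nil => simp [S.φ_one, hss]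
      | cons q l ih =>
        obtain ⟨i1, i2, i3⟩ := ih fun r hr => hl r (List.mem_cons_of_mem _ hr)
        obtain ⟨a1, a2, a3⟩ := hq4 q (hl q (by simp))
        simp only [List.flatMap_cons, Ctx.ev_append]
        refine ⟨mul_mem a1 i1, mul_mem a2 i2, ?_⟩
        rw [S.φ_mul a1 i1, S.φ_mul a2 i2, ← a3, ← i3]
        calc s * (S.φ (gq q) * S.φ (ctx.ev (l.flatMap quadW))) * s
            = s * S.φ (gq q) * 1 * S.φ (ctx.ev (l.flatMap quadW)) * s := by group
          _ = _ := by rw [← hss]; group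
    by_cases hjk : j = Data.k3Img
    · exact ⟨k0, kim ▸ ev_mem (hkels _ (Nat.blt_eq.mp hj0)), by rw [kim, ← hjk, ← hwe]⟩
    exfalso
    have hwit := allBelow_eq_true.mp kWit_ok j hj
    simp only [Bool.or_eq_true, Nat.beq_eq, hjk, false_or, forceN_eq, Bool.and_eq_true, Nat.blt_eq,
      Bool.not_eq_true'] at hwit
    obtain ⟨hr, hne⟩ := hwit
    have hrel := allBelow_eq_true.mp kRel_ok _ hr
    simp only [Bool.and_eq_true] at hrel
    obtain ⟨⟨hL, hR⟩, he⟩ := hrel
    obtain ⟨-, l2, l3⟩ := hword _ (ltB_iff.mp hL)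
    obtain ⟨-, r2, r3⟩ := hword _ (ltB_iff.mp hR)
    rw [eq_of_same he, r3] at l3
    have hlt : ∀ l : List ℕ, (∀ q ∈ l, q < 4) → ∀ x ∈ l.flatMap (quadImg j), x < ctx.k := by
      intro l hl x hx
      obtain ⟨q, hq, hxq⟩ := List.mem_flatMap.mp hx
      rcases Nat.lt_succ_iff_lt_or_eq.mp (hl q hq) with h3 | h3
      · have h := allBelow_eq_true.mp quad_ok q h3
        simp only [Bool.and_eq_true] at h
        rw [quadImg, show Nat.blt q 3 = true from Nat.blt_eq.mpr h3, cond_true] at hxq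
        exact lt_of_inC h.1.1.2 x hxq
      · subst h3
        rw [quadImg, show Nat.blt 3 3 = false from rfl, cond_false] at hxq
        exact lt_of_inC (hkels j hj) x hxq
    rw [same_of_eq (hlt _ (ltB_iff.mp hL)) (hlt _ (ltB_iff.mp hR)) (S.φ_inj l2 r2 l3.symm)] at hne
    exact Bool.noConfusion hne
  refine ⟨s, ⟨hss, fun l hl x y hx hy => ?_, fun r hr => ?_⟩, by rw [hsi]; exact hst⟩
  · have hgood : Good (ctx.gen (rLet l)) := by
      have h := allBelow_eq_true.mp ruleLetters_ok l hl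
      have base : ∀ m < 4, Good (ctx.gen (rLet m)) := by
        intro m hm
        have h := allBelow_eq_true.mp ruleLetters_ok m (by omega)
        rcases Nat.lt_succ_iff_lt_or_eq.mp hm with h3 | h3
        · rw [show Nat.blt m 3 = true from Nat.blt_eq.mpr h3, cond_true, Nat.beq_eq] at h
          rw [h]; exact (hu m h3).1
        · subst h3
          simp only [show Nat.blt 3 3 = false from rfl, Nat.beq_refl, cond_false, cond_true, Nat.beq_eq] at h
          rw [h]; exact hK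
      by_cases h4 : l < 4
      · exact base l h4
      rw [show Nat.blt l 3 = false by rw [← Bool.not_eq_true, Nat.blt_eq]; omega,
        show Nat.beq l 3 = false by rw [← Bool.not_eq_true, Nat.beq_eq]; omega] at h
      simp only [cond_false, Bool.and_eq_true, Nat.beq_eq, Nat.blt_eq] at h
      have e : ctx.gen (rLet l) = (ctx.gen (rLet (Nat.sub l 4)))⁻¹ := by
        have hi := ctx.ev_inv (l := [rLet (Nat.sub l 4)])
          (fun x hx => (List.mem_singleton.mp hx) ▸ lt_of_lt_of_le h.2 kC_le)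
        rw [ctx.ev_single] at hi
        rw [h.1, ← hi, ← ctx.ev_single]
        rfl
      rw [e]
      exact hgood_inv _ (base _ (by show l - 4 < 4; omega))
    rw [← S.φ_coe, ← S.φ_coe, hx, hy]
    exact hgood.2.2
  · have hc := allBelow_eq_true.mp rel_ok r hr
    simp only [Bool.and_eq_true, allBelow_eq_true] at hc
    obtain ⟨⟨⟨⟨-, hm⟩, htl⟩, htle⟩, he⟩ := hc
    have hd := allBelow_eq_true.mp relD_ok r hr
    simp only [Bool.and_eq_true, allBelow_eq_true] at hd
    have hmem : ∀ (w : ℕ) (d : List ℕ), ltB 3 (unW w) = true → same (unW w) d = true →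
        allB (fun s => Data.dGens.any (Nat.beq s)) d = true →
        ∃ hD : ctx.ev (unW w) ∈ D0, S.Φ (P.el w) = ψ ⟨_, D0_le_N0 hD⟩ := by
      intro w d h1 h2 h3
      have hD : ctx.ev (unW w) ∈ D0 := eq_of_same h2 ▸ mem_D0_of_word h3
      exact ⟨hD, by rw [hψD _ hD, ← S.φ_coe, P_el_coe w h1]⟩
    obtain ⟨d0, e0⟩ := hmem _ _ (hm 0 (by norm_num)).1.2 (hm 0 (by norm_num)).2 (hd.1 0 (by norm_num))
    obtain ⟨d1, e1⟩ := hmem _ _ (hm 1 (by norm_num)).1.2 (hm 1 (by norm_num)).2 (hd.1 1 (by norm_num))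
    obtain ⟨d2, e2⟩ := hmem _ _ htl htle hd.2
    rw [e0, e1, e2, hs, ← map_mul, ← map_mul, ← map_mul, ← map_mul]
    refine congrArg ψ (Subtype.ext ?_)
    have := eq_of_same he
    simp only [Ctx.ev_cons, Ctx.ev_append, Ctx.ev_nil, mul_one] at this
    simp only [Subgroup.coe_mul]
    rw [← this]
    show sE * (ctx.ev _ * sE * (ctx.ev _ * sE)) = _
    simp only [sE, mul_assoc]

end Setting

end Cfsg.Agent.Co3Rec
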