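import Cfsg.Agent.Co3Rec.Base
import Cfsg.Agent.Co3Rec.Cover
import Cfsg.Agent.Co3Rec.Data.Proj
import Cfsg.Agent.Co3Rec.Data.Proj2

/-!
The model of the centraliser is a perfect double cover of Sp6(2): it acts by conjugation on 63
pairs of elements of order four.
-/

set_option autoImplicit false
set_option maxRecDepth 100000

namespace Cfsg.Agent.Co3Rec

open Cfsg Cfsg.Agent.Compute Cfsg.Agent.StemCert
open scoped commutatorElement

/-- The word of an element of the pairs. -/
noncomputable abbrev uw (i : ℕ) : List ℕ := Data.tWords.getD i []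

/-- An element of the pairs. -/
noncomputable def uE (i : ℕ) : R := ctx.ev (uw i)

/-- The row of a letter. -/
noncomputable abbrev row (g i : ℕ) : ℕ := Data.tRow.getD (Nat.add (Nat.mul g 63) i) 0

theorem uw_ok : allBelow 63 (fun i => ltB 3 (uw i)) = true := by decide +kernel

theorem rows_ok : allBelow 3 (fun g => allBelow 63 fun i =>
    Nat.blt (row g i) 63 && same (g :: uw i ++ ctx.inv [g])
      (cond (Nat.beq (Data.tTwist.getD (Nat.add (Nat.mul g 63) i) 0) 0) (uw (row g i))
        (Data.tL :: uw (row g i)))) = true := by decide +kernel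

theorem key_ok : allBelow 63 (fun i =>
    Nat.beq (keyW Data.codes (uw i)) (Data.tKeys.getD i 0) &&
      Nat.beq (keyW Data.codes (Data.tL :: uw i)) (Data.tKeys.getD (Nat.add 63 i) 0)) = true := by
  decide +kernel

theorem key_distinct : allBelow 63 (fun i => allBelow 63 fun j => Nat.beq i j ||
    (!(Nat.beq (Data.tKeys.getD i 0) (Data.tKeys.getD j 0)) &&
      !(Nat.beq (Data.tKeys.getD i 0) (Data.tKeys.getD (Nat.add 63 j) 0)))) = true := by decide +kernel

theorem tL_lt : Data.tL < Data.kC := by decide +kernel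

theorem tE_mem : tE ∈ C0 := gen_mem tL_lt

theorem tE_sq : tE * tE = 1 := by
  have h := eq_of_same (a := [Data.tL, Data.tL]) (b := []) (by decide +kernel)
  simpa [Ctx.ev_cons, tE] using h

theorem tE_ne_one : tE ≠ 1 := fun h => by
  have h2 := fx_special.1
  rw [h, fx_one] at h2
  norm_num at h2

theorem uw_lt {i : ℕ} (hi : i < 63) : ∀ s ∈ uw i, s < 3 :=
  ltB_iff.mp (allBelow_eq_true.mp uw_ok i hi)

theorem three_le : 3 ≤ ctx.k := by show 3 ≤ Data.k; decide +kernel

theorem uw_ltk {i : ℕ} (hi : i < 63) : ∀ s ∈ uw i, s < ctx.k := fun s hs =>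
  lt_of_lt_of_le (uw_lt hi s hs) three_le

theorem tL_ltk : Data.tL < ctx.k := lt_of_lt_of_le tL_lt kC_le

theorem uE_mem {i : ℕ} (hi : i < 63) : uE i ∈ C0 := ev_mem_of_small (uw_lt hi)

theorem pair_eq {i j : ℕ} (hi : i < 63) (hj : j < 63) (h : uE i = uE j ∨ uE i = tE * uE j) : i = j := by
  have d := allBelow_eq_true.mp (allBelow_eq_true.mp key_distinct i hi) j hj
  simp only [Bool.or_eq_true, Nat.beq_eq, Bool.and_eq_true, Bool.not_eq_true'] at d
  rcases d with d | ⟨d1, d2⟩
  · exact d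
  exfalso
  have k1 := allBelow_eq_true.mp key_ok i hi
  have k2 := allBelow_eq_true.mp key_ok j hj
  simp only [Bool.and_eq_true, Nat.beq_eq] at k1 k2
  rcases h with h | h
  · have e := ctx.key_eq (uw_ltk hi) (uw_ltk hj) h
    rw [show ctx.cs = Data.codes from rfl, k1.1, k2.1] at e
    rw [e] at d1
    simp at d1
  · have e := ctx.key_eq (uw_ltk hi) (b := Data.tL :: uw j)
      (fun s hs => by
        rcases List.mem_cons.mp hs with rfl | hs
        exacts [tL_ltk, uw_ltk hj s hs])
      (by rw [Ctx.ev_cons]; exact h)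
    rw [show ctx.cs = Data.codes from rfl, k1.1, k2.2] at e
    rw [e] at d2
    simp at d2

/-- Conjugation by the element takes one pair to the other. -/
def Sm (g : R) (i j : Fin 63) : Prop := g * uE i * g⁻¹ = uE j ∨ g * uE i * g⁻¹ = tE * uE j

theorem Sm.unique {g : R} {i j j' : Fin 63} (h : Sm g i j) (h' : Sm g i j') : j = j' := by
  refine Fin.ext (pair_eq j.2 j'.2 ?_)
  have t2 := tE_sq
  rcases h with h | h <;> rcases h' with h' | h'
  · exact Or.inl (h.symm.trans h')
  · exact Or.inr (h.symm.trans h')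
  · refine Or.inr ?_
    rw [← h', h, ← mul_assoc, t2, one_mul]
  · exact Or.inl (mul_left_cancel (h.symm.trans h'))

theorem Sm.comp {g h : R} {i j l : Fin 63} (hg : g * tE = tE * g) (h1 : Sm h i j) (h2 : Sm g j l) :
    Sm (g * h) i l := by
  have hc : g * h * uE i * (g * h)⁻¹ = g * (h * uE i * h⁻¹) * g⁻¹ := by group
  have hm : g * (tE * uE j) * g⁻¹ = tE * (g * uE j * g⁻¹) := by rw [← mul_assoc g, hg]; group
  have t2 := tE_sq
  unfold Sm
  rw [hc]
  rcases h1 with h1 | h1 <;> rw [h1]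
  · exact h2
  · rw [hm]
    rcases h2 with h2 | h2 <;> rw [h2]
    · exact Or.inr rfl
    · left; rw [← mul_assoc, t2, one_mul]

theorem Sm.one (i : Fin 63) : Sm 1 i i := Or.inl (by simp)

theorem sm_gen {s : ℕ} (hs : s < 3) (i : Fin 63) : ∃ j : Fin 63, (j : ℕ) = row s i ∧ Sm (ctx.gen s) i j := by
  have h := allBelow_eq_true.mp (allBelow_eq_true.mp rows_ok s hs) i i.2
  simp only [Bool.and_eq_true, Nat.blt_eq] at h
  refine ⟨⟨_, h.1⟩, rfl, ?_⟩
  have e := eq_of_same h.2
  rw [List.cons_append, Ctx.ev_cons, Ctx.ev_append, ctx.ev_inv (l := [s])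
    (by intro x hx; rw [List.mem_singleton.mp hx]; exact lt_of_lt_of_le hs three_le), Ctx.ev_single,
    ← mul_assoc] at e
  rcases Bool.eq_false_or_eq_true (Nat.beq (Data.tTwist.getD (Nat.add (Nat.mul s 63) i) 0) 0) with hb | hb <;>
    rw [hb] at e
  · exact Or.inl e
  · rw [cond_false, Ctx.ev_cons] at e
    exact Or.inr e

theorem exists_sm {g : R} (hg : g ∈ C0) (i : Fin 63) : ∃ j, Sm g i j := by
  revert i
  have hg' : g ∈ Submonoid.closure ({ctx.gen 0, ctx.gen 1} : Set R) := by
    rw [← Subgroup.closure_toSubmonoid_of_finite]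
    exact hg
  induction hg' using Submonoid.closure_induction with
  | mem x hx =>
    intro i
    simp only [Set.mem_insert_iff, Set.mem_singleton_iff] at hx
    rcases hx with rfl | rfl
    · obtain ⟨j, -, hj⟩ := sm_gen (s := 0) (by norm_num) i; exact ⟨j, hj⟩
    · obtain ⟨j, -, hj⟩ := sm_gen (s := 1) (by norm_num) i; exact ⟨j, hj⟩
  | one => exact fun i => ⟨i, Sm.one i⟩
  | mul x y hx hy ihx ihy =>
    intro i
    have hxC : x ∈ C0 := by
      rw [C0, ← Subgroup.mem_toSubmonoid, Subgroup.closure_toSubmonoid_of_finite]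
      exact hx
    obtain ⟨j, hj⟩ := ihy (by
      rw [C0, ← Subgroup.mem_toSubmonoid, Subgroup.closure_toSubmonoid_of_finite]
      exact hy) i
    obtain ⟨l, hl⟩ := ihx hxC j
    exact ⟨l, hj.comp (tE_central hxC) hl⟩

/-- The image of a pair. -/
noncomputable def θf (g : C0) (i : Fin 63) : Fin 63 := (exists_sm g.2 i).choose

theorem θf_spec (g : C0) (i : Fin 63) : Sm g i (θf g i) := (exists_sm g.2 i).choose_spec

theorem θf_mul (g h : C0) (i : Fin 63) : θf (g * h) i = θf g (θf h i) :=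
  (θf_spec (g * h) i).unique ((θf_spec h i).comp (tE_central g.2) (θf_spec g _))

theorem θf_one (i : Fin 63) : θf 1 i = i := (θf_spec 1 i).unique (Sm.one i)

/-- The action on the pairs. -/
noncomputable def θ : C0 →* Equiv.Perm (Fin 63) where
  toFun g :=
    { toFun := θf g
      invFun := θf g⁻¹
      left_inv := fun i => by rw [← θf_mul, inv_mul_cancel, θf_one]
      right_inv := fun i => by rw [← θf_mul, mul_inv_cancel, θf_one] }
  map_one' := Equiv.ext θf_one
  map_mul' g h := Equiv.ext (θf_mul g h)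

/-- A letter of the centraliser as an element of it. -/
noncomputable def cg (s : ℕ) : C0 := if h : s < 3 then ⟨ctx.gen s, small_mem h⟩ else 1

theorem θ_cg {s : ℕ} (hs : s < 3) (i : Fin 63) : (θ (cg s) i : ℕ) = row s i := by
  obtain ⟨j, hj, hs'⟩ := sm_gen hs i
  have h1 : Sm (ctx.gen s) i (θf (cg s) i) := by
    have := θf_spec (cg s) i
    simpa only [cg, dif_pos hs] using this
  rw [← hj]
  exact congrArg Fin.val (h1.unique hs')

/-- A word of rows applied to a pair. -/
noncomputable def rowApp (l : List ℕ) (i : ℕ) : ℕ :=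
  List.rec (motive := fun _ => ℕ) i (fun s _ r => row s r) l

theorem θ_word : ∀ (l : List ℕ), (∀ s ∈ l, s < 3) → ∀ i : Fin 63, (θ (evalW cg l) i : ℕ) = rowApp l i
  | [], _, i => by simp [evalW, rowApp]
  | s :: l, h, i => by
    rw [evalW_cons, map_mul, Equiv.Perm.mul_apply, θ_cg (h s (by simp)),
      θ_word l (fun r hr => h r (List.mem_cons_of_mem _ hr)) i]
    rfl

/-- The points of the symplectic group. -/
noncomputable abbrev ι63 : Sp →* Equiv.Perm (Fin 63) := SympMult.SpSix.ι card_zmod_two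

/-- The generators of the symplectic group. -/
noncomputable abbrev sg : ℕ → Sp := SympMult.SpSix.g (F := ZMod 2)

theorem into_ok : allBelow 2 (fun s => ltB 6 (Data.inS.getD s []) && allBelow 63 fun i =>
    Nat.beq (appW 6 SympMult.SpSix.codes (Data.inS.getD s []) i) (row s i)) = true := by decide +kernel

theorem back_ok : allBelow 6 (fun s => ltB 3 (Data.fromS.getD s []) && allBelow 63 fun i =>
    Nat.beq (getField 6 (SympMult.SpSix.codes.getD s 0) i) (rowApp (Data.fromS.getD s []) i)) = true := by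
  decide +kernel

theorem θ_cg_mem {s : ℕ} (hs : s < 2) : θ (cg s) = ι63 (evalW sg (Data.inS.getD s [])) := by
  have h := allBelow_eq_true.mp into_ok s hs
  simp only [Bool.and_eq_true, allBelow_eq_true, Nat.beq_eq] at h
  refine Equiv.ext fun i => Fin.ext ?_
  rw [θ_cg (by omega), ← h.2 i i.2]
  exact (appW_spec (SympMult.SpSix.g_coded card_zmod_two) _ (ltB_iff.mp h.1) i).symm

theorem cg_closure : Subgroup.closure ({cg 0, cg 1} : Set C0) = ⊤ := by
  apply Subgroup.map_injective C0.subtype_injective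
  rw [MonoidHom.map_closure, ← MonoidHom.range_eq_map, Subgroup.range_subtype, Set.image_pair]
  simp [cg, C0]
  rfl

theorem θ_range : θ.range = ι63.range := by
  refine le_antisymm ?_ ?_
  · rw [MonoidHom.range_eq_map, ← cg_closure, MonoidHom.map_closure, Subgroup.closure_le, Set.image_pair]
    rintro _ (rfl | rfl) <;> exact ⟨_, (θ_cg_mem (by norm_num)).symm⟩
  · have hg : Subgroup.closure (sg '' {s | s < 6}) = ⊤ := by
      rw [eq_top_iff]
      intro x _
      exact (Submonoid.closure_le.mpr Subgroup.subset_closure :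
        Submonoid.closure _ ≤ (Subgroup.closure (sg '' {s | s < 6})).toSubmonoid)
          (SympMult.SpSix.g_gen card_zmod_two x)
    rw [MonoidHom.range_eq_map (f := ι63), ← hg, MonoidHom.map_closure, Subgroup.closure_le]
    rintro _ ⟨_, ⟨s, hs, rfl⟩, rfl⟩
    have h := allBelow_eq_true.mp back_ok s hs
    simp only [Bool.and_eq_true, allBelow_eq_true, Nat.beq_eq] at h
    refine ⟨evalW cg (Data.fromS.getD s []), Equiv.ext fun i => Fin.ext ?_⟩
    rw [θ_word _ (ltB_iff.mp h.1), SympMult.SpSix.g_coded card_zmod_two s hs i, h.2 i i.2]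

/-- The map onto the symplectic group. -/
noncomputable def σ : C0 →* Sp :=
  (MonoidHom.ofInjective (SympMult.SpSix.ι_injective card_zmod_two)).symm.toMonoidHom.comp
    (θ.codRestrict ι63.range fun x => θ_range ▸ MonoidHom.mem_range.mpr ⟨x, rfl⟩)

theorem σ_spec (x : C0) : ι63 (σ x) = θ x :=
  congrArg Subtype.val ((MonoidHom.ofInjective (SympMult.SpSix.ι_injective card_zmod_two)).apply_symm_apply
    (θ.codRestrict ι63.range (fun x => θ_range ▸ MonoidHom.mem_range.mpr ⟨x, rfl⟩) x))

theorem σ_surjective : Function.Surjective σ := by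
  intro y
  obtain ⟨x, hx⟩ := MonoidHom.mem_range.mp (θ_range ▸ MonoidHom.mem_range.mpr ⟨y, rfl⟩ : ι63 y ∈ θ.range)
  exact ⟨x, SympMult.SpSix.ι_injective card_zmod_two ((σ_spec x).trans hx)⟩

theorem comm_ok : (ltB 3 (Data.xComm.getD 0 []) && ltB 3 (Data.xComm.getD 1 []) &&
    ltB 3 (Data.yComm.getD 0 []) && ltB 3 (Data.yComm.getD 1 []) &&
    same [0] (Data.xComm.getD 0 [] ++ Data.xComm.getD 1 [] ++ ctx.inv (Data.xComm.getD 0 []) ++
      ctx.inv (Data.xComm.getD 1 [])) &&
    same [1] (Data.yComm.getD 0 [] ++ Data.yComm.getD 1 [] ++ ctx.inv (Data.yComm.getD 0 []) ++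
      ctx.inv (Data.yComm.getD 1 []))) = true := by decide +kernel

theorem cg_commutator : ∀ s < 2, ∃ a b : C0, cg s = ⁅a, b⁆ := by
  have h := comm_ok
  simp only [Bool.and_eq_true] at h
  obtain ⟨⟨⟨⟨⟨a0, a1⟩, b0⟩, b1⟩, hx⟩, hy⟩ := h
  have key : ∀ {s : ℕ} {a b : List ℕ}, s < 3 → ltB 3 a = true → ltB 3 b = true →
      same [s] (a ++ b ++ ctx.inv a ++ ctx.inv b) = true → ∃ u v : C0, cg s = ⁅u, v⁆ := by
    intro s a b hs ha hb he
    refine ⟨⟨ctx.ev a, ev_mem_of_small (ltB_iff.mp ha)⟩, ⟨ctx.ev b, ev_mem_of_small (ltB_iff.mp hb)⟩,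
      Subtype.ext ?_⟩
    have e := eq_of_same he
    rw [ctx.ev_single, Ctx.ev_append, Ctx.ev_append, Ctx.ev_append,
      ctx.ev_inv (fun x hx => lt_of_lt_of_le (ltB_iff.mp ha x hx) three_le),
      ctx.ev_inv (fun x hx => lt_of_lt_of_le (ltB_iff.mp hb x hx) three_le)] at e
    simp only [cg, dif_pos hs]
    rw [e]
    simp [commutatorElement_def]
  intro s hs
  interval_cases s
  · exact key (by norm_num) a0 a1 hx
  · exact key (by norm_num) b0 b1 hy

theorem C0_perfect : commutator C0 = ⊤ := by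
  rw [eq_top_iff, ← cg_closure, Subgroup.closure_le]
  rintro x (rfl | rfl)
  · obtain ⟨a, b, e⟩ := cg_commutator 0 (by norm_num)
    rw [e]; exact Subgroup.commutator_mem_commutator (Subgroup.mem_top _) (Subgroup.mem_top _)
  · obtain ⟨a, b, e⟩ := cg_commutator 1 (by norm_num)
    rw [e]; exact Subgroup.commutator_mem_commutator (Subgroup.mem_top _) (Subgroup.mem_top _)

theorem genInT_ok : allBelow 2 (fun s => ltB 63 (Data.genInT.getD s []) &&
    same [s] ((Data.genInT.getD s []).flatMap uw)) = true := by decide +kernel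

theorem ev_flatMap : ∀ l : List ℕ, ctx.ev (l.flatMap uw) = (l.map uE).prod
  | [] => by simp
  | i :: l => by rw [List.flatMap_cons, Ctx.ev_append, ev_flatMap l]; rfl

/-- The central involution of the model. -/
noncomputable def tC : C0 := ⟨tE, tE_mem⟩

theorem tC_center : tC ∈ Subgroup.center C0 :=
  Subgroup.mem_center_iff.mpr fun x => Subtype.ext (tE_central x.2)

theorem θ_eq_one_iff {c : C0} (h : θ c = 1) (i : Fin 63) :
    (c : R) * uE i * (c : R)⁻¹ = uE i ∨ (c : R) * uE i * (c : R)⁻¹ = tE * uE i := by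
  have := θf_spec c i
  rwa [show θf c i = i from congrArg (fun p : Equiv.Perm (Fin 63) => p i) h] at this

theorem σ_ker_center : σ.ker ≤ Subgroup.center C0 := by
  intro c hc
  have hθ : θ c = 1 := by rw [← σ_spec, MonoidHom.mem_ker.mp hc, map_one]
  have t2 := tE_sq
  -- the elements moved only by the central involution form a subgroup
  let H : Subgroup R :=
    { carrier := {x | x ∈ C0 ∧ ((c : R) * x * (c : R)⁻¹ = x ∨ (c : R) * x * (c : R)⁻¹ = tE * x)}
      one_mem' := ⟨one_mem _, Or.inl (by simp)⟩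
      mul_mem' := by
        rintro x y ⟨hx, hx'⟩ ⟨hy, hy'⟩
        refine ⟨mul_mem hx hy, ?_⟩
        have e : (c : R) * (x * y) * (c : R)⁻¹ = ((c : R) * x * (c : R)⁻¹) * ((c : R) * y * (c : R)⁻¹) := by group
        rw [e]
        rcases hx' with hx' | hx' <;> rcases hy' with hy' | hy' <;> rw [hx', hy']
        · exact Or.inl rfl
        · right; rw [← mul_assoc x, tE_central hx, mul_assoc]
        · exact Or.inr (mul_assoc _ _ _)
        · left; rw [mul_assoc tE, ← mul_assoc x, tE_central hx, mul_assoc tE, ← mul_assoc tE tE, t2, one_mul]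
      inv_mem' := by
        rintro x ⟨hx, hx'⟩
        refine ⟨inv_mem hx, ?_⟩
        have e : (c : R) * x⁻¹ * (c : R)⁻¹ = ((c : R) * x * (c : R)⁻¹)⁻¹ := by group
        rw [e]
        rcases hx' with hx' | hx' <;> rw [hx']
        · exact Or.inl rfl
        · right
          rw [mul_inv_rev, inv_eq_of_mul_eq_one_right t2, tE_central (inv_mem hx)] }
  have hu : ∀ i < 63, uE i ∈ H := fun i hi => ⟨uE_mem hi, θ_eq_one_iff hθ ⟨i, hi⟩⟩
  have hH : C0 ≤ H := by
    conv_lhs => rw [C0]
    rw [Subgroup.closure_le]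
    have hh : ∀ s < 2, ctx.gen s ∈ H := by
      intro s hs
      have h := allBelow_eq_true.mp genInT_ok s hs
      simp only [Bool.and_eq_true] at h
      rw [← ctx.ev_single, eq_of_same h.2, ev_flatMap]
      exact list_prod_mem fun y hy => by
        obtain ⟨i, hi, rfl⟩ := List.mem_map.mp hy
        exact hu i (ltB_iff.mp h.1 i hi)
    rintro x (rfl | rfl)
    exacts [hh 0 (by norm_num), hh 1 (by norm_num)]
  have hcen : ∀ a : C0, ∃ z ∈ Subgroup.center C0, c * a * c⁻¹ = z * a := fun a => by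
    rcases (hH a.2).2 with h | h
    · exact ⟨1, one_mem _, Subtype.ext (by simpa using h)⟩
    · exact ⟨tC, tC_center, Subtype.ext h⟩
  have hfix : ∀ s < 2, c * cg s * c⁻¹ = cg s := by
    intro s hs
    obtain ⟨a, b, e⟩ := cg_commutator s hs
    obtain ⟨z, hz, hza⟩ := hcen a
    obtain ⟨w, hw, hwb⟩ := hcen b
    rw [e, ← MulAut.conj_apply, map_commutatorElement, MulAut.conj_apply, MulAut.conj_apply, hza, hwb]
    have cz : ∀ x, z * x = x * z := fun x => (Subgroup.mem_center_iff.mp hz x).symm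
    have cw : ∀ x, w * x = x * w := fun x => (Subgroup.mem_center_iff.mp hw x).symm
    simp only [commutatorElement_def, mul_inv_rev]
    calc z * a * (w * b) * (a⁻¹ * z⁻¹) * (b⁻¹ * w⁻¹) = z * (a * w) * b * a⁻¹ * (z⁻¹ * b⁻¹) * w⁻¹ := by group
      _ = z * (w * a) * b * a⁻¹ * (b⁻¹ * z⁻¹) * w⁻¹ := by
        rw [cw a, show z⁻¹ * b⁻¹ = b⁻¹ * z⁻¹ by rw [← mul_inv_rev, ← mul_inv_rev, cz]]
      _ = z * (w * (a * b * a⁻¹ * b⁻¹)) * z⁻¹ * w⁻¹ := by group
      _ = (w * (a * b * a⁻¹ * b⁻¹)) * z * z⁻¹ * w⁻¹ := by rw [cz]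
      _ = w * (a * b * a⁻¹ * b⁻¹) * w⁻¹ := by group
      _ = a * b * a⁻¹ * b⁻¹ := by rw [cw, mul_inv_cancel_right]
  have hmem : ({cg 0, cg 1} : Set C0) ⊆ Subgroup.centralizer {c} := by
    intro x hx
    rw [SetLike.mem_coe, Subgroup.mem_centralizer_singleton_iff]
    rcases hx with rfl | rfl
    · exact (mul_inv_eq_iff_eq_mul.mp (hfix 0 (by norm_num))).symm
    · exact (mul_inv_eq_iff_eq_mul.mp (hfix 1 (by norm_num))).symm
  refine Subgroup.mem_center_iff.mpr fun x => ?_
  have hx : x ∈ Subgroup.centralizer ({c} : Set C0) :=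
    (Subgroup.closure_le _).mpr hmem (cg_closure ▸ Subgroup.mem_top x)
  exact Subgroup.mem_centralizer_singleton_iff.mp hx

theorem tC_ker : tC ∈ σ.ker := by
  rw [MonoidHom.mem_ker]
  apply SympMult.SpSix.ι_injective card_zmod_two
  rw [σ_spec, map_one]
  refine Equiv.ext fun i => (θf_spec tC i).unique (Or.inl ?_)
  show tE * uE i * tE⁻¹ = uE i
  rw [← tE_central (uE_mem i.2), mul_inv_cancel_right]

theorem σ_ker_card : Nat.card σ.ker = 2 := by
  refine le_antisymm (card_stem_ker_le σ ⟨σ_surjective, σ_ker_center, by rw [C0_perfect]; exact le_top⟩) ?_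
  have : Nontrivial σ.ker := ⟨⟨⟨tC, tC_ker⟩, 1, fun h => tE_ne_one (congrArg (fun x : σ.ker => ((x : C0) : R)) h)⟩⟩
  exact Finite.one_lt_card

theorem card_C0 : Nat.card C0 = 2903040 := by
  rw [← Subgroup.card_mul_index σ.ker, Subgroup.index_ker, MonoidHom.range_eq_top.mpr σ_surjective,
    Subgroup.card_top, σ_ker_card, card_Sp]

theorem center_C0 : Subgroup.center C0 = Subgroup.zpowers tC := by
  have h1 : Subgroup.center C0 ≤ σ.ker := by
    intro c hc
    have : σ c ∈ Subgroup.center Sp := Subgroup.mem_center_iff.mpr fun y => by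
      obtain ⟨x, rfl⟩ := σ_surjective y
      rw [← map_mul, ← map_mul, Subgroup.mem_center_iff.mp hc x]
    rw [center_Sp, Subgroup.mem_bot] at this
    exact this
  refine le_antisymm ?_ (Subgroup.zpowers_le.mpr tC_center)
  refine h1.trans (le_of_eq (Subgroup.eq_of_le_of_card_ge (Subgroup.zpowers_le.mpr tC_ker) ?_).symm)
  rw [σ_ker_card]
  exact Finite.one_lt_card_iff_nontrivial.mpr
    ⟨⟨⟨tC, Subgroup.mem_zpowers _⟩, 1, fun h => tE_ne_one (congrArg (fun x : Subgroup.zpowers tC => ((x : C0) : R)) h)⟩⟩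

/-- Every non-split double cover of Sp6(2) is the model. -/
theorem cover_iso {K : Type*} [Group K] [Finite K]
    (h : Cfsg.IsNonsplitDoubleCover K (Matrix.symplecticGroup (Fin 3) (ZMod 2))) : Nonempty (C0 ≃* K) :=
  nonsplit_iso h σ σ_surjective σ_ker_center C0_perfect σ_ker_card

end Cfsg.Agent.Co3Rec
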