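import Cfsg.Agent.Co3Rec.Kit
import Cfsg.Agent.Co3Rec.Proj
import Cfsg.Agent.Co3Rec.Data.CentA
import Cfsg.Agent.Co3Rec.Data.Orbit
import Cfsg.Agent.Co3Rec.Data.Sylow
import Cfsg.Agent.Co3Rec.Data.Fusion
import Mathlib.GroupTheory.Sylow

/-!
The centraliser of the second involution in the model, a Sylow two-subgroup and the classes of
involutions.
-/

set_option autoImplicit false
set_option maxRecDepth 100000

namespace Cfsg.Agent.Co3Rec

open Cfsg Cfsg.Agent.Compute Cfsg.Agent.StemCert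

/-- A class times a centraliser. -/
theorem card_class_mul_centralizer {Γ : Type*} [Group Γ] [Finite Γ] (x : Γ) :
    Nat.card {g : Γ // IsConj x g} * Nat.card (Subgroup.centralizer ({x} : Set Γ)) = Nat.card Γ := by
  have h := Nat.card_congr (MulAction.orbitProdStabilizerEquivGroup (ConjAct Γ) x)
  rw [Nat.card_prod] at h
  have e1 : Nat.card {g : Γ // IsConj x g} = Nat.card (MulAction.orbit (ConjAct Γ) x) :=
    Nat.card_congr (Equiv.subtypeEquivRight fun g => by
      rw [ConjAct.mem_orbit_conjAct, isConj_comm])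
  have e2 : Nat.card (Subgroup.centralizer ({x} : Set Γ)) =
      Nat.card (MulAction.stabilizer (ConjAct Γ) x) :=
    Nat.card_congr (ConjAct.toConjAct.toEquiv.subtypeEquiv fun g => by
      rw [Subgroup.mem_centralizer_singleton_iff, MulAction.mem_stabilizer_iff]
      show g * x = x * g ↔ ConjAct.toConjAct g • x = x
      rw [ConjAct.toConjAct_smul, mul_inv_eq_iff_eq_mul])
  rw [e1, e2, h]
  exact Nat.card_congr ConjAct.ofConjAct.toEquiv

/-- A two-group is conjugate into a subgroup of full two-power order. -/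
theorem conj_into {Γ : Type*} [Group Γ] [Finite Γ] (P : Subgroup Γ) {k m : ℕ}
    (hP : Nat.card P = 2 ^ k) (hΓ : Nat.card Γ = 2 ^ k * m) (hm : ¬ 2 ∣ m) {Q : Subgroup Γ}
    (hQ : IsPGroup 2 Q) : ∃ g : Γ, ∀ q ∈ Q, g * q * g⁻¹ ∈ P := by
  have : Fact (Nat.Prime 2) := ⟨Nat.prime_two⟩
  have hf : (Nat.card Γ).factorization 2 = k := by
    have hm0 : m ≠ 0 := fun h => hm (h ▸ dvd_zero 2)
    rw [hΓ, Nat.factorization_mul (by positivity) hm0, Finsupp.add_apply,
      Nat.Prime.factorization_pow Nat.prime_two, Nat.factorization_eq_zero_of_not_dvd hm]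
    simp
  obtain ⟨S, hS⟩ := hQ.exists_le_sylow
  obtain ⟨g, hg⟩ := MulAction.exists_smul_eq Γ S (Sylow.ofCard P (by rw [hP, hf]))
  refine ⟨g, fun q hq => ?_⟩
  have h1 : (S : Subgroup Γ).map (MulAut.conj g).toMonoidHom = P := by
    have := congrArg Sylow.toSubgroup hg
    rwa [Sylow.coe_subgroup_smul] at this
  rw [← h1]
  exact ⟨q, hS hq, rfl⟩

/-- The group generated by an involution is a two-group. -/
theorem isPGroup_zpowers {Γ : Type*} [Group Γ] {x : Γ} (h : x * x = 1) :
    IsPGroup 2 (Subgroup.zpowers x) := by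
  rintro ⟨y, n, rfl⟩
  refine ⟨1, Subtype.ext ?_⟩
  show (x ^ n) ^ 2 ^ 1 = 1
  rw [pow_one, ← zpow_natCast, ← zpow_mul, mul_comm, zpow_mul, zpow_natCast, sq, h, one_zpow]

theorem same_of_eq {a b : List ℕ} (ha : ∀ s ∈ a, s < ctx.k) (hb : ∀ s ∈ b, s < ctx.k)
    (h : ctx.ev a = ctx.ev b) : same a b = true := by
  simp only [same, sameB, Bool.and_eq_true]
  refine ⟨⟨ltB_iff.mpr ha, ltB_iff.mpr hb⟩, ?_⟩
  have key : ∀ (L : List ℕ), (∀ x ∈ L, x < 276) → allB (fun x =>
      Nat.beq (appW 9 Data.codes a x) (appW 9 Data.codes b x)) L = true := by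
    intro L
    induction L with
    | nil => intro _; rfl
    | cons x L ih =>
      intro hL
      have hx := hL x (by simp)
      show (Nat.beq (appW 9 Data.codes a x) (appW 9 Data.codes b x) && allB _ L) = true
      rw [Bool.and_eq_true, Nat.beq_eq, show Data.codes = ctx.cs from rfl,
        ← appW_spec ctx.coded a ha ⟨x, hx⟩, ← appW_spec ctx.coded b hb ⟨x, hx⟩]
      exact ⟨congrArg (fun g => ((Co3Out.ι g) ⟨x, hx⟩ : ℕ)) h, ih fun y hy => hL y (List.mem_cons_of_mem _ hy)⟩
  exact key _ Co3Out.base_isBase.1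

/-- The word of a conjugate of a letter. -/
noncomputable abbrev cjW (v : List ℕ) (l : ℕ) : List ℕ := v ++ l :: ctx.inv v

theorem ev_cjW {v : List ℕ} (hv : inC v = true) {l : ℕ} :
    ctx.ev (cjW v l) = ctx.ev v * ctx.gen l * (ctx.ev v)⁻¹ := by
  rw [cjW, Ctx.ev_append, Ctx.ev_cons, ctx.ev_inv (lt_of_inC hv), mul_assoc]

theorem aL_lt : Data.aL < Data.kC ∧ Data.bL < Data.kC := by decide +kernel

theorem aE_mem : aE ∈ C0 := gen_mem aL_lt.1

theorem bE_mem : bE ∈ C0 := gen_mem aL_lt.2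

theorem ae_be_sq : aE * aE = 1 ∧ bE * bE = 1 := by
  have h1 := eq_of_same (a := [Data.aL, Data.aL]) (b := []) (by decide +kernel)
  have h2 := eq_of_same (a := [Data.bL, Data.bL]) (b := []) (by decide +kernel)
  simp [Ctx.ev_cons] at h1 h2
  exact ⟨h1, h2⟩

/-- The second involution in the model. -/
noncomputable def aC : C0 := ⟨aE, aE_mem⟩

theorem aConj_keys : allBelow Data.aN (fun i => Nat.blt (Data.aOrd i) Data.aN &&
    ltB Data.k (cjW (unW (Data.aConj.get (Data.aOrd i))) Data.aL) &&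
      (Nat.beq (Nat.succ i) Data.aN ||
        Nat.blt (keyW Data.codes (cjW (unW (Data.aConj.get (Data.aOrd i))) Data.aL))
          (keyW Data.codes (cjW (unW (Data.aConj.get (Data.aOrd (Nat.succ i)))) Data.aL)))) = true := by
  decide +kernel

theorem aConj_inC : allBelow Data.aN (fun i => inC (unW (Data.aConj.get i))) = true := by decide +kernel

theorem card_centralizer_a : Nat.card (Subgroup.centralizer ({aC} : Set C0)) ≤ 4608 := by
  classical
  have h1 : 630 ≤ Nat.card {g : C0 // IsConj aC g} := by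
    have h := card_le_of_keys (N := Data.aN) (fun i => cjW (unW (Data.aConj.get i)) Data.aL) Data.aOrd
      aConj_keys {x : R | ∃ g : C0, IsConj aC g ∧ (g : R) = x}
      (fun i hi => by
        have hin := allBelow_eq_true.mp aConj_inC i hi
        let v : C0 := ⟨_, ev_mem hin⟩
        exact ⟨v * aC * v⁻¹, isConj_iff.mpr ⟨v, rfl⟩, by simp [v, aC, aE, ev_cjW hin]⟩)
    refine le_trans ((show 630 = Data.aN by decide +kernel) ▸ h) ?_
    let f : {g : C0 // IsConj aC g} → {x : R | ∃ g : C0, IsConj aC g ∧ (g : R) = x} :=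
      fun g => ⟨_, g.1, g.2, rfl⟩
    refine Nat.card_le_card_of_surjective f ?_
    rintro ⟨x, g, hg, rfl⟩
    exact ⟨⟨g, hg⟩, rfl⟩
  have h2 := card_class_mul_centralizer aC
  rw [card_C0] at h2
  have h3 := Nat.mul_le_mul_right (Nat.card (Subgroup.centralizer ({aC} : Set C0))) h1
  omega

theorem kEls_ok : allBelow Data.kN (fun i => inC (unW (Data.kEls.get i)) &&
    same (unW (Data.kEls.get i) ++ [Data.aL]) (Data.aL :: unW (Data.kEls.get i))) = true := by
  decide +kernel

theorem kEls_keys : allBelow Data.kN (fun i => Nat.blt (Data.kOrd i) Data.kN &&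
    ltB Data.k (unW (Data.kEls.get (Data.kOrd i))) &&
      (Nat.beq (Nat.succ i) Data.kN ||
        Nat.blt (keyW Data.codes (unW (Data.kEls.get (Data.kOrd i))))
          (keyW Data.codes (unW (Data.kEls.get (Data.kOrd (Nat.succ i))))))) = true := by decide +kernel

/-- The elements commuting with both involutions are listed. -/
theorem centralizer_a_listed {x : R} (hx : x ∈ C0) (h : x * aE = aE * x) :
    ∃ i < Data.kN, x = ctx.ev (unW (Data.kEls.get i)) := by
  classical
  let S : Set R := {y | y ∈ C0 ∧ y * aE = aE * y}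
  let L : Set R := (fun i : Fin Data.kN => ctx.ev (unW (Data.kEls.get i))) '' Set.univ
  have hLS : L ⊆ S := by
    rintro _ ⟨i, -, rfl⟩
    have hi := allBelow_eq_true.mp kEls_ok i i.2
    simp only [Bool.and_eq_true] at hi
    refine ⟨ev_mem hi.1, ?_⟩
    have e := eq_of_same hi.2
    simpa [Ctx.ev_append, Ctx.ev_cons, aE] using e
  have hcard : Nat.card S ≤ 4608 := by
    refine le_trans ?_ card_centralizer_a
    let f : S → Subgroup.centralizer ({aC} : Set C0) := fun y =>
      ⟨⟨y.1, y.2.1⟩, Subgroup.mem_centralizer_singleton_iff.mpr (Subtype.ext y.2.2)⟩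
    exact Nat.card_le_card_of_injective f fun y z e =>
      Subtype.ext (congrArg (fun w : Subgroup.centralizer ({aC} : Set C0) => ((w : C0) : R)) e)
  have hL : 4608 ≤ Nat.card L := by
    have h := card_le_of_keys (N := Data.kN) (fun i => unW (Data.kEls.get i)) Data.kOrd kEls_keys L
      (fun i hi => ⟨⟨i, hi⟩, trivial, rfl⟩)
    exact (show 4608 = Data.kN by decide +kernel) ▸ h
  have heq : L = S := Set.eq_of_subset_of_ncard_le hLS (by
    rw [← Nat.card_coe_set_eq, ← Nat.card_coe_set_eq]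
    exact hcard.trans hL)
  obtain ⟨i, -, hi⟩ := (heq ▸ (show x ∈ S from ⟨hx, h⟩) : x ∈ L)
  exact ⟨i, i.2, hi.symm⟩

/-- A word of the Sylow list. -/
noncomputable abbrev pW (i : ℕ) : List ℕ := unW (Data.pEls.get i)

/-- The Sylow two-subgroup. -/
noncomputable def P0 : Subgroup R := Subgroup.closure {y | ∃ s ∈ Data.pGens, y = ctx.gen s}

theorem pStep_ok : allBelow Data.pN (fun i => allBelow Data.pGens.length fun g =>
    Nat.blt (Data.pStep (Nat.add (Nat.mul g Data.pN) i)) Data.pN &&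
      same (Data.pGens.getD g 0 :: pW i) (pW (Data.pStep (Nat.add (Nat.mul g Data.pN) i)))) = true := by
  decide +kernel

theorem pKeys : allBelow Data.pN (fun i => Nat.blt (Data.pOrd i) Data.pN &&
    ltB Data.k (pW (Data.pOrd i)) &&
      (Nat.beq (Nat.succ i) Data.pN ||
        Nat.blt (keyW Data.codes (pW (Data.pOrd i))) (keyW Data.codes (pW (Data.pOrd (Nat.succ i)))))) =
          true := by decide +kernel

theorem pLetters : allBelow Data.pN (fun i => inC (pW i) &&
    allB (fun s => Data.pGens.any (Nat.beq s)) (pW i)) = true := by decide +kernel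

theorem pGens_lt : allB (fun s => Nat.blt s Data.kC) Data.pGens = true := by decide +kernel

theorem P0_le : P0 ≤ C0 := by
  rw [P0, Subgroup.closure_le]
  rintro _ ⟨s, hs, rfl⟩
  exact gen_mem (Nat.blt_eq.mp (allB_spec pGens_lt s hs))

theorem pW_mem {i : ℕ} (hi : i < Data.pN) : ctx.ev (pW i) ∈ P0 := by
  have h := allBelow_eq_true.mp pLetters i hi
  simp only [Bool.and_eq_true] at h
  refine list_prod_mem fun y hy => ?_
  obtain ⟨s, hs, rfl⟩ := List.mem_map.mp hy
  obtain ⟨r, hr, hrs⟩ := List.any_eq_true.mp (allB_spec h.2 s hs)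
  exact Subgroup.subset_closure ⟨s, Nat.eq_of_beq_eq_true hrs ▸ hr, rfl⟩

theorem pW_lt {i : ℕ} (hi : i < Data.pN) : ∀ s ∈ pW i, s < ctx.k := by
  have h := allBelow_eq_true.mp pLetters i hi
  simp only [Bool.and_eq_true] at h
  exact lt_of_inC h.1

theorem P0_listed {x : R} (hx : x ∈ P0) : ∃ i < Data.pN, x = ctx.ev (pW i) :=
  mem_list_of_closure pW Data.pGens (fun g i => Data.pStep (Nat.add (Nat.mul g Data.pN) i))
    ⟨by decide +kernel, by decide +kernel⟩ pStep_ok hx

theorem card_P0 : Nat.card P0 = 2 ^ 10 := by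
  refine le_antisymm ?_ ?_
  · let f : Fin Data.pN → P0 := fun i => ⟨_, pW_mem i.2⟩
    have hf : Function.Surjective f := fun x => by
      obtain ⟨i, hi, e⟩ := P0_listed x.2
      exact ⟨⟨i, hi⟩, Subtype.ext e.symm⟩
    have := Nat.card_le_card_of_surjective f hf
    rw [Nat.card_fin, show Data.pN = 2 ^ 10 by decide +kernel] at this
    exact this
  · have h := card_le_of_keys pW Data.pOrd pKeys (P0 : Set R) fun i hi => pW_mem hi
    exact (show Data.pN = 2 ^ 10 by decide +kernel) ▸ h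

theorem pCentre_ok : allBelow Data.pN (fun i => Nat.beq i 0 || Nat.beq i Data.pT ||
    Data.pGens.any (fun g => !(same (g :: pW i) (pW i ++ [g])))) = true := by decide +kernel

theorem pT_ok : (Nat.blt Data.pT Data.pN && same (pW Data.pT) [Data.tL]) = true := by decide +kernel

theorem P0_centre {x : R} (hx : x ∈ P0) (hc : ∀ y ∈ P0, y * x = x * y) : x = 1 ∨ x = tE := by
  obtain ⟨i, hi, rfl⟩ := P0_listed hx
  have h := allBelow_eq_true.mp pCentre_ok i hi
  simp only [Bool.or_eq_true, Nat.beq_eq, List.any_eq_true, Bool.not_eq_true'] at h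
  have hp := pT_ok
  simp only [Bool.and_eq_true] at hp
  rcases h with (h | h) | ⟨g, hg, hne⟩
  · left; rw [h, show pW 0 = [] by decide +kernel]; rfl
  · right; rw [h, eq_of_same hp.2, ctx.ev_single]; rfl
  · exfalso
    have hgk : g < ctx.k := lt_of_lt_of_le (Nat.blt_eq.mp (allB_spec pGens_lt g hg)) kC_le
    have := same_of_eq (a := g :: pW i) (b := pW i ++ [g])
      (fun s hs => by
        rcases List.mem_cons.mp hs with rfl | hs
        exacts [hgk, pW_lt hi s hs])
      (fun s hs => by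
        rcases List.mem_append.mp hs with hs | hs
        exacts [pW_lt hi s hs, (List.mem_singleton.mp hs) ▸ hgk])
      (by
        rw [Ctx.ev_cons, Ctx.ev_append, ctx.ev_single]
        exact hc _ (Subgroup.subset_closure ⟨g, hg, rfl⟩))
    rw [hne] at this
    exact Bool.noConfusion this

theorem pType_ok : allBelow Data.pN (fun i =>
    cond (Nat.beq (Data.pType i) 0) (Nat.beq i 0)
    (cond (Nat.beq (Data.pType i) 1) (!(same (pW i ++ pW i) []))
    (cond (Nat.beq (Data.pType i) 2) (same (pW i) [Data.tL])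
    (inC (unW (Data.pConj.get i)) && same (pW i) (cjW (unW (Data.pConj.get i))
      (cond (Nat.beq (Data.pType i) 3) Data.aL Data.bL)))))) = true := by decide +kernel

/-- The kinds of the elements of the Sylow subgroup of square one. -/
theorem pType_spec {i : ℕ} (hi : i < Data.pN) (h2 : ctx.ev (pW i) * ctx.ev (pW i) = 1) :
    (Data.pType i = 0 ∧ ctx.ev (pW i) = 1) ∨ (Data.pType i = 2 ∧ ctx.ev (pW i) = tE) ∨
      (Data.pType i = 3 ∧ ∃ v ∈ C0, ctx.ev (pW i) = v * aE * v⁻¹) ∨
      (4 ≤ Data.pType i ∧ ∃ v ∈ C0, ctx.ev (pW i) = v * bE * v⁻¹) := by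
  have h := allBelow_eq_true.mp pType_ok i hi
  rcases Bool.eq_false_or_eq_true (Nat.beq (Data.pType i) 0) with b0 | b0 <;> rw [b0] at h
  · simp only [cond_true, Nat.beq_eq] at h
    exact Or.inl ⟨Nat.eq_of_beq_eq_true b0, by rw [h, show pW 0 = [] by decide +kernel]; rfl⟩
  rw [cond_false] at h
  rcases Bool.eq_false_or_eq_true (Nat.beq (Data.pType i) 1) with b1 | b1 <;> rw [b1] at h
  · exfalso
    simp only [cond_true, Bool.not_eq_true'] at h
    have := same_of_eq (a := pW i ++ pW i) (b := [])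
      (fun s hs => by rcases List.mem_append.mp hs with hs | hs <;> exact pW_lt hi s hs) (by simp)
      (by rw [Ctx.ev_append, h2]; rfl)
    rw [h] at this
    exact Bool.noConfusion this
  rw [cond_false] at h
  rcases Bool.eq_false_or_eq_true (Nat.beq (Data.pType i) 2) with b2 | b2 <;> rw [b2] at h
  · rw [cond_true] at h
    exact Or.inr (Or.inl ⟨Nat.eq_of_beq_eq_true b2, by rw [eq_of_same h, ctx.ev_single]; rfl⟩)
  rw [cond_false, Bool.and_eq_true] at h
  have hv := ev_mem h.1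
  have e := eq_of_same h.2
  rw [ev_cjW h.1] at e
  rcases Bool.eq_false_or_eq_true (Nat.beq (Data.pType i) 3) with b3 | b3 <;> rw [b3] at e
  · exact Or.inr (Or.inr (Or.inl ⟨Nat.eq_of_beq_eq_true b3, _, hv, e⟩))
  · refine Or.inr (Or.inr (Or.inr ⟨?_, _, hv, e⟩))
    have n0 : Data.pType i ≠ 0 := fun h => by rw [h] at b0; simp at b0
    have n1 : Data.pType i ≠ 1 := fun h => by rw [h] at b1; simp at b1
    have n2 : Data.pType i ≠ 2 := fun h => by rw [h] at b2; simp at b2
    have n3 : Data.pType i ≠ 3 := fun h => by rw [h] at b3; simp at b3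
    omega

theorem card_C0_two : Nat.card C0 = 2 ^ 10 * 2835 := card_C0.trans (by norm_num)

theorem card_R_two : Nat.card R = 2 ^ 10 * 484147125 := Co3Out.card_co3.trans (by norm_num)

/-- A two-subgroup of the model is conjugate into the Sylow subgroup. -/
theorem conj_into_P0 {Q : Subgroup R} (hQ : IsPGroup 2 Q) (hQC : Q ≤ C0) :
    ∃ g ∈ C0, ∀ q ∈ Q, g * q * g⁻¹ ∈ P0 := by
  obtain ⟨g, hg⟩ := conj_into (P0.subgroupOf C0) (k := 10) (m := 2835)
    (by rw [Nat.card_congr (Subgroup.subgroupOfEquivOfLe P0_le).toEquiv, card_P0]) card_C0_two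
    (by norm_num) (Q := Q.subgroupOf C0) hQ.comap_subtype
  exact ⟨g, g.2, fun q hq => hg ⟨q, hQC hq⟩ hq⟩

/-- A two-subgroup of the whole group is conjugate into the Sylow subgroup. -/
theorem conj_into_P0' {Q : Subgroup R} (hQ : IsPGroup 2 Q) : ∃ g : R, ∀ q ∈ Q, g * q * g⁻¹ ∈ P0 :=
  conj_into P0 card_P0 card_R_two (by norm_num) hQ

theorem conj_eq_of {g x v y : R} (h : g * x * g⁻¹ = v * y * v⁻¹) :
    x = g⁻¹ * v * y * (g⁻¹ * v)⁻¹ := by
  calc x = g⁻¹ * (g * x * g⁻¹) * g := by group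
    _ = _ := by rw [h]; group

/-- The involutions of the model. -/
theorem involution_C0 {x : R} (hx : x ∈ C0) (h2 : x * x = 1) (h1 : x ≠ 1) :
    x = tE ∨ (∃ v ∈ C0, x = v * aE * v⁻¹) ∨ ∃ v ∈ C0, x = v * bE * v⁻¹ := by
  obtain ⟨g, hg, hgP⟩ := conj_into_P0 (isPGroup_zpowers h2) (Subgroup.zpowers_le.mpr hx)
  obtain ⟨i, hi, e⟩ := P0_listed (hgP x (Subgroup.mem_zpowers x))
  have h2' : ctx.ev (pW i) * ctx.ev (pW i) = 1 := by
    rw [← e]; calc _ = g * (x * x) * g⁻¹ := by group
      _ = 1 := by rw [h2]; group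
  rcases pType_spec hi h2' with ⟨-, h⟩ | ⟨-, h⟩ | ⟨-, v, hv, h⟩ | ⟨-, v, hv, h⟩
  · exact absurd (by rw [← e] at h; exact conj_eq_one_iff.mp h) h1
  · left
    rw [← e] at h
    calc x = g⁻¹ * (g * x * g⁻¹) * g := by group
      _ = g⁻¹ * (tE * g) := by rw [h]; group
      _ = g⁻¹ * (g * tE) := by rw [tE_central hg]
      _ = tE := by group
  · exact Or.inr (Or.inl ⟨g⁻¹ * v, mul_mem (inv_mem hg) hv, conj_eq_of (e.trans h)⟩)
  · exact Or.inr (Or.inr ⟨g⁻¹ * v, mul_mem (inv_mem hg) hv, conj_eq_of (e.trans h)⟩)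

theorem st_conj : sE * tE * sE⁻¹ = aE := by
  have h := eq_of_same (a := [Data.sL, Data.tL]) (b := [Data.aL, Data.sL]) (by decide +kernel)
  simp only [Ctx.ev_cons, Ctx.ev_nil, mul_one] at h
  exact mul_inv_eq_iff_eq_mul.mpr h

/-- The two classes of involutions of the whole group. -/
theorem involution_R {x : R} (h2 : x * x = 1) (h1 : x ≠ 1) :
    (∃ g : R, x = g * tE * g⁻¹) ∨ ∃ g : R, x = g * bE * g⁻¹ := by
  obtain ⟨g, hgP⟩ := conj_into_P0' (isPGroup_zpowers h2)
  obtain ⟨i, hi, e⟩ := P0_listed (hgP x (Subgroup.mem_zpowers x))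
  have h2' : ctx.ev (pW i) * ctx.ev (pW i) = 1 := by
    rw [← e]; calc _ = g * (x * x) * g⁻¹ := by group
      _ = 1 := by rw [h2]; group
  rcases pType_spec hi h2' with ⟨-, h⟩ | ⟨-, h⟩ | ⟨-, v, -, h⟩ | ⟨-, v, -, h⟩
  · exact absurd (by rw [← e] at h; exact conj_eq_one_iff.mp h) h1
  · refine Or.inl ⟨g⁻¹, ?_⟩
    rw [← h, ← e]; group
  · refine Or.inl ⟨g⁻¹ * v * sE, ?_⟩
    rw [conj_eq_of (e.trans h), ← st_conj]
    group
  · exact Or.inr ⟨g⁻¹ * v, conj_eq_of (e.trans h)⟩

end Cfsg.Agent.Co3Rec
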