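import Cfsg.Agent.Co3Rec.Classes
import Cfsg.Agent.Invol.SEPairs

/-!
A copy of the third Conway group containing the centraliser of the involution is the whole group.
-/

set_option autoImplicit false
set_option maxRecDepth 100000

namespace Cfsg.Agent.Co3Rec

open Cfsg Cfsg.Agent.Compute Cfsg.Agent.StemCert

theorem wW_mul : allBelow 4 (fun r => allBelow 4 fun r' => (List.range 4).any fun n =>
    same (wW r ++ wW r') (wW n)) = true := by decide +kernel

theorem zb_fix : (Nat.beq (fixW Data.codes [Data.zL, Data.bL]) 12 && Nat.blt Data.zL Data.kC &&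
    !(same [Data.zL] [Data.bL])) = true := by decide +kernel

/-- Conjugate to the central involution. -/
def IsT (x : R) : Prop := ∃ p : R, x = p * tE * p⁻¹

theorem IsT.fx_eq {x : R} (h : IsT x) : fx x = 36 := by
  obtain ⟨p, rfl⟩ := h
  rw [fx_conj, fx_special.1]

theorem IsT.sq {x : R} (h : IsT x) : x * x = 1 := by
  obtain ⟨p, rfl⟩ := h
  calc p * tE * p⁻¹ * (p * tE * p⁻¹) = p * (tE * tE) * p⁻¹ := by group
    _ = 1 := by rw [tE_sq]; group

theorem conjB_of_not_IsT {x : R} (h2 : x * x = 1) (h1 : x ≠ 1) (hx : ¬ IsT x) :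
    ∃ p : R, x = p * bE * p⁻¹ :=
  (involution_R h2 h1).resolve_left hx

theorem not_IsT_of_fx {x : R} (h : fx x = 12) : ¬ IsT x := fun hx => by
  rw [hx.fx_eq] at h
  norm_num at h

theorem zE_mem : zE ∈ C0 := gen_mem (by
  have h := zb_fix
  simp only [Bool.and_eq_true, Nat.blt_eq] at h
  exact h.1.2)

theorem bz_comm : bE * zE = zE * bE := by
  have h := wW_ok
  simp only [Bool.and_eq_true] at h
  have := eq_of_same h.1.1.1.2
  simpa [Ctx.ev_cons, bE, zE] using this

theorem zE_sq : zE * zE = 1 := by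
  have h := wW_ok
  simp only [Bool.and_eq_true] at h
  have := eq_of_same h.1.1.2
  simpa [Ctx.ev_cons, zE] using this

/-- The elements of the four group commute with whatever commutes with both involutions. -/
theorem wW_comm {H : Type*} [Group H] (θ : R →* H) {g : H} (hb : g * θ bE = θ bE * g)
    (hz : g * θ zE = θ zE * g) {r : ℕ} (hr : r < 4) : g * θ (ctx.ev (wW r)) = θ (ctx.ev (wW r)) * g := by
  have h := wW_ok
  simp only [Bool.and_eq_true] at h
  obtain ⟨⟨⟨⟨⟨⟨⟨w0, w1⟩, w2⟩, w3⟩, -⟩, -⟩, -⟩, -⟩ := h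
  interval_cases r
  · rw [eq_of_same w0]; simp
  · rw [eq_of_same w1, ctx.ev_single]; exact hb
  · rw [eq_of_same w2, ctx.ev_single]; exact hz
  · rw [eq_of_same w3, Ctx.ev_cons, ctx.ev_single, map_mul]
    exact (Commute.mul_right hz hb).eq

theorem wW_comm_bz {r : ℕ} (hr : r < 4) :
    ctx.ev (wW r) * bE = bE * ctx.ev (wW r) ∧ ctx.ev (wW r) * zE = zE * ctx.ev (wW r) :=
  ⟨(wW_comm (MonoidHom.id R) (g := bE) rfl bz_comm hr).symm,
    (wW_comm (MonoidHom.id R) (g := zE) bz_comm.symm rfl hr).symm⟩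

variable {G : Type*} [Group G] (S : Setting G) {θ : R →* G}

/-- An element centralising the image of the central involution is in the image. -/
theorem centralizer_T_le (hθ : ∀ x ∈ C0, θ x = S.φ x) {g : G} (h : g * θ tE = θ tE * g) :
    g ∈ θ.range := by
  rw [hθ _ tE_mem] at h
  obtain ⟨x, hx, rfl⟩ := S.exists_φ h
  exact ⟨x, hθ x hx⟩

theorem not_conj_T_B' (hθ : ∀ x ∈ C0, θ x = S.φ x) (g : G) : g * θ bE * g⁻¹ ≠ θ tE := by
  rw [hθ _ tE_mem, hθ _ bE_mem]
  exact S.not_conj_T_B g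

theorem isT_of_conj (hθ : ∀ x ∈ C0, θ x = S.φ x) (hinj : Function.Injective θ) {x : R} {g : G}
    (h : θ x = g * θ tE * g⁻¹) : IsT x := by
  have h2 : x * x = 1 := hinj (by
    rw [map_mul, map_one, h]
    calc g * θ tE * g⁻¹ * (g * θ tE * g⁻¹) = g * θ (tE * tE) * g⁻¹ := by rw [map_mul]; group
      _ = 1 := by rw [tE_sq, map_one]; group)
  have h1 : x ≠ 1 := fun e => tE_ne_one (hinj (by
    rw [e, map_one] at h
    rw [map_one]
    exact conj_eq_one_iff.mp h.symm))
  refine (involution_R h2 h1).resolve_right ?_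
  rintro ⟨q, rfl⟩
  refine not_conj_T_B' S hθ (g⁻¹ * θ q) ?_
  rw [map_mul, map_mul, map_inv] at h
  calc g⁻¹ * θ q * θ bE * (g⁻¹ * θ q)⁻¹ = g⁻¹ * (θ q * θ bE * (θ q)⁻¹) * g := by group
    _ = θ tE := by rw [h]; group

/-- An element carrying an involution of the first class of the image into it lies in it. -/
theorem transfer (hθ : ∀ x ∈ C0, θ x = S.φ x) (hinj : Function.Injective θ) {x : R} (hx : IsT x)
    {g : G} (h : g * θ x * g⁻¹ ∈ θ.range) : g ∈ θ.range := by
  obtain ⟨y, hy⟩ := h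
  obtain ⟨p, rfl⟩ := hx
  obtain ⟨q, rfl⟩ := isT_of_conj S hθ hinj (g := g * θ p) (x := y)
    (by rw [hy, map_mul, map_mul, map_inv]; group)
  have h1 : ((θ q)⁻¹ * g * θ p) * θ tE = θ tE * ((θ q)⁻¹ * g * θ p) := by
    simp only [map_mul, map_inv] at hy
    calc (θ q)⁻¹ * g * θ p * θ tE = (θ q)⁻¹ * (g * (θ p * θ tE * (θ p)⁻¹) * g⁻¹) * g * θ p := by group
      _ = _ := by rw [← hy]; group
  have h2 := centralizer_T_le S hθ h1
  rw [show g = θ q * ((θ q)⁻¹ * g * θ p) * (θ p)⁻¹ by group]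
  exact mul_mem (mul_mem ⟨q, rfl⟩ h2) (inv_mem ⟨p, rfl⟩)

theorem tW_spec {k : ℕ} (hk : k < 15) : IsT (ctx.ev (tW k)) ∧
    ctx.ev (tW k) * bE = bE * ctx.ev (tW k) ∧ ctx.ev (tW k) * zE = zE * ctx.ev (tW k) := by
  have h := allBelow_eq_true.mp xT_ok k hk
  simp only [Bool.and_eq_true, Nat.blt_eq] at h
  obtain ⟨⟨⟨hi, hw⟩, hs⟩, -⟩ := h
  have hx := allBelow_eq_true.mp x0_ok _ hi
  simp only [Bool.and_eq_true] at hx
  have e1 := eq_of_same hx.1.2
  have e2 := eq_of_same hx.2
  rw [Ctx.ev_append, ctx.ev_single, Ctx.ev_cons] at e1 e2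
  refine ⟨⟨ctx.ev (Data.xTW.getD k []), ?_⟩, e1, e2⟩
  rw [eq_of_same hs, cjW, Ctx.ev_append, Ctx.ev_cons, ctx.ev_inv (ltB_iff.mp hw), mul_assoc]
  rfl

theorem tW_sep {j k r : ℕ} (hj : j < 15) (hk : k < 15) (hr : r < 4)
    (h : ctx.ev (tW j) = ctx.ev (tW k) * ctx.ev (wW r)) : j = k := by
  have hkk := allBelow_eq_true.mp xT_ok k hk
  have hjj := allBelow_eq_true.mp xT_ok j hj
  simp only [Bool.and_eq_true, Nat.blt_eq, allBelow_eq_true, Bool.or_eq_true, Nat.beq_eq,
    Bool.not_eq_true'] at hkk hjj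
  rcases hkk.2 j hj with h1 | h1
  · exact h1
  exfalso
  have hw := wW_ok
  simp only [Bool.and_eq_true, allBelow_eq_true, Nat.blt_eq] at hw
  have hlt : ∀ i < Data.x0N, ∀ s ∈ xw i, s < ctx.k := fun i hi => by
    have := allBelow_eq_true.mp x0_ok i hi
    simp only [Bool.and_eq_true] at this
    exact ltB_iff.mp this.1.1
  exact Bool.noConfusion ((same_of_eq (hlt _ hjj.1.1.1) (fun s hs => by
      rcases List.mem_append.mp hs with hs | hs
      exacts [hlt _ hkk.1.1.1 s hs, hlt _ (hw.2 r hr) s hs])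
    (by rw [Ctx.ev_append]; exact h)).symm.trans (h1 r hr))

theorem tW_inj {j k : ℕ} (hj : j < 15) (hk : k < 15) (h : ctx.ev (tW j) = ctx.ev (tW k)) : j = k := by
  refine tW_sep hj hk (r := 0) (by norm_num) ?_
  have hw := wW_ok
  simp only [Bool.and_eq_true] at hw
  rw [eq_of_same hw.1.1.1.1.1.1.1, Ctx.ev_nil, mul_one, h]

theorem tW_complete {x : R} (hb : x * bE = bE * x) (hz : x * zE = zE * x) (hx : IsT x) :
    ∃ k < 15, x = ctx.ev (tW k) := by
  obtain ⟨i, hi, rfl⟩ := centralizer_W_listed hb hz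
  have h := allBelow_eq_true.mp xT_complete i hi
  have hx0 := allBelow_eq_true.mp x0_ok i hi
  simp only [Bool.and_eq_true] at hx0
  have hlt := ltB_iff.mp hx0.1.1
  simp only [Bool.or_eq_true, Bool.not_eq_true', List.any_eq_true, List.mem_range] at h
  rcases h with (h | h) | ⟨k, hk, hs⟩
  · have := hx.fx_eq
    rw [ctx.fx_ev hlt] at this
    rw [show ctx.cs = Data.codes from rfl] at this
    rw [this] at h
    simp at h
  · rw [same_of_eq (fun s hs => by rcases List.mem_append.mp hs with hs | hs <;> exact hlt s hs)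
      (by simp) (by rw [Ctx.ev_append, hx.sq]; rfl)] at h
    exact Bool.noConfusion h
  · exact ⟨k, hk, eq_of_same hs⟩

/-- The centraliser of the pure four group is in the image. -/
theorem centralizer_W_le [Finite G] (hθ : ∀ x ∈ C0, θ x = S.φ x) (hinj : Function.Injective θ) {g : G}
    (hb : g * θ bE = θ bE * g) (hz : g * θ zE = θ zE * g) : g ∈ θ.range := by
  classical
  by_contra hg
  let Y : Subgroup G := Subgroup.centralizer {θ bE} ⊓ Subgroup.centralizer {θ zE}
  have memY : ∀ {y : G}, y ∈ Y ↔ y * θ bE = θ bE * y ∧ y * θ zE = θ zE * y := fun {y} => by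
    simp only [Y, Subgroup.mem_inf, Subgroup.mem_centralizer_singleton_iff]
  have liftR : ∀ {x : R}, θ x ∈ Y → x * bE = bE * x ∧ x * zE = zE * x := fun {x} h => by
    obtain ⟨h1, h2⟩ := memY.mp h
    exact ⟨hinj (by rw [map_mul, map_mul, h1]), hinj (by rw [map_mul, map_mul, h2])⟩
  have putY : ∀ {x : R}, x * bE = bE * x → x * zE = zE * x → θ x ∈ Y := fun {x} h1 h2 =>
    memY.mpr ⟨by rw [← map_mul, ← map_mul, h1], by rw [← map_mul, ← map_mul, h2]⟩
  let X : Subgroup Y := θ.range.subgroupOf Y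
  let U : Fin 15 → Y := fun k => ⟨θ (ctx.ev (tW k)), putY (tW_spec k.2).2.1 (tW_spec k.2).2.2⟩
  let Φ : (Y ⧸ X) × Fin 15 → Y := fun p => p.1.out * U p.2 * p.1.out⁻¹
  have hΦT : ∀ p, ∃ h : G, (Φ p : G) = h * θ tE * h⁻¹ := fun p => by
    obtain ⟨q, hq⟩ := (tW_spec p.2.2).1
    refine ⟨(p.1.out : G) * θ q, ?_⟩
    show (p.1.out : G) * θ (ctx.ev (tW p.2)) * (p.1.out : G)⁻¹ = _
    rw [hq, map_mul, map_mul, map_inv]
    group
  have hΦinj : Function.Injective Φ := by
    intro p p' e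
    have e' : ((p'.1.out : G)⁻¹ * p.1.out) * θ (ctx.ev (tW p.2)) * ((p'.1.out : G)⁻¹ * p.1.out)⁻¹ =
        θ (ctx.ev (tW p'.2)) := by
      have e1 : (p.1.out : G) * θ (ctx.ev (tW p.2)) * (p.1.out : G)⁻¹ =
          (p'.1.out : G) * θ (ctx.ev (tW p'.2)) * (p'.1.out : G)⁻¹ := congrArg Subtype.val e
      calc _ = (p'.1.out : G)⁻¹ * ((p.1.out : G) * θ (ctx.ev (tW p.2)) * (p.1.out : G)⁻¹) * p'.1.out := by
            group
        _ = _ := by rw [e1]; group
    have hm := transfer S hθ hinj (tW_spec p.2.2).1 (by rw [e']; exact ⟨_, rfl⟩)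
    have h1 : p'.1 = p.1 := by
      rw [← QuotientGroup.out_eq' p'.1, ← QuotientGroup.out_eq' p.1]
      exact QuotientGroup.eq.mpr (Subgroup.mem_subgroupOf.mpr (by simpa using hm))
    rw [h1, inv_mul_cancel, one_mul, inv_one, mul_one] at e'
    exact Prod.ext h1.symm (Fin.ext (tW_inj p.2.2 p'.2.2 (hinj e')))
  have : Fintype (Y ⧸ X) := Fintype.ofFinite _
  let fib : (Y ⧸ X) → Finset ((Y ⧸ X) × Fin 15) := fun c =>
    Finset.univ.filter fun p => QuotientGroup.mk (Φ p) = c
  have hfib1 : (fib (QuotientGroup.mk 1)).card ≤ 15 := by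
    have hk : ∀ p ∈ fib (QuotientGroup.mk 1), ∃ k : Fin 15, (Φ p : G) = θ (ctx.ev (tW k)) := fun p hp => by
      simp only [fib, Finset.mem_filter, Finset.mem_univ, true_and] at hp
      have hX : Φ p ∈ X := by
        have := QuotientGroup.eq.mp hp
        simpa using inv_mem this
      obtain ⟨x, hx⟩ := Subgroup.mem_subgroupOf.mp hX
      obtain ⟨h1, h2⟩ := liftR (hx ▸ (Φ p).2)
      obtain ⟨h, hh⟩ := hΦT p
      obtain ⟨k, hk, rfl⟩ := tW_complete h1 h2 (isT_of_conj S hθ hinj (hx.trans hh))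
      exact ⟨⟨k, hk⟩, hx.symm⟩
    choose f hf using hk
    refine le_trans (Finset.card_le_card_of_injOn (fun p => if hp : p ∈ fib (QuotientGroup.mk 1) then f p hp else 0)
      (fun _ _ => Finset.mem_univ _) fun p hp p' hp' e => ?_) (le_of_eq (Finset.card_fin 15))
    simp only [Finset.mem_coe] at hp hp'
    simp only [dif_pos hp, dif_pos hp'] at e
    exact hΦinj (Subtype.ext (by rw [hf p hp, hf p' hp', e]))
  have hbig : ∃ c, c ≠ QuotientGroup.mk 1 ∧ 15 ≤ (fib c).card := by
    by_contra hno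
    push Not at hno
    have hsum : ∑ c, (fib c).card = 15 * Fintype.card (Y ⧸ X) := by
      rw [← Finset.card_eq_sum_card_fiberwise (f := fun p => (QuotientGroup.mk (Φ p) : Y ⧸ X))
        (fun _ _ => Finset.mem_univ _), Finset.card_univ, Fintype.card_prod, Fintype.card_fin, mul_comm]
    have hg' : (QuotientGroup.mk ⟨g, memY.mpr ⟨hb, hz⟩⟩ : Y ⧸ X) ≠ QuotientGroup.mk 1 := fun e => hg (by
      have := Subgroup.mem_subgroupOf.mp (QuotientGroup.eq.mp e.symm)
      simpa using this)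
    have h2 : 1 < Fintype.card (Y ⧸ X) := Fintype.one_lt_card_iff.mpr ⟨_, _, hg'⟩
    rw [← Finset.add_sum_erase _ _ (Finset.mem_univ (QuotientGroup.mk 1 : Y ⧸ X))] at hsum
    have h3 := Finset.sum_le_card_nsmul (Finset.univ.erase (QuotientGroup.mk 1 : Y ⧸ X))
      (fun c => (fib c).card) 14 (fun c hc => by
        have := hno c (Finset.ne_of_mem_erase hc)
        omega)
    rw [Finset.card_erase_of_mem (Finset.mem_univ _), Finset.card_univ, smul_eq_mul] at h3
    omega
  obtain ⟨c, hc1, hc⟩ := hbig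
  obtain ⟨p₀, hp₀⟩ := Finset.card_pos.mp (show 0 < (fib c).card by omega)
  have hfc : ∀ p ∈ fib c, (QuotientGroup.mk (Φ p) : Y ⧸ X) = c := fun p hp => by
    simpa [fib] using hp
  set v : G := (Φ p₀ : G) with hv
  obtain ⟨hv', hh⟩ := hΦT p₀
  have hvi : v⁻¹ = v := by
    refine inv_eq_of_mul_eq_one_right ?_
    rw [hv, hh]
    calc hv' * θ tE * hv'⁻¹ * (hv' * θ tE * hv'⁻¹) = hv' * θ (tE * tE) * hv'⁻¹ := by rw [map_mul]; group
      _ = 1 := by rw [tE_sq, map_one]; group
  have hvM : v ∉ θ.range := fun hm => hc1 (by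
    rw [← hfc p₀ hp₀]
    exact QuotientGroup.eq.mpr (Subgroup.mem_subgroupOf.mpr (by simpa using inv_mem hm)))
  obtain ⟨hvb, hvz⟩ := memY.mp (Φ p₀).2
  let I : R → Prop := fun x => x * bE = bE * x ∧ x * zE = zE * x ∧ v * θ x * v⁻¹ ∈ θ.range
  have hImul : ∀ x y, I x → I y → I (x * y) := by
    rintro x y ⟨a1, a2, a3⟩ ⟨b1, b2, b3⟩
    refine ⟨(Commute.mul_left a1 b1).eq, (Commute.mul_left a2 b2).eq, ?_⟩
    rw [show v * θ (x * y) * v⁻¹ = (v * θ x * v⁻¹) * (v * θ y * v⁻¹) by rw [map_mul]; group]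
    exact mul_mem a3 b3
  have hIinv : ∀ x, I x → I x⁻¹ := by
    rintro x ⟨a1, a2, a3⟩
    refine ⟨(Commute.inv_left a1).eq, (Commute.inv_left a2).eq, ?_⟩
    rw [show v * θ x⁻¹ * v⁻¹ = (v * θ x * v⁻¹)⁻¹ by rw [map_inv]; group]
    exact inv_mem a3
  have hIW : ∀ r < 4, I (ctx.ev (wW r)) := fun r hr => by
    refine ⟨(wW_comm_bz hr).1, (wW_comm_bz hr).2, ?_⟩
    rw [wW_comm θ hvb hvz hr, mul_inv_cancel_right]
    exact ⟨_, rfl⟩
  let Scl : Finset ℕ := (Finset.range 120).filter fun a => I (ctx.ev (repW a))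
  have memS : ∀ {a}, a ∈ Scl ↔ a < 120 ∧ I (ctx.ev (repW a)) := fun {a} => by simp [Scl]
  have hSle : Scl.card ≤ 14 := by
    refine small_closed Scl (fun a ha => (memS.mp ha).1) (memS.mpr ⟨by norm_num, ?_⟩) ?_ ?_
    · have h := wW_ok
      simp only [Bool.and_eq_true] at h
      rw [eq_of_same h.1.2, Ctx.ev_nil]
      exact ⟨by simp, by simp, by simp⟩
    · intro a ha b hb
      obtain ⟨ha1, ha2⟩ := memS.mp ha
      obtain ⟨hb1, hb2⟩ := memS.mp hb
      have h := allBelow_eq_true.mp mul_ok a ha1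
      simp only [Bool.and_eq_true, allBelow_eq_true, Nat.blt_eq] at h
      obtain ⟨⟨hm, hr⟩, hs⟩ := h.2 b hb1
      refine memS.mpr ⟨hm, ?_⟩
      have e := eq_of_same hs
      rw [Ctx.ev_append, Ctx.ev_append] at e
      have : ctx.ev (repW (mm a b)) = ctx.ev (repW a) * ctx.ev (repW b) *
          (ctx.ev (wW (Data.xMulRem (Nat.add (Nat.mul a 120) b))))⁻¹ := by
        rw [e, mul_inv_cancel_right]
      rw [this]
      exact hImul _ _ (hImul _ _ ha2 hb2) (hIinv _ (hIW _ hr))
    · intro a ha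
      by_contra hga
      obtain ⟨ha1, ha2⟩ := memS.mp ha
      have h := allBelow_eq_true.mp good_ok a ha1
      rw [show goodC a = true by simpa using hga] at h
      simp only [Bool.not_true, Bool.false_or, List.any_eq_true, List.mem_range] at h
      obtain ⟨k, hk, r, hr, hs⟩ := h
      have e := eq_of_same hs
      rw [Ctx.ev_append] at e
      have hu : I (ctx.ev (tW k)) := by
        rw [show ctx.ev (tW k) = ctx.ev (repW a) * (ctx.ev (wW r))⁻¹ by rw [e, mul_inv_cancel_right]]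
        exact hImul _ _ ha2 (hIinv _ (hIW r hr))
      exact hvM (transfer S hθ hinj (tW_spec hk).1 hu.2.2)
  have hcls : ∀ p ∈ fib c, ∃ a r, a ∈ Scl ∧ r < 4 ∧
      (Φ p : G) = v * θ (ctx.ev (repW a)) * θ (ctx.ev (wW r)) := by
    intro p hp
    have hX := Subgroup.mem_subgroupOf.mp (QuotientGroup.eq.mp ((hfc p₀ hp₀).trans (hfc p hp).symm))
    obtain ⟨x, hx⟩ := hX
    have hx' : θ x = v⁻¹ * (Φ p : G) := hx
    obtain ⟨x1, x2⟩ := liftR (hx ▸ ((Φ p₀)⁻¹ * Φ p).2)
    obtain ⟨i, hi, rfl⟩ := centralizer_W_listed x1 x2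
    have h := allBelow_eq_true.mp cls_ok i hi
    simp only [Bool.and_eq_true, Nat.blt_eq] at h
    obtain ⟨⟨⟨ha, hr⟩, -⟩, hs⟩ := h
    have e := eq_of_same hs
    rw [Ctx.ev_append] at e
    obtain ⟨h', hh'⟩ := hΦT p
    have hI : I (ctx.ev (xw i)) := by
      refine ⟨x1, x2, ?_⟩
      have hw : ((Φ p : G))⁻¹ = (Φ p : G) := by
        refine inv_eq_of_mul_eq_one_right ?_
        rw [hh']
        calc h' * θ tE * h'⁻¹ * (h' * θ tE * h'⁻¹) = h' * θ (tE * tE) * h'⁻¹ := by rw [map_mul]; group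
          _ = 1 := by rw [tE_sq, map_one]; group
      rw [show v * θ (ctx.ev (xw i)) * v⁻¹ = (θ (ctx.ev (xw i)))⁻¹ by
        rw [hx', mul_inv_cancel_left, mul_inv_rev, inv_inv, hvi, hw]]
      exact inv_mem ⟨_, rfl⟩
    refine ⟨_, _, memS.mpr ⟨ha, ?_⟩, hr, ?_⟩
    · rw [show ctx.ev (repW (Data.xCls i)) = ctx.ev (xw i) * (ctx.ev (wW (Data.xRem i)))⁻¹ by
        rw [e, mul_inv_cancel_right]]
      exact hImul _ _ hI (hIinv _ (hIW _ hr))
    · rw [mul_assoc, ← map_mul, ← e, hx', mul_inv_cancel_left]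
  choose fa fr hfa hfr hΦeq using hcls
  have hle : (fib c).card ≤ Scl.card := by
    refine Finset.card_le_card_of_injOn (fun p => if hp : p ∈ fib c then fa p hp else 0)
      (fun p hp => ?_) fun p hp p' hp' e => ?_
    · simp only [Finset.mem_coe] at hp ⊢
      simp only [dif_pos hp]
      exact hfa p hp
    simp only [Finset.mem_coe] at hp hp'
    simp only [dif_pos hp, dif_pos hp'] at e
    obtain ⟨n, hn, hs⟩ := List.any_eq_true.mp
      (allBelow_eq_true.mp (allBelow_eq_true.mp wW_mul (fr p hp) (hfr p hp)) (fr p' hp') (hfr p' hp'))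
    have hn' := List.mem_range.mp hn
    -- the four group has exponent two
    have hwsq : θ (ctx.ev (wW (fr p hp))) * θ (ctx.ev (wW (fr p hp))) = 1 := by
      rw [← map_mul]
      obtain ⟨n', -, -⟩ := List.any_eq_true.mp
        (allBelow_eq_true.mp (allBelow_eq_true.mp wW_mul (fr p hp) (hfr p hp)) (fr p hp) (hfr p hp))
      have : ∀ r < 4, ctx.ev (wW r) * ctx.ev (wW r) = 1 := by
        intro r hr
        have h := wW_ok
        simp only [Bool.and_eq_true] at h
        obtain ⟨⟨⟨⟨⟨⟨⟨w0, w1⟩, w2⟩, w3⟩, -⟩, -⟩, -⟩, -⟩ := h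
        interval_cases r
        · rw [eq_of_same w0]; simp
        · rw [eq_of_same w1, ctx.ev_single]; exact ae_be_sq.2
        · rw [eq_of_same w2, ctx.ev_single]; exact zE_sq
        · rw [eq_of_same w3, Ctx.ev_cons, ctx.ev_single]
          show zE * bE * (zE * bE) = 1
          calc zE * bE * (zE * bE) = zE * (bE * zE) * bE := by group
            _ = (zE * zE) * (bE * bE) := by rw [bz_comm]; group
            _ = 1 := by rw [zE_sq, ae_be_sq.2, one_mul]
      rw [this _ (hfr p hp), map_one]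
    have hpp : (Φ p' : G) = (Φ p : G) * θ (ctx.ev (wW n)) := by
      rw [hΦeq p hp, hΦeq p' hp', ← e, ← eq_of_same hs, Ctx.ev_append, map_mul]
      simp only [← mul_assoc]
      rw [mul_assoc (v * θ _) (θ _) (θ _), hwsq, mul_one]
    obtain ⟨hob, hoz⟩ := memY.mp p.1.out.2
    have hyW := wW_comm θ hob hoz hn'
    have h1 : (p.1.out : G)⁻¹ * (Φ p' : G) * p.1.out = θ (ctx.ev (tW p.2) * ctx.ev (wW n)) := by
      rw [hpp, map_mul]
      show (p.1.out : G)⁻¹ * ((p.1.out : G) * θ (ctx.ev (tW p.2)) * (p.1.out : G)⁻¹ * θ (ctx.ev (wW n))) *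
        p.1.out = _
      calc _ = θ (ctx.ev (tW p.2)) * ((p.1.out : G)⁻¹ * (θ (ctx.ev (wW n)) * p.1.out)) := by group
        _ = _ := by rw [← hyW]; group
    obtain ⟨h', hh'⟩ := hΦT p'
    obtain ⟨k, hk, hkeq⟩ := tW_complete
      (Commute.mul_left (tW_spec p.2.2).2.1 (wW_comm_bz hn').1).eq
      (Commute.mul_left (tW_spec p.2.2).2.2 (wW_comm_bz hn').2).eq
      (isT_of_conj S hθ hinj (g := (p.1.out : G)⁻¹ * h') (by rw [← h1, hh']; group))
    have hkk := tW_sep hk p.2.2 hn' hkeq.symm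
    rw [hkk] at hkeq
    exact hΦinj (Subtype.ext (by rw [hpp, mul_eq_left.mp hkeq, map_one, mul_one]))
  omega

/-- The centraliser of an involution of the third class is in the image. -/
theorem centralizer_B_le [Finite G] (hθ : ∀ x ∈ C0, θ x = S.φ x) (hinj : Function.Injective θ) {g : G}
    (hg : g * θ bE = θ bE * g) : g ∈ θ.range := by
  classical
  let K : Subgroup G := Subgroup.centralizer {θ bE}
  have memK : ∀ {y : G}, y ∈ K ↔ y * θ bE = θ bE * y := fun {y} => Subgroup.mem_centralizer_singleton_iff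
  let bK : K := ⟨θ bE, memK.mpr rfl⟩
  let N : Subgroup K := Subgroup.zpowers bK
  have hNn : N.Normal := ⟨fun n hn y => by
    have hc : Commute y bK := Subtype.ext (memK.mp y.2)
    obtain ⟨m, rfl⟩ := hn
    show y * bK ^ m * y⁻¹ ∈ N
    rw [(hc.zpow_right m).eq, mul_inv_cancel_right]
    exact zpow_mem (Subgroup.mem_zpowers _) m⟩
  let H' : Subgroup K := θ.range.subgroupOf K
  have hNH : N ≤ H' := Subgroup.zpowers_le.mpr ⟨bE, rfl⟩
  let q := QuotientGroup.mk' N
  let H : Subgroup (K ⧸ N) := H'.map q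
  have hcomap : ∀ {y : K}, q y ∈ H ↔ y ∈ H' := fun {y} => by
    rw [← Subgroup.mem_comap, Subgroup.comap_map_eq, QuotientGroup.ker_mk', sup_eq_left.mpr hNH]
  have hN2 : ∀ n ∈ N, n = 1 ∨ n = bK := by
    intro n hn
    obtain ⟨m, rfl⟩ := hn
    have hb2 : bK ^ (2 : ℤ) = 1 := Subtype.ext (by
      show θ bE ^ (2 : ℤ) = 1
      rw [zpow_two, ← map_mul, ae_be_sq.2, map_one])
    show bK ^ m = 1 ∨ bK ^ m = bK
    rcases Int.even_or_odd' m with ⟨j, rfl | rfl⟩
    · exact Or.inl (by rw [zpow_mul, hb2, one_zpow])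
    · exact Or.inr (by rw [zpow_add, zpow_mul, hb2, one_zpow, one_mul, zpow_one])
  have elemK : ∀ {x : R}, x * bE = bE * x → θ x ∈ K := fun {x} h =>
    memK.mpr (by rw [← map_mul, ← map_mul, h])
  -- images of involutions other than the central one
  have ord2 : ∀ {x : R} (hx : x * bE = bE * x), x * x = 1 → x ≠ 1 → x ≠ bE →
      orderOf (q ⟨θ x, elemK hx⟩) = 2 := by
    intro x hx h2 h1 hb
    refine orderOf_eq_prime (by
      rw [sq, ← map_mul, show (⟨θ x, elemK hx⟩ * ⟨θ x, elemK hx⟩ : K) = 1 from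
        Subtype.ext (by show θ x * θ x = 1; rw [← map_mul, h2, map_one]), map_one]) fun h => ?_
    rcases hN2 _ ((QuotientGroup.eq_one_iff _).mp h) with h | h
    · exact h1 (hinj ((congrArg Subtype.val h).trans (map_one θ).symm))
    · exact hb (hinj (congrArg Subtype.val h))
  have hfb : fx bE = 12 := fx_special.2.2.1
  have hzb : ∀ x : R, x = zE ∨ x = zE * bE → fx x = 12 ∧ x * x = 1 := by
    rintro x (rfl | rfl)
    · exact ⟨fx_special.2.2.2, zE_sq⟩
    · refine ⟨?_, ?_⟩
      · have e : zE * bE = ctx.ev [Data.zL, Data.bL] := by rw [Ctx.ev_cons, ctx.ev_single]; rfl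
        have h := zb_fix
        simp only [Bool.and_eq_true, Nat.beq_eq] at h
        rw [e, ctx.fx_ev (fun s hs => by
          rcases List.mem_cons.mp hs with rfl | hs
          exacts [zL_lt.1, (List.mem_singleton.mp hs) ▸ zL_lt.2])]
        exact h.1.1
      · calc zE * bE * (zE * bE) = zE * (bE * zE) * bE := by group
          _ = (zE * zE) * (bE * bE) := by rw [bz_comm]; group
          _ = 1 := by rw [zE_sq, ae_be_sq.2, one_mul]
  have htb : tE * bE = bE * tE := (tE_central bE_mem).symm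
  have hse : H = ⊤ := by
    by_contra hne
    have hSE : Cfsg.IsStronglyEmbedded H := by
      refine (Invol.se_iff H).mpr ⟨hne, ?_, fun tq gq ht htH htg => ?_⟩
      · refine even_iff_two_dvd.mpr ?_
        rw [← ord2 htb tE_sq tE_ne_one bE_ne.2.symm,
          ← Subgroup.orderOf_mk (H := H) _ (hcomap.mpr (Subgroup.mem_subgroupOf.mpr ⟨tE, rfl⟩))]
        exact orderOf_dvd_natCard _
      obtain ⟨X, hX, rfl⟩ := htH
      obtain ⟨g, rfl⟩ := QuotientGroup.mk_surjective gq
      show q g ∈ H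
      rw [hcomap]
      have htg' : g⁻¹ * X * g ∈ H' := hcomap.mp (by rw [map_mul, map_mul, map_inv]; exact htg)
      obtain ⟨x, hx⟩ := Subgroup.mem_subgroupOf.mp hX
      obtain ⟨y, hy⟩ := Subgroup.mem_subgroupOf.mp htg'
      have hy' : θ y = (g : G)⁻¹ * θ x * g := by rw [hx]; exact hy
      have hxb : x * bE = bE * x := hinj (by
        have := memK.mp X.2
        rwa [← hx, ← map_mul, ← map_mul] at this)
      have hgb : (g : G) * θ bE = θ bE * g := memK.mp g.2
      have hyb : y * bE = bE * y := hinj (by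
        have := memK.mp (g⁻¹ * X * g).2
        rwa [← hy, ← map_mul, ← map_mul] at this)
      have hqX : q X ≠ 1 := fun h => by rw [h, orderOf_one] at ht; norm_num at ht
      have hx1 : x ≠ 1 := fun h => hqX (by
        rw [show X = 1 from Subtype.ext (by rw [← hx, h, map_one]; rfl), map_one])
      have hxbne : x ≠ bE := fun h => hqX ((QuotientGroup.eq_one_iff _).mpr (by
        rw [show X = bK from Subtype.ext (by rw [← hx, h])]
        exact Subgroup.mem_zpowers _))
      have hx2 : x * x = 1 := by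
        have h2 : X * X ∈ N := (QuotientGroup.eq_one_iff _).mp (by
          show q (X * X) = 1
          rw [map_mul]
          exact Invol.mul_self_eq_one ht)
        rcases hN2 _ h2 with h | h
        · exact hinj (by rw [map_mul, map_one, hx]; exact congrArg Subtype.val h)
        · exact absurd (hinj (by rw [map_mul, hx]; exact congrArg Subtype.val h)) b_not_square_R
      have hbx2 : bE * x * (bE * x) = 1 := by
        calc bE * x * (bE * x) = bE * (x * bE) * x := by group
          _ = (bE * bE) * (x * x) := by rw [hxb]; group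
          _ = 1 := by rw [hx2, ae_be_sq.2, one_mul]
      have hbx1 : bE * x ≠ 1 := fun h => hxbne (by
        rw [← mul_eq_one_iff_inv_eq.mp h, inv_eq_of_mul_eq_one_right ae_be_sq.2])
      have hgi : (g : G)⁻¹ * θ (bE * x) * g = θ (bE * y) := by
        rw [map_mul, map_mul, hy']
        calc (g : G)⁻¹ * (θ bE * θ x) * g = (g : G)⁻¹ * (θ bE * g) * ((g : G)⁻¹ * θ x * g) := by group
          _ = _ := by rw [← hgb]; group
      show (g : G) ∈ θ.range
      rw [← inv_inv (g : G)]
      refine inv_mem ?_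
      by_cases hT : IsT x
      · exact transfer S hθ hinj hT (by rw [inv_inv, ← hy']; exact ⟨y, rfl⟩)
      by_cases hT' : IsT (bE * x)
      · exact transfer S hθ hinj hT' (by rw [inv_inv, hgi]; exact ⟨_, rfl⟩)
      have hyT : ¬ IsT y := fun ⟨p, hp⟩ => hT (isT_of_conj S hθ hinj (g := (g : G) * θ p) (by
        rw [hp, map_mul, map_mul, map_inv] at hy'
        calc θ x = (g : G) * ((g : G)⁻¹ * θ x * g) * (g : G)⁻¹ := by group
          _ = _ := by rw [← hy']; group))
      have hbyT : ¬ IsT (bE * y) := fun ⟨p, hp⟩ => hT' (isT_of_conj S hθ hinj (g := (g : G) * θ p) (by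
        rw [hp] at hgi
        calc θ (bE * x) = (g : G) * ((g : G)⁻¹ * θ (bE * x) * g) * (g : G)⁻¹ := by group
          _ = _ := by rw [hgi, map_mul, map_mul, map_inv]; group))
      have hy2 : y * y = 1 := hinj (by
        rw [map_mul, map_one, hy']
        calc _ = (g : G)⁻¹ * θ (x * x) * g := by rw [map_mul]; group
          _ = 1 := by rw [hx2, map_one]; group)
      have hy1 : y ≠ 1 := fun h => hx1 (hinj (by
        rw [h, map_one] at hy'
        rw [map_one]
        calc θ x = (g : G) * ((g : G)⁻¹ * θ x * g) * (g : G)⁻¹ := by group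
          _ = 1 := by rw [← hy']; group))
      have hby2 : bE * y * (bE * y) = 1 := by
        calc bE * y * (bE * y) = bE * (y * bE) * y := by group
          _ = (bE * bE) * (y * y) := by rw [hyb]; group
          _ = 1 := by rw [hy2, ae_be_sq.2, one_mul]
      have hby1 : bE * y ≠ 1 := fun h => hbx1 (hinj (by
        rw [h, map_one] at hgi
        rw [map_one]
        calc θ (bE * x) = (g : G) * ((g : G)⁻¹ * θ (bE * x) * g) * (g : G)⁻¹ := by group
          _ = 1 := by rw [hgi]; group))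
      obtain ⟨k, hk, hkx⟩ := four_group_conj hxb (conjB_of_not_IsT hx2 hx1 hT)
        (conjB_of_not_IsT hbx2 hbx1 hT')
      obtain ⟨k', hk', hky⟩ := four_group_conj hyb (conjB_of_not_IsT hy2 hy1 hyT)
        (conjB_of_not_IsT hby2 hby1 hbyT)
      set h : G := θ k' * (g : G)⁻¹ * (θ k)⁻¹ with hh
      have hhb : h * θ bE = θ bE * h := by
        have c1 : Commute (θ k') (θ bE) := by show θ k' * θ bE = _; rw [← map_mul, hk', map_mul]
        have c2 : Commute (g : G)⁻¹ (θ bE) := Commute.inv_left hgb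
        have c3 : Commute (θ k)⁻¹ (θ bE) :=
          Commute.inv_left (show θ k * θ bE = θ bE * θ k by rw [← map_mul, hk, map_mul])
        exact ((c1.mul_left c2).mul_left c3).eq
      have hhx : h * θ (k * x * k⁻¹) * h⁻¹ = θ (k' * y * k'⁻¹) := by
        simp only [map_mul, map_inv, hy', hh]
        group
      have hhz : h * θ zE * h⁻¹ = θ zE ∨ h * θ zE * h⁻¹ = θ (zE * bE) := by
        rcases hkx with e | e <;> rw [e] at hhx
        · rcases hky with e' | e' <;> rw [e'] at hhx <;> [left; right] <;> exact hhx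
        · have e2 : h * θ zE * h⁻¹ = h * θ (zE * bE) * h⁻¹ * θ bE := by
            rw [map_mul]
            calc h * θ zE * h⁻¹ = h * (θ zE * θ (bE * bE)) * h⁻¹ := by rw [ae_be_sq.2, map_one, mul_one]
              _ = h * (θ zE * θ bE) * (θ bE * h⁻¹) := by rw [map_mul]; group
              _ = h * (θ zE * θ bE) * (h⁻¹ * θ bE) := by rw [(Commute.inv_left hhb).eq]
              _ = _ := by group
          rw [e2, hhx]
          rcases hky with e' | e' <;> rw [e', ← map_mul]
          · exact Or.inr rfl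
          · left
            rw [mul_assoc, ae_be_sq.2, mul_one]
      have hT0 : h * θ tE * h⁻¹ ∈ θ.range := by
        have ct : θ tE * θ bE = θ bE * θ tE := by rw [← map_mul, htb, map_mul]
        have cz : θ tE * θ zE = θ zE * θ tE := by rw [← map_mul, ← tE_central zE_mem, map_mul]
        have cb' : Commute (h * θ tE * h⁻¹) (θ bE) :=
          (Commute.mul_left (Commute.mul_left hhb ct) (Commute.inv_left hhb))
        refine centralizer_W_le S hθ hinj cb'.eq ?_
        have cc : Commute (h * θ tE * h⁻¹) (h * θ zE * h⁻¹) := by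
          show _ * _ = _ * _
          calc h * θ tE * h⁻¹ * (h * θ zE * h⁻¹) = h * (θ tE * θ zE) * h⁻¹ := by group
            _ = h * (θ zE * θ tE) * h⁻¹ := by rw [cz]
            _ = _ := by group
        rcases hhz with e | e <;> rw [e] at cc
        · exact cc.eq
        · have := cc.mul_right cb'
          rw [← map_mul, show zE * bE * bE = zE by rw [mul_assoc, ae_be_sq.2, mul_one]] at this
          exact this.eq
      have hhM := transfer S hθ hinj ⟨1, by simp⟩ hT0
      rw [show (g : G)⁻¹ = (θ k')⁻¹ * h * θ k by rw [hh]; group]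
      exact mul_mem (mul_mem (inv_mem ⟨k', rfl⟩) hhM) ⟨k, rfl⟩
    have hzb' : zE * bE = bE * zE := bz_comm.symm
    have hz1 : zE ≠ 1 := fun h => by
      have := fx_special.2.2.2
      rw [h, fx_one] at this
      norm_num at this
    have hzb1 : zE ≠ bE := fun h => by
      have h1 := zb_fix
      simp only [Bool.and_eq_true, Bool.not_eq_true'] at h1
      rw [same_of_eq (fun s hs => (List.mem_singleton.mp hs) ▸ zL_lt.1)
        (fun s hs => (List.mem_singleton.mp hs) ▸ zL_lt.2)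
        (by rw [ctx.ev_single, ctx.ev_single]; exact h)] at h1
      exact Bool.noConfusion h1.2
    obtain ⟨cq, hcq⟩ := isConj_iff.mp (Invol.se_isConj_all hSE
      (ord2 hzb' zE_sq hz1 hzb1) (ord2 htb tE_sq tE_ne_one bE_ne.2.symm))
    obtain ⟨c, rfl⟩ := QuotientGroup.mk_surjective cq
    have h1 : q (c * ⟨θ zE, elemK hzb'⟩ * c⁻¹) = q ⟨θ tE, elemK htb⟩ := by
      rw [map_mul, map_mul, map_inv]; exact hcq
    have h2 := hN2 _ (QuotientGroup.eq.mp h1)
    have key : ∀ x : R, fx x = 12 → x * x = 1 → (c : G) * θ x * (c : G)⁻¹ ≠ θ tE := by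
      intro x hfx hx2 e
      exact not_IsT_of_fx hfx (isT_of_conj S hθ hinj (g := (c : G)⁻¹) (by rw [← e]; group))
    rcases h2 with h | h
    · refine key zE (hzb _ (Or.inl rfl)).1 zE_sq ?_
      exact congrArg Subtype.val (inv_mul_eq_one.mp h)
    · refine key (zE * bE) (hzb _ (Or.inr rfl)).1 (hzb _ (Or.inr rfl)).2 ?_
      have e := congrArg Subtype.val (inv_mul_eq_iff_eq_mul.mp h)
      simp only [Subgroup.coe_mul, InvMemClass.coe_inv] at e
      rw [e, map_mul]
      calc (c : G) * (θ zE * θ bE) * (c : G)⁻¹ = (c : G) * θ zE * (θ bE * (c : G)⁻¹) := by group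
        _ = (c : G) * θ zE * ((c : G)⁻¹ * θ bE) := by rw [(Commute.inv_left (memK.mp c.2)).eq]
        _ = (c : G) * θ zE * (c : G)⁻¹ * θ bE := by group
        _ = _ := rfl
  have := (hcomap (y := ⟨g, memK.mpr hg⟩)).mp (hse ▸ Subgroup.mem_top _)
  exact Subgroup.mem_subgroupOf.mp this

/-- The image is everything. -/
theorem range_eq_top [Finite G] (hθ : ∀ x ∈ C0, θ x = S.φ x) (hinj : Function.Injective θ) :
    θ.range = ⊤ := by
  by_contra hne
  have hordT : orderOf (θ tE) = 2 :=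
    orderOf_eq_prime (by rw [sq, ← map_mul, tE_sq, map_one]) fun h => tE_ne_one (hinj (h.trans (map_one θ).symm))
  have hordB : orderOf (θ bE) = 2 :=
    orderOf_eq_prime (by rw [sq, ← map_mul, ae_be_sq.2, map_one]) fun h => bE_ne.1 (hinj (h.trans (map_one θ).symm))
  have hSE : Cfsg.IsStronglyEmbedded θ.range := by
    refine (Invol.se_iff _).mpr ⟨hne, ?_, fun t g ht htM htg => ?_⟩
    · refine even_iff_two_dvd.mpr ?_
      rw [← hordT, ← Subgroup.orderOf_mk (H := θ.range) _ ⟨tE, rfl⟩]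
      exact orderOf_dvd_natCard _
    obtain ⟨x, rfl⟩ := htM
    rw [← inv_inv g]
    refine inv_mem ?_
    by_cases hT : IsT x
    · exact transfer S hθ hinj hT (by rwa [inv_inv])
    obtain ⟨y, hy⟩ := htg
    have hx2 : x * x = 1 := hinj (by rw [map_mul, map_one]; exact Invol.mul_self_eq_one ht)
    have hx1 : x ≠ 1 := fun h => by rw [h, map_one, orderOf_one] at ht; norm_num at ht
    have hy2 : y * y = 1 := hinj (by
      rw [map_mul, map_one, hy]
      calc _ = g⁻¹ * θ (x * x) * g := by rw [map_mul]; group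
        _ = 1 := by rw [hx2, map_one]; group)
    have hyT : ¬ IsT y := fun ⟨p, hp⟩ => hT (isT_of_conj S hθ hinj (g := g * θ p) (by
      rw [hp, map_mul, map_mul, map_inv] at hy
      calc θ x = g * (g⁻¹ * θ x * g) * g⁻¹ := by group
        _ = _ := by rw [← hy]; group))
    have hy1 : y ≠ 1 := fun h => hx1 (hinj (by
      rw [h, map_one] at hy
      rw [map_one]
      calc θ x = g * (g⁻¹ * θ x * g) * g⁻¹ := by group
        _ = 1 := by rw [← hy]; group))
    obtain ⟨p, rfl⟩ := conjB_of_not_IsT hx2 hx1 hT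
    obtain ⟨r, rfl⟩ := conjB_of_not_IsT hy2 hy1 hyT
    have hc : ((θ r)⁻¹ * g⁻¹ * θ p) * θ bE = θ bE * ((θ r)⁻¹ * g⁻¹ * θ p) := by
      simp only [map_mul, map_inv] at hy
      calc (θ r)⁻¹ * g⁻¹ * θ p * θ bE = (θ r)⁻¹ * (g⁻¹ * (θ p * θ bE * (θ p)⁻¹) * g) * g⁻¹ * θ p := by group
        _ = _ := by rw [← hy]; group
    rw [show g⁻¹ = θ r * ((θ r)⁻¹ * g⁻¹ * θ p) * (θ p)⁻¹ by group]
    exact mul_mem (mul_mem ⟨r, rfl⟩ (centralizer_B_le S hθ hinj hc)) (inv_mem ⟨p, rfl⟩)
  obtain ⟨c, hc⟩ := isConj_iff.mp (Invol.se_isConj_all hSE hordB hordT)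
  exact not_conj_T_B' S hθ c hc

end Cfsg.Agent.Co3Rec
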