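import Cfsg.Agent.Co3Rec.Base

/-!
Lists of elements given by packed words: distinctness from increasing keys, closure under letters.
-/

set_option autoImplicit false
set_option maxRecDepth 100000

namespace Cfsg.Agent.Co3Rec

open Cfsg Cfsg.Agent.Compute Cfsg.Agent.StemCert
open Cfsg.Agent.DCoset (val valW wLen wBody)

/-- The value of packed letters. -/
theorem valW_map_rec {M : Type*} [Monoid M] (lv : ℕ → M) : ∀ n b : ℕ,
    valW lv n b = ((Nat.rec (motive := fun _ => ℕ → List ℕ) (fun _ => [])
      (fun _ rec b => forceN (Nat.mod b 256) fun a => forceN (Nat.div b 256) fun b' => a :: rec b') n b).map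
        lv).prod
  | 0, b => rfl
  | n + 1, b => by
    show lv (b % 256) * valW lv n (b / 256) = _
    rw [valW_map_rec lv n]
    simp only [forceN_eq, List.map_cons, List.prod_cons]
    rfl

/-- The value of a packed word is the value of its letters. -/
theorem val_unW {M : Type*} [Monoid M] (lv : ℕ → M) (w : ℕ) : val lv w = ((unW w).map lv).prod := by
  rw [val, valW_map_rec, unW, forceN_eq, forceN_eq]
  rfl

/-- The value in the group of a packed word of coded letters. -/
theorem val_gen (w : ℕ) : val ctx.gen w = ctx.ev (unW w) := val_unW _ w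

/-- Listed elements with increasing keys are different. -/
theorem card_le_of_keys {N : ℕ} (wd : ℕ → List ℕ) (ord : ℕ → ℕ)
    (h : allBelow N (fun i => Nat.blt (ord i) N && ltB Data.k (wd (ord i)) &&
      (Nat.beq (Nat.succ i) N ||
        Nat.blt (keyW Data.codes (wd (ord i))) (keyW Data.codes (wd (ord (Nat.succ i)))))) = true)
    (S : Set R) (hS : ∀ i < N, ctx.ev (wd i) ∈ S) : N ≤ Nat.card S := by
  have h' := allBelow_eq_true.mp h
  have hord : ∀ i < N, ord i < N ∧ (∀ s ∈ wd (ord i), s < ctx.k) := fun i hi => by
    have := h' i hi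
    simp only [Bool.and_eq_true, Nat.blt_eq] at this
    exact ⟨this.1.1, ltB_iff.mp this.1.2⟩
  have hmono : ∀ a b, a < b → b < N →
      keyW Data.codes (wd (ord a)) < keyW Data.codes (wd (ord b)) := by
    intro a b hab
    induction b with
    | zero => omega
    | succ b ih =>
      intro hb
      have := h' b (by omega)
      simp only [Bool.and_eq_true, Bool.or_eq_true, Nat.beq_eq, Nat.blt_eq] at this
      rcases this.2 with h2 | h2
      · omega
      rcases Nat.lt_succ_iff_lt_or_eq.mp hab with h1 | h1
      · exact (ih h1 (by omega)).trans h2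
      · exact h1 ▸ h2
  let f : Fin N → S := fun i => ⟨ctx.ev (wd (ord i)), hS _ (hord i i.2).1⟩
  have hf : Function.Injective f := by
    intro i j e
    have k := ctx.key_eq (hord i i.2).2 (hord j j.2).2 (congrArg Subtype.val e)
    rcases Nat.lt_trichotomy (i : ℕ) j with hlt | heq | hgt
    · exact absurd k (hmono _ _ hlt j.2).ne
    · exact Fin.ext heq
    · exact absurd k (hmono _ _ hgt i.2).ne'
  simpa using Nat.card_le_card_of_injective f hf

/-- A list containing one and closed under left multiplication by letters contains what they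
generate. -/
theorem mem_list_of_closure {N : ℕ} (wd : ℕ → List ℕ) (gens : List ℕ) (step : ℕ → ℕ → ℕ)
    (hone : 0 < N ∧ wd 0 = [])
    (hstep : allBelow N (fun i => allBelow gens.length (fun g =>
      Nat.blt (step g i) N && same (gens.getD g 0 :: wd i) (wd (step g i)))) = true)
    {x : R} (hx : x ∈ Subgroup.closure {y | ∃ s ∈ gens, y = ctx.gen s}) :
    ∃ i < N, x = ctx.ev (wd i) := by
  rw [← Subgroup.mem_toSubmonoid, Subgroup.closure_toSubmonoid_of_finite] at hx
  induction hx using Submonoid.closure_induction_left with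
  | one => exact ⟨0, hone.1, by rw [hone.2]; rfl⟩
  | mul_left x hx y hy ih =>
    obtain ⟨s, hs, rfl⟩ := hx
    obtain ⟨i, hi, rfl⟩ := ih
    obtain ⟨g, hg, rfl⟩ := List.getElem_of_mem hs
    have h := allBelow_eq_true.mp (allBelow_eq_true.mp hstep i hi) g hg
    simp only [Bool.and_eq_true, Nat.blt_eq] at h
    refine ⟨_, h.1, ?_⟩
    rw [← eq_of_same h.2, Ctx.ev_cons, List.getD_eq_getElem _ _ hg]

/-- A word of letters of the centraliser lies in it. -/
theorem ev_unW_mem {w : ℕ} (h : inC (unW w) = true) : ctx.ev (unW w) ∈ C0 := ev_mem h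

end Cfsg.Agent.Co3Rec
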