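import Cfsg.Agent.Co3Rec.Proj
import Cfsg.Agent.Co3Rec.Kit
import Cfsg.Agent.Co3Rec.Data.Act
import Cfsg.Agent.Co3Rec.Enum.Cert
import Cfsg.Agent.DCoset.PermModel

/-!
The model of the centraliser on 240 points.
-/

set_option autoImplicit false
set_option maxRecDepth 100000

namespace Cfsg.Agent.Co3Rec

open Cfsg Cfsg.Agent.Compute Cfsg.Agent.StemCert
open Cfsg.Agent.DCoset (fld pk16 QModel Acts allFrom_all)

/-- The point of the big model behind a point of the small one. -/
noncomputable abbrev ptN (p : ℕ) : ℕ := Data.pts240.getD p 0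

theorem pts_ok : allBelow 240 (fun p => Nat.blt (ptN p) 276 &&
    (Nat.beq (Nat.succ p) 240 || Nat.blt (ptN p) (ptN (Nat.succ p)))) = true := by decide +kernel

theorem act_ok : allBelow 3 (fun s => allBelow 240 fun p =>
    Nat.blt (Enum.tab.act s p) 240 &&
      Nat.beq (appW 9 Data.codes [Data.ivs.getD s 0] (ptN p)) (ptN (Enum.tab.act s p))) = true := by
  decide +kernel

theorem ptN_lt {p : ℕ} (hp : p < 240) : ptN p < 276 := by
  have h := allBelow_eq_true.mp pts_ok p hp
  simp only [Bool.and_eq_true, Nat.blt_eq] at h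
  exact h.1

theorem ptN_mono : ∀ {a b : ℕ}, a < b → b < 240 → ptN a < ptN b := by
  intro a b hab
  induction b with
  | zero => omega
  | succ b ih =>
    intro hb
    have h := allBelow_eq_true.mp pts_ok b (by omega)
    simp only [Bool.and_eq_true, Bool.or_eq_true, Nat.beq_eq, Nat.blt_eq] at h
    rcases h.2 with h2 | h2
    · omega
    rcases Nat.lt_succ_iff_lt_or_eq.mp hab with h1 | h1
    · exact (ih h1 (by omega)).trans h2
    · exact h1 ▸ h2

/-- The points. -/
noncomputable def pt (p : Fin 240) : Fin 276 := ⟨ptN p, ptN_lt p.2⟩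

theorem pt_injective : Function.Injective pt := by
  intro a b h
  have h' : ptN a = ptN b := congrArg Fin.val h
  rcases Nat.lt_trichotomy (a : ℕ) b with hlt | heq | hgt
  · exact absurd h' (ptN_mono hlt b.2).ne
  · exact Fin.ext heq
  · exact absurd h' (ptN_mono hgt a.2).ne'

theorem ev_cg_inv {s : ℕ} (hs : s < 3) : ctx.ev [Data.ivs.getD s 0] = (ctx.gen s)⁻¹ := by
  have h := ctx.ev_inv (l := [s])
    (fun x hx => (List.mem_singleton.mp hx) ▸ lt_of_lt_of_le hs three_le)
  rwa [ctx.ev_single] at h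

theorem gen_inv_pt {s : ℕ} (hs : s < 3) (p : Fin 240) :
    ∃ j : Fin 240, (j : ℕ) = Enum.tab.act s p ∧ (Co3Out.ι (ctx.gen s))⁻¹ (pt p) = pt j := by
  have h := allBelow_eq_true.mp (allBelow_eq_true.mp act_ok s hs) p p.2
  simp only [Bool.and_eq_true, Nat.blt_eq, Nat.beq_eq] at h
  refine ⟨⟨_, h.1⟩, rfl, Fin.ext ?_⟩
  rw [← map_inv, ← ev_cg_inv hs]
  exact (appW_spec ctx.coded _ (fun x hx => (List.mem_singleton.mp hx) ▸
    ctx.iv_spec (lt_of_lt_of_le hs three_le)) (pt p)).trans h.2

theorem exists_image {g : R} (hg : g ∈ C0) : ∀ p : Fin 240, ∃ j, Co3Out.ι g (pt p) = pt j := by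
  have key : ∀ s < 3, ∀ p : Fin 240, ∃ j, Co3Out.ι (ctx.gen s)⁻¹ (pt p) = pt j := fun s hs p => by
    obtain ⟨j, -, hj⟩ := gen_inv_pt hs p
    exact ⟨j, by rw [map_inv]; exact hj⟩
  have hg' : g ∈ Submonoid.closure ({(ctx.gen 0)⁻¹, (ctx.gen 1)⁻¹} : Set R) := by
    rw [← Subgroup.closure_toSubmonoid_of_finite]
    show g ∈ Subgroup.closure _
    refine (Subgroup.closure_le _).mpr ?_ hg
    rintro x (rfl | rfl)
    · exact inv_inv (ctx.gen 0) ▸ inv_mem (Subgroup.subset_closure (by simp))
    · exact inv_inv (ctx.gen 1) ▸ inv_mem (Subgroup.subset_closure (by simp))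
  clear hg
  induction hg' using Submonoid.closure_induction with
  | mem x hx =>
    rcases hx with rfl | rfl
    exacts [key 0 (by norm_num), key 1 (by norm_num)]
  | one => exact fun p => ⟨p, by simp⟩
  | mul x y _ _ ihx ihy =>
    intro p
    obtain ⟨j, hj⟩ := ihy p
    obtain ⟨l, hl⟩ := ihx j
    exact ⟨l, by rw [map_mul, Equiv.Perm.mul_apply, hj, hl]⟩

/-- The image of a point. -/
noncomputable def ρf (g : C0) (p : Fin 240) : Fin 240 := (exists_image g.2 p).choose

theorem ρf_spec (g : C0) (p : Fin 240) : Co3Out.ι (g : R) (pt p) = pt (ρf g p) :=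
  (exists_image g.2 p).choose_spec

theorem ρf_mul (g h : C0) (p : Fin 240) : ρf (g * h) p = ρf g (ρf h p) := by
  apply pt_injective
  rw [← ρf_spec, ← ρf_spec, ← ρf_spec, Subgroup.coe_mul, map_mul, Equiv.Perm.mul_apply]

theorem ρf_one (p : Fin 240) : ρf 1 p = p := by
  apply pt_injective
  rw [← ρf_spec, OneMemClass.coe_one, map_one, Equiv.Perm.one_apply]

/-- The action on the 240 points. -/
noncomputable def ρ : C0 →* Equiv.Perm (Fin 240) where
  toFun g :=
    { toFun := ρf g
      invFun := ρf g⁻¹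
      left_inv := fun i => by rw [← ρf_mul, inv_mul_cancel, ρf_one]
      right_inv := fun i => by rw [← ρf_mul, mul_inv_cancel, ρf_one] }
  map_one' := Equiv.ext ρf_one
  map_mul' g h := Equiv.ext (ρf_mul g h)

theorem nL_eq : Enum.tab.nL = 3 := rfl

theorem base_ok : allBelow 4 (fun l => Nat.blt (fld Enum.tab.base l) 240) = true := by decide +kernel

/-- The base. -/
noncomputable def bp (l : ℕ) : Fin 240 :=
  if h : fld Enum.tab.base l < 240 then ⟨fld Enum.tab.base l, h⟩ else 0

theorem acts : Acts ρ Enum.tab cg bp where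
  small := by norm_num
  act_eq := by
    intro g hg p
    rw [nL_eq] at hg
    obtain ⟨j, hj, hj'⟩ := gen_inv_pt hg p
    rw [← hj]
    refine congrArg Fin.val (pt_injective ?_)
    rw [← hj', show ((ρ (cg g))⁻¹ p) = ρf (cg g)⁻¹ p from rfl, ← ρf_spec, Subgroup.coe_inv, map_inv]
    simp only [cg, dif_pos hg]
  act_lt := Enum.tab_act_lt
  base_eq := by
    have h : ∀ l < 4, (bp l : ℕ) = fld Enum.tab.base l := fun l hl => by
      have := allBelow_eq_true.mp base_ok l hl
      rw [Nat.blt_eq] at this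
      rw [bp, dif_pos this]
    show Enum.tab.base = pk16 4 fun l => (bp l : ℕ)
    simp only [pk16, h 0 (by norm_num), h 1 (by norm_num), h 2 (by norm_num), h 3 (by norm_num)]
    decide +kernel

theorem chain_prod : ((List.range Enum.tab.k).map (Enum.cover.chain 0).size).prod = 2903040 := by
  decide +kernel

/-- The model. -/
noncomputable def P : QModel C0 :=
  acts.toQModel (acts.faithful (Enum.cover.chain 0) (card_C0.le) chain_prod
    (fun l a hl ha => Enum.valid.chain_gen 0 l a (by decide +kernel) hl ha)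
    (fun l m hl hm => Enum.valid.chain_pt 0 l m (by decide +kernel) hl hm))

theorem P_tab : P.toTab = Enum.tab := rfl

theorem P_q : P.q = cg := rfl

theorem P_el_coe (w : ℕ) (h : ltB 3 (unW w) = true) : ((P.el w : C0) : R) = ctx.ev (unW w) := by
  rw [QModel.el, P_q, val_unW, SubmonoidClass.coe_list_prod, List.map_map]
  refine congrArg List.prod (List.map_congr_left fun s hs => ?_)
  simp [cg, dif_pos (ltB_iff.mp h s hs)]

theorem gen_top : Subgroup.closure {x | ∃ g, g < P.nL ∧ x = P.q g} = ⊤ := by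
  rw [eq_top_iff, ← cg_closure]
  refine Subgroup.closure_mono ?_
  rintro x (rfl | rfl)
  exacts [⟨0, by decide +kernel, rfl⟩, ⟨1, by decide +kernel, rfl⟩]

end Cfsg.Agent.Co3Rec
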