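import Cfsg.Agent.Co3Rec.Facts
import Cfsg.Agent.Co3Rec.Data.Inter
import Cfsg.Agent.Co3Rec.Data.Cand

/-!
The elements of the model commuting with the involutions of a pure four group of the second class
are the 480 listed ones, by a stabiliser chain on eight points.
-/

set_option autoImplicit false
set_option maxRecDepth 100000

namespace Cfsg.Agent.Co3Rec

open Cfsg Cfsg.Agent.Compute Cfsg.Agent.StemCert
open Cfsg.Agent.CosetCert (Store)

/-- The transversal words of a level. -/
noncomputable def lvS (l : ℕ) : Store :=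
  [Data.lvWords0, Data.lvWords1, Data.lvWords2, Data.lvWords3, Data.lvWords4, Data.lvWords5,
    Data.lvWords6, Data.lvWords7].getD l Data.lvWords7

/-- The orbit lengths. -/
noncomputable def lvN (l : ℕ) : ℕ :=
  [Data.lvSize0, Data.lvSize1, Data.lvSize2, Data.lvSize3, Data.lvSize4, Data.lvSize5, Data.lvSize6,
    Data.lvSize7].getD l 1

/-- A transversal word. -/
noncomputable abbrev lvW (l i : ℕ) : List ℕ := unW ((lvS l).get i)

/-- The points. -/
noncomputable abbrev bpN (j : ℕ) : ℕ := Data.pts.getD j 0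

/-- The orbit of a level. -/
noncomputable def inMask (l p : ℕ) : Bool :=
  Nat.beq (Nat.mod (Nat.shiftRight (Data.masks.getD l 0) p) 2) 1

theorem bpN_lt : allBelow 8 (fun j => Nat.blt (bpN j) 276) = true := by decide +kernel

/-- A point as an element of the domain. -/
noncomputable def bq (j : ℕ) : Fin 276 := if h : bpN j < 276 then ⟨bpN j, h⟩ else 0

theorem bq_val {j : ℕ} (hj : j < 8) : (bq j : ℕ) = bpN j := by
  rw [bq, dif_pos (Nat.blt_eq.mp (allBelow_eq_true.mp bpN_lt j hj))]

theorem lv_ok : allBelow 8 (fun l => allBelow (lvN l) fun i =>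
    ltB Data.k (lvW l i) && allBelow l fun j => Nat.beq (appW 9 Data.codes (lvW l i) (bpN j)) (bpN j)) =
      true := by decide +kernel

theorem mask_ok : allBelow 8 (fun l =>
    Nat.beq ((List.range 276).filter (inMask l)).length (lvN l) &&
      allBelow 276 fun p => !(inMask l p) || (List.range (lvN l)).any fun i =>
        Nat.beq (appW 9 Data.codes (lvW l i) p) (bpN l)) = true := by decide +kernel

/-- The product of the orbit lengths below a level. -/
noncomputable def preN (l : ℕ) : ℕ :=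
  Nat.rec (motive := fun _ => ℕ) 1 (fun j r => Nat.mul r (lvN j)) l

/-- The product of the orbit lengths from a level on. -/
noncomputable def sufN (l : ℕ) : ℕ :=
  Nat.rec (motive := fun _ => ℕ) 1 (fun j r => Nat.mul (lvN (Nat.sub 7 j)) r) (Nat.sub 8 l)

theorem pre_suf : allBelow 9 (fun l => Nat.beq (Nat.mul (preN l) (sufN l)) 495766656000 &&
    (Nat.beq l 8 || (Nat.beq (sufN l) (Nat.mul (lvN l) (sufN (Nat.succ l))) &&
      Nat.blt 0 (lvN l)))) = true ∧ sufN 8 = 1 ∧ preN 0 = 1 := by
  refine ⟨?_, ?_, ?_⟩ <;> decide +kernel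

/-- The elements fixing the first points. -/
noncomputable def StabL (l : ℕ) : Subgroup R where
  carrier := {g | ∀ j < l, Co3Out.ι g (bq j) = bq j}
  one_mem' := fun j _ => by simp
  mul_mem' := fun {a b} ha hb j hj => by rw [map_mul, Equiv.Perm.mul_apply, hb j hj, ha j hj]
  inv_mem' := fun {a} ha j hj => by
    rw [map_inv, Equiv.Perm.inv_def, Equiv.symm_apply_eq, ha j hj]

/-- The points of an orbit. -/
abbrev Orb (l : ℕ) : Type := {p : Fin 276 // inMask l p = true}

theorem card_Orb {l : ℕ} (hl : l < 8) : Nat.card (Orb l) = lvN l := by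
  have h := allBelow_eq_true.mp mask_ok l hl
  simp only [Bool.and_eq_true, Nat.beq_eq] at h
  have e : ((Finset.range 276).filter fun p => inMask l p = true).card =
      ((List.range 276).filter (inMask l)).length := by
    rw [show (Finset.range 276).filter (fun p => inMask l p = true) =
        ((List.range 276).filter (inMask l)).toFinset from Finset.ext fun p => by simp,
      List.toFinset_card_of_nodup (List.nodup_range.filter _)]
  rw [← h.1, ← e, Nat.card_eq_fintype_card, Fintype.card_subtype]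
  refine Finset.card_bij (fun p _ => (p : ℕ)) ?_ (fun p _ q _ => Fin.ext) ?_
  · intro p hp
    simp only [Finset.mem_filter, Finset.mem_univ, true_and] at hp
    simp [hp]
  · intro p hp
    simp only [Finset.mem_filter, Finset.mem_range] at hp
    exact ⟨⟨p, hp.1⟩, by simp [hp.2], rfl⟩

theorem lv_mem {l i : ℕ} (hl : l < 8) (hi : i < lvN l) :
    ctx.ev (lvW l i) ∈ StabL l ∧ ∀ s ∈ lvW l i, s < ctx.k := by
  have h := allBelow_eq_true.mp (allBelow_eq_true.mp lv_ok l hl) i hi
  simp only [Bool.and_eq_true, allBelow_eq_true, Nat.beq_eq] at h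
  refine ⟨fun j hj => Fin.ext ?_, ltB_iff.mp h.1⟩
  rw [show ctx.ev (lvW l i) = evalW ctx.gen (lvW l i) from rfl,
    appW_spec ctx.coded _ (ltB_iff.mp h.1), bq_val (hj.trans hl)]
  exact h.2 j hj

theorem orb_witness {l : ℕ} (hl : l < 8) (p : Orb l) :
    ∃ w ∈ StabL l, Co3Out.ι w p.1 = bq l := by
  have h := allBelow_eq_true.mp mask_ok l hl
  simp only [Bool.and_eq_true, allBelow_eq_true, Bool.or_eq_true, Bool.not_eq_true'] at h
  rcases h.2 p.1 p.1.2 with h2 | h2
  · exact absurd p.2 (by rw [h2]; simp)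
  obtain ⟨i, hi, e⟩ := List.any_eq_true.mp h2
  obtain ⟨m, hlt⟩ := lv_mem hl (List.mem_range.mp hi)
  refine ⟨_, m, Fin.ext ?_⟩
  rw [show ctx.ev (lvW l i) = evalW ctx.gen (lvW l i) from rfl, appW_spec ctx.coded _ hlt, bq_val hl]
  exact Nat.eq_of_beq_eq_true e

/-- A level is a transversal times the next one. -/
noncomputable def levelMap {l : ℕ} (hl : l < 8) : Orb l × StabL (l + 1) → StabL l :=
  fun x => ⟨(orb_witness hl x.1).choose⁻¹ * x.2,
    mul_mem (inv_mem (orb_witness hl x.1).choose_spec.1) fun j hj => x.2.2 j (by omega)⟩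

theorem levelMap_apply {l : ℕ} (hl : l < 8) (x : Orb l × StabL (l + 1)) :
    Co3Out.ι (levelMap hl x : R) (bq l) = x.1.1 := by
  show Co3Out.ι ((orb_witness hl x.1).choose⁻¹ * (x.2 : R)) (bq l) = _
  rw [map_mul, map_inv, Equiv.Perm.mul_apply, x.2.2 l (by omega), Equiv.Perm.inv_def,
    Equiv.symm_apply_eq, (orb_witness hl x.1).choose_spec.2]

theorem levelMap_injective {l : ℕ} (hl : l < 8) : Function.Injective (levelMap hl) := by
  intro x y e
  have h1 : x.1 = y.1 := Subtype.ext (by rw [← levelMap_apply hl x, e, levelMap_apply])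
  have h2 : (orb_witness hl x.1).choose⁻¹ * (x.2 : R) = (orb_witness hl y.1).choose⁻¹ * (y.2 : R) :=
    congrArg Subtype.val e
  rw [h1] at h2
  exact Prod.ext h1 (Subtype.ext (mul_left_cancel h2))

theorem level_le {l : ℕ} (hl : l < 8) : lvN l * Nat.card (StabL (l + 1)) ≤ Nat.card (StabL l) := by
  rw [← card_Orb hl, ← Nat.card_prod]
  exact Nat.card_le_card_of_injective _ (levelMap_injective hl)

theorem card_StabL {l : ℕ} (hl : l ≤ 8) : Nat.card (StabL l) = sufN l := by
  obtain ⟨hps, h8, h0⟩ := pre_suf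
  have hps' := allBelow_eq_true.mp hps
  simp only [Bool.and_eq_true, Bool.or_eq_true, Nat.beq_eq, Nat.blt_eq] at hps'
  have hlow : ∀ d l, l + d = 8 → sufN l ≤ Nat.card (StabL l) := by
    intro d
    induction d with
    | zero =>
      intro l hl
      rw [show l = 8 by omega, h8]
      exact Nat.card_pos
    | succ d ih =>
      intro l hl
      rcases (hps' l (by omega)).2 with h | h
      · omega
      · rw [h.1]
        exact (Nat.mul_le_mul_left _ (ih (l + 1) (by omega))).trans (level_le (by omega))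
  have hup : ∀ l, l ≤ 8 → preN l * Nat.card (StabL l) ≤ 495766656000 := by
    intro l
    induction l with
    | zero =>
      intro _
      rw [h0, one_mul, ← Co3Out.card_co3]
      exact Nat.card_le_card_of_injective _ Subtype.val_injective
    | succ l ih =>
      intro hl
      refine le_trans ?_ (ih (by omega))
      show preN l * lvN l * _ ≤ _
      rw [mul_assoc]
      exact Nat.mul_le_mul_left _ (level_le (by omega))
  refine le_antisymm ?_ (hlow (8 - l) l (by omega))
  have h := hup l hl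
  have e : preN l * sufN l = 495766656000 := (hps' l (by omega)).1
  have hp : 0 < preN l := Nat.pos_of_ne_zero fun h => by rw [h, zero_mul] at e; norm_num at e
  exact Nat.le_of_mul_le_mul_left (h.trans_eq e.symm) hp

/-- The orbit of a level is the listed one. -/
theorem orbit_exact {l : ℕ} (hl : l < 8) {g : R} (hg : g ∈ StabL l) :
    inMask l (Co3Out.ι g (bq l) : ℕ) = true := by
  obtain ⟨hps, -, -⟩ := pre_suf
  have h := allBelow_eq_true.mp hps l (by omega)
  simp only [Bool.and_eq_true, Bool.or_eq_true, Nat.beq_eq] at h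
  rcases h.2 with h2 | h2
  · omega
  have hb : Function.Bijective (levelMap hl) := by
    refine (Nat.bijective_iff_injective_and_card _).mpr ⟨levelMap_injective hl, ?_⟩
    rw [Nat.card_prod, card_Orb hl, card_StabL (by omega), card_StabL (by omega), h2.1]
    rfl
  obtain ⟨x, hx⟩ := hb.2 ⟨g, hg⟩
  have e := levelMap_apply hl x
  rw [hx] at e
  rw [e]
  exact x.1.2

theorem eq_one_of_fix {g : R} (hg : g ∈ StabL 8) : g = 1 := by
  have h := card_StabL (le_refl 8)
  rw [pre_suf.2.1] at h
  have := (Nat.card_eq_one_iff_unique.mp h).1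
  exact congrArg Subtype.val (Subsingleton.elim (⟨g, hg⟩ : StabL 8) 1)

/-- The certificate that no element sends the points to the given ones. -/
noncomputable def failB (n : ℕ) : ℕ → List ℕ → ℕ → Bool :=
  Nat.rec (motive := fun _ => ℕ → List ℕ → ℕ → Bool) (fun _ _ _ => false)
    (fun _ rec l cur v => forceN (cur.getD l 0) fun c => !(inMask l c) ||
      forceN (Nat.mod v 512) fun i => Nat.blt i (lvN l) &&
        Nat.beq (appW 9 Data.codes (lvW l i) c) (bpN l) &&
        rec (Nat.succ l) (cur.map (appW 9 Data.codes (lvW l i))) (Nat.div v 512)) n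

theorem getD_map_lt (f : ℕ → ℕ) {L : List ℕ} {j : ℕ} (hj : j < L.length) :
    (L.map f).getD j 0 = f (L.getD j 0) := by
  rw [List.getD_eq_getElem _ _ (by rw [List.length_map]; exact hj), List.getElem_map,
    List.getD_eq_getElem _ _ hj]

theorem failB_spec : ∀ n l cur v, l + n = 8 → cur.length = 8 → failB n l cur v = true →
    ∀ g ∈ StabL l, (∀ j < 8, (Co3Out.ι g (bq j) : ℕ) = cur.getD j 0) → False := by
  intro n
  induction n with
  | zero => intro l cur v _ _ h; exact absurd h (by simp [failB])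
  | succ n ih =>
    intro l cur v hn hlen h g hg hcur
    have h' : (!(inMask l (cur.getD l 0)) || Nat.blt (Nat.mod v 512) (lvN l) &&
        Nat.beq (appW 9 Data.codes (lvW l (Nat.mod v 512)) (cur.getD l 0)) (bpN l) &&
        failB n (Nat.succ l) (cur.map (appW 9 Data.codes (lvW l (Nat.mod v 512)))) (Nat.div v 512)) =
          true := by
      simpa [failB, forceN_eq] using h
    have hm := orbit_exact (show l < 8 by omega) hg
    rw [hcur l (by omega)] at hm
    rw [hm] at h'
    simp only [Bool.not_true, Bool.false_or, Bool.and_eq_true, Nat.blt_eq, Nat.beq_eq] at h'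
    obtain ⟨⟨hi, hfix⟩, hrec⟩ := h'
    obtain ⟨hw, hlt⟩ := lv_mem (show l < 8 by omega) hi
    set w := lvW l (Nat.mod v 512)
    have happ : ∀ j < 8, (Co3Out.ι (ctx.ev w * g) (bq j) : ℕ) =
        (cur.map (appW 9 Data.codes w)).getD j 0 := by
      intro j hj
      rw [map_mul, Equiv.Perm.mul_apply, show ctx.ev w = evalW ctx.gen w from rfl,
        appW_spec ctx.coded _ hlt, hcur j hj, getD_map_lt _ (by omega)]
      rfl
    refine ih (l + 1) _ _ (by omega) (by simpa using hlen) hrec (ctx.ev w * g) (fun j hj => ?_) happ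
    rcases Nat.lt_succ_iff_lt_or_eq.mp hj with hjl | rfl
    · exact mul_mem hw hg j hjl
    · refine Fin.ext ?_
      rw [happ j (by omega), bq_val (by omega), getD_map_lt _ (by omega)]
      exact hfix

/-- The word of a listed element. -/
noncomputable abbrev xw (i : ℕ) : List ℕ := unW (Data.x0Els.get i)

/-- The possible images of the points. -/
noncomputable def candImg (A B C D : ℕ) : List ℕ :=
  [A, appW 9 Data.codes [Data.zL] A, B, appW 9 Data.codes [Data.bL] B, C,
    appW 9 Data.codes [Data.bL] C, D, appW 9 Data.codes [Data.bL] D]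

theorem cand_ok : allBelow 12 (fun a => allBelow 12 fun b => allBelow 12 fun c => allBelow 12 fun d =>
    forceN (Data.candS.get (Nat.add (Nat.mul (Nat.add (Nat.mul (Nat.add (Nat.mul a 12) b) 12) c) 12) d))
      fun e => cond (Nat.beq (Nat.mod e 2) 1)
        (failB 8 0 (candImg (Data.fixA.getD a 0) (Data.fixB.getD b 0) (Data.fixC.getD c 0)
          (Data.fixB.getD d 0)) (Nat.div e 2))
        (Nat.blt (Nat.div e 2) Data.x0N && allBelow 8 fun j =>
          Nat.beq (appW 9 Data.codes (xw (Nat.div e 2)) (bpN j))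
            ((candImg (Data.fixA.getD a 0) (Data.fixB.getD b 0) (Data.fixC.getD c 0)
              (Data.fixB.getD d 0)).getD j 0))) = true := by decide +kernel

theorem x0_ok : allBelow Data.x0N (fun i => ltB Data.k (xw i) &&
    same (xw i ++ [Data.bL]) (Data.bL :: xw i) && same (xw i ++ [Data.zL]) (Data.zL :: xw i)) = true := by
  decide +kernel

theorem fix_ok : allBelow 276 (fun p =>
    (!(Nat.beq (appW 9 Data.codes [Data.bL] p) p) || Data.fixA.any (Nat.beq p)) &&
    (!(Nat.beq (appW 9 Data.codes [Data.zL] p) p) || Data.fixB.any (Nat.beq p)) &&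
    (!(Nat.beq (appW 9 Data.codes [Data.zL, Data.bL] p) p) || Data.fixC.any (Nat.beq p))) = true ∧
    Data.fixA.length = 12 ∧ Data.fixB.length = 12 ∧ Data.fixC.length = 12 := by
  refine ⟨?_, ?_, ?_, ?_⟩ <;> decide +kernel

theorem pts_rel : (Nat.beq (appW 9 Data.codes [Data.bL] (bpN 0)) (bpN 0) &&
    Nat.beq (appW 9 Data.codes [Data.zL] (bpN 0)) (bpN 1) &&
    Nat.beq (appW 9 Data.codes [Data.zL] (bpN 2)) (bpN 2) &&
    Nat.beq (appW 9 Data.codes [Data.bL] (bpN 2)) (bpN 3) &&
    Nat.beq (appW 9 Data.codes [Data.zL, Data.bL] (bpN 4)) (bpN 4) &&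
    Nat.beq (appW 9 Data.codes [Data.bL] (bpN 4)) (bpN 5) &&
    Nat.beq (appW 9 Data.codes [Data.zL] (bpN 6)) (bpN 6) &&
    Nat.beq (appW 9 Data.codes [Data.bL] (bpN 6)) (bpN 7)) = true := by decide +kernel

theorem zL_lt : Data.zL < ctx.k ∧ Data.bL < ctx.k := by
  show Data.zL < Data.k ∧ Data.bL < Data.k
  decide +kernel

/-- The elements commuting with both involutions are listed. -/
theorem centralizer_W_listed {g : R} (hb : g * bE = bE * g) (hz : g * zE = zE * g) :
    ∃ i < Data.x0N, g = ctx.ev (xw i) := by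
  -- a word commuting with the element carries the relation between points to their images
  have key : ∀ w : List ℕ, (∀ s ∈ w, s < ctx.k) → g * ctx.ev w = ctx.ev w * g → ∀ p q, p < 8 → q < 8 →
      Nat.beq (appW 9 Data.codes w (bpN p)) (bpN q) = true →
      (Co3Out.ι g (bq q) : ℕ) = appW 9 Data.codes w (Co3Out.ι g (bq p) : ℕ) := by
    intro w hw hc p q hp hq h
    have e : Co3Out.ι (ctx.ev w) (bq p) = bq q := Fin.ext (by
      rw [show ctx.ev w = evalW ctx.gen w from rfl, appW_spec ctx.coded _ hw, bq_val hp, bq_val hq]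
      exact Nat.eq_of_beq_eq_true h)
    rw [← e, ← Equiv.Perm.mul_apply, ← map_mul, hc, map_mul, Equiv.Perm.mul_apply,
      show ctx.ev w = evalW ctx.gen w from rfl, appW_spec ctx.coded _ hw]
    rfl
  have w1 : ∀ s ∈ [Data.bL], s < ctx.k := fun s hs => (List.mem_singleton.mp hs) ▸ zL_lt.2
  have w2 : ∀ s ∈ [Data.zL], s < ctx.k := fun s hs => (List.mem_singleton.mp hs) ▸ zL_lt.1
  have w3 : ∀ s ∈ [Data.zL, Data.bL], s < ctx.k := fun s hs => by
    rcases List.mem_cons.mp hs with rfl | hs
    exacts [zL_lt.1, w1 s hs]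
  have c1 : g * ctx.ev [Data.bL] = ctx.ev [Data.bL] * g := by rw [ctx.ev_single]; exact hb
  have c2 : g * ctx.ev [Data.zL] = ctx.ev [Data.zL] * g := by rw [ctx.ev_single]; exact hz
  have c3 : g * ctx.ev [Data.zL, Data.bL] = ctx.ev [Data.zL, Data.bL] * g := by
    rw [Ctx.ev_cons, ctx.ev_single, ← mul_assoc,
      show g * ctx.gen Data.zL = ctx.gen Data.zL * g from hz, mul_assoc,
      show g * ctx.gen Data.bL = ctx.gen Data.bL * g from hb, mul_assoc]
  have hp := pts_rel
  simp only [Bool.and_eq_true] at hp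
  obtain ⟨⟨⟨⟨⟨⟨⟨r0, r1⟩, r2⟩, r3⟩, r4⟩, r5⟩, r6⟩, r7⟩ := hp
  have f0 := key _ w1 c1 0 0 (by norm_num) (by norm_num) r0
  have f1 := key _ w2 c2 0 1 (by norm_num) (by norm_num) r1
  have f2 := key _ w2 c2 2 2 (by norm_num) (by norm_num) r2
  have f3 := key _ w1 c1 2 3 (by norm_num) (by norm_num) r3
  have f4 := key _ w3 c3 4 4 (by norm_num) (by norm_num) r4
  have f5 := key _ w1 c1 4 5 (by norm_num) (by norm_num) r5
  have f6 := key _ w2 c2 6 6 (by norm_num) (by norm_num) r6
  have f7 := key _ w1 c1 6 7 (by norm_num) (by norm_num) r7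
  have find : ∀ (L : List ℕ) (p : ℕ), L.length = 12 → L.any (Nat.beq p) = true →
      ∃ a < 12, L.getD a 0 = p := by
    intro L p hL h
    obtain ⟨r, hr, e⟩ := List.any_eq_true.mp h
    obtain ⟨a, ha, rfl⟩ := List.getElem_of_mem hr
    exact ⟨a, hL ▸ ha, by rw [List.getD_eq_getElem _ _ ha]; exact (Nat.eq_of_beq_eq_true e).symm⟩
  obtain ⟨hF, lA, lB, lC⟩ := fix_ok
  have hF' := allBelow_eq_true.mp hF
  simp only [Bool.and_eq_true, Bool.or_eq_true, Bool.not_eq_true'] at hF'
  have fix' : ∀ {w : List ℕ} {v : ℕ} {L : List ℕ}, v = appW 9 Data.codes w v →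
      (Nat.beq (appW 9 Data.codes w v) v = false ∨ L.any (Nat.beq v) = true) →
      L.any (Nat.beq v) = true := by
    intro w v L e h
    rcases h with h | h
    · rw [← e, Nat.beq_refl] at h; exact Bool.noConfusion h
    · exact h
  obtain ⟨a, ha, hA⟩ := find _ _ lA (fix' f0 (hF' _ (Co3Out.ι g (bq 0)).2).1.1)
  obtain ⟨b, hb', hB⟩ := find _ _ lB (fix' f2 (hF' _ (Co3Out.ι g (bq 2)).2).1.2)
  obtain ⟨c, hc, hC⟩ := find _ _ lC (fix' f4 (hF' _ (Co3Out.ι g (bq 4)).2).2)
  obtain ⟨d, hd, hD⟩ := find _ _ lB (fix' f6 (hF' _ (Co3Out.ι g (bq 6)).2).1.2)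
  have h := allBelow_eq_true.mp (allBelow_eq_true.mp (allBelow_eq_true.mp
    (allBelow_eq_true.mp cand_ok a ha) b hb') c hc) d hd
  rw [forceN_eq, hA, hB, hC, hD] at h
  set e := Data.candS.get (Nat.add (Nat.mul (Nat.add (Nat.mul (Nat.add (Nat.mul a 12) b) 12) c) 12) d)
  have himg : ∀ j < 8, (Co3Out.ι g (bq j) : ℕ) = (candImg (Co3Out.ι g (bq 0) : ℕ) (Co3Out.ι g (bq 2) : ℕ)
      (Co3Out.ι g (bq 4) : ℕ) (Co3Out.ι g (bq 6) : ℕ)).getD j 0 := by
    intro j hj
    interval_cases j <;> first | rfl | exact f1 | exact f3 | exact f5 | exact f7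
  rcases Bool.eq_false_or_eq_true (Nat.beq (Nat.mod e 2) 1) with hodd | hodd <;> rw [hodd] at h
  · rw [cond_true] at h
    exact (failB_spec 8 0 _ _ (by norm_num) rfl h g (fun j hj => absurd hj (Nat.not_lt_zero j)) himg).elim
  · simp only [cond_false, Bool.and_eq_true, Nat.blt_eq, allBelow_eq_true, Nat.beq_eq] at h
    obtain ⟨hi, hx⟩ := h
    refine ⟨_, hi, ?_⟩
    have hxl := allBelow_eq_true.mp x0_ok _ hi
    simp only [Bool.and_eq_true] at hxl
    have hmem : (ctx.ev (xw (Nat.div e 2)))⁻¹ * g ∈ StabL 8 := by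
      intro j hj
      rw [map_mul, map_inv, Equiv.Perm.mul_apply, Equiv.Perm.inv_def, Equiv.symm_apply_eq]
      refine Fin.ext ?_
      rw [himg j hj, ← hx j hj, show ctx.ev (xw (Nat.div e 2)) = evalW ctx.gen (xw (Nat.div e 2)) from rfl,
        appW_spec ctx.coded _ (ltB_iff.mp hxl.1.1), bq_val hj]
      rfl
    exact (inv_mul_eq_one.mp (eq_one_of_fix hmem)).symm

end Cfsg.Agent.Co3Rec
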