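import Cfsg.Agent.Co3Out.Model
import Cfsg.Agent.OutTab.WordTable
import Cfsg.Agent.DCoset.Emit

/-!
Equations between words in coded elements of the third Conway group, decided on the base of the
model on 276 pairs.
-/

set_option autoImplicit false

namespace Cfsg.Agent.Co3Rec

open Cfsg Cfsg.Agent.Compute Cfsg.Agent.StemCert
open Cfsg.Agent.OutTab (ivB)

/-- The group. -/
abbrev R : Type := ↥Spor.Co3

/-- A packed word: the length below `65536`, then one byte for a letter. -/
noncomputable def unW (v : ℕ) : List ℕ :=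
  forceN (Nat.mod v 65536) fun n => forceN (Nat.div v 65536) fun b =>
    Nat.rec (motive := fun _ => ℕ → List ℕ) (fun _ => [])
      (fun _ rec b => forceN (Nat.mod b 256) fun a => forceN (Nat.div b 256) fun b' => a :: rec b') n b

/-- The images of the base under a word, packed. -/
noncomputable def keyW (cs : List ℕ) (l : List ℕ) : ℕ :=
  List.rec (motive := fun _ => ℕ) 0
    (fun x _ r => Nat.add (appW 9 cs l x) (Nat.mul 512 r)) Co3Out.Data.mainBase

/-- The number of fixed points of a word. -/
noncomputable def fixW (cs : List ℕ) (l : List ℕ) : ℕ :=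
  Nat.rec (motive := fun _ => ℕ) 0
    (fun p r => cond (Nat.beq (appW 9 cs l p) p) (Nat.succ r) r) 276

/-- The letters are below `k`. -/
noncomputable def ltB (k : ℕ) (l : List ℕ) : Bool := allB (fun s => Nat.blt s k) l

/-- The two words have the same letters bound and agree on the base. -/
noncomputable def sameB (k : ℕ) (cs : List ℕ) (a b : List ℕ) : Bool :=
  ltB k a && ltB k b && eqOn 9 cs Co3Out.Data.mainBase a b

theorem ltB_iff {k : ℕ} : ∀ {l : List ℕ}, ltB k l = true ↔ ∀ s ∈ l, s < k
  | [] => by simp [ltB, allB]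
  | a :: l => by
    have h : ltB k (a :: l) = (Nat.blt a k && ltB k l) := rfl
    rw [h, Bool.and_eq_true, Nat.blt_eq, ltB_iff]
    simp

/-- The number of points fixed in the model. -/
noncomputable def fx (g : R) : ℕ := Nat.card {p : Fin 276 // Co3Out.ι g p = p}

theorem fx_conj (c g : R) : fx (c * g * c⁻¹) = fx g := by
  refine Nat.card_congr ((Co3Out.ι c).symm.subtypeEquiv fun p => ?_)
  rw [map_mul, map_mul, map_inv, Equiv.Perm.mul_apply, Equiv.Perm.mul_apply, Equiv.Perm.inv_def]
  constructor
  · intro h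
    exact (Co3Out.ι c).injective (h.trans (Equiv.apply_symm_apply _ p).symm)
  · intro h
    rw [h, Equiv.apply_symm_apply]

theorem fx_one : fx 1 = 276 := by
  rw [fx]
  simp

theorem fixW_eq_card (cs l : List ℕ) : ∀ n : ℕ,
    (Nat.rec (motive := fun _ => ℕ) 0
      (fun p r => cond (Nat.beq (appW 9 cs l p) p) (Nat.succ r) r) n : ℕ) =
        ((Finset.range n).filter fun p => appW 9 cs l p = p).card
  | 0 => by simp
  | n + 1 => by
    rw [Finset.range_add_one, Finset.filter_insert]
    show cond _ _ _ = _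
    rw [fixW_eq_card cs l n]
    by_cases h : appW 9 cs l n = n
    · rw [if_pos h, Finset.card_insert_of_notMem (by simp), show Nat.beq (appW 9 cs l n) n = true from
        Nat.beq_eq.mpr h, cond_true]
    · rw [if_neg h, show Nat.beq (appW 9 cs l n) n = false by
        simpa [← Bool.not_eq_true] using h, cond_false]

/-- Coded letters, closed under inverses. -/
structure Ctx where
  /-- number of letters -/
  k : ℕ
  /-- codes -/
  cs : List ℕ
  /-- inverse letters -/
  iv : List ℕ
  /-- values -/
  gen : ℕ → R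
  coded : Coded (w := 9) (k := k) Co3Out.ι gen cs
  inv_ok : ivB 9 k cs Co3Out.Data.mainBase iv = true
  iv_lt : allBelow k (fun s => Nat.blt (iv.getD s 0) k) = true

namespace Ctx

variable (C : Ctx)

/-- The value of a word. -/
noncomputable def ev (l : List ℕ) : R := evalW C.gen l

@[simp] theorem ev_nil : C.ev [] = 1 := rfl

theorem ev_append (a b : List ℕ) : C.ev (a ++ b) = C.ev a * C.ev b := evalW_append _ a b

theorem ev_cons (s : ℕ) (b : List ℕ) : C.ev (s :: b) = C.gen s * C.ev b := evalW_cons _ s b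

theorem ev_single (s : ℕ) : C.ev [s] = C.gen s := by simp [ev, evalW]

theorem eq_of_same {a b : List ℕ} (h : sameB C.k C.cs a b = true) : C.ev a = C.ev b := by
  simp only [sameB, Bool.and_eq_true, ltB_iff] at h
  exact eq_of_eqOn C.coded Co3Out.base_isBase h.1.1 h.1.2 h.2

/-- The inverse word. -/
noncomputable def inv (l : List ℕ) : List ℕ := OutTab.invW C.iv l

theorem iv_spec {s : ℕ} (hs : s < C.k) : C.iv.getD s 0 < C.k :=
  Nat.blt_eq.mp (allBelow_eq_true.mp C.iv_lt s hs)

theorem ev_inv {l : List ℕ} (h : ∀ s ∈ l, s < C.k) : C.ev (C.inv l) = (C.ev l)⁻¹ :=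
  OutTab.evalW_invW C.coded Co3Out.base_isBase C.inv_ok fun s hs => ⟨h s hs, C.iv_spec (h s hs)⟩

theorem inv_lt {l : List ℕ} (h : ∀ s ∈ l, s < C.k) : ∀ s ∈ C.inv l, s < C.k := by
  intro s hs
  obtain ⟨r, hr, rfl⟩ := List.mem_map.mp hs
  exact C.iv_spec (h r (List.mem_reverse.mp hr))

theorem key_eq {a b : List ℕ} (ha : ∀ s ∈ a, s < C.k) (hb : ∀ s ∈ b, s < C.k)
    (h : C.ev a = C.ev b) : keyW C.cs a = keyW C.cs b := by
  have hp : ∀ x ∈ Co3Out.Data.mainBase, appW 9 C.cs a x = appW 9 C.cs b x := by
    intro x hx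
    have hx' : x < 276 := Co3Out.base_isBase.1 x hx
    rw [← appW_spec C.coded a ha ⟨x, hx'⟩, ← appW_spec C.coded b hb ⟨x, hx'⟩]
    exact congrArg (fun g => ((Co3Out.ι g) ⟨x, hx'⟩ : ℕ)) h
  unfold keyW
  generalize Co3Out.Data.mainBase = L at hp
  induction L with
  | nil => rfl
  | cons x L ih =>
    show Nat.add (appW 9 C.cs a x) (Nat.mul 512 _) = Nat.add (appW 9 C.cs b x) (Nat.mul 512 _)
    rw [hp x (by simp), ih fun y hy => hp y (List.mem_cons_of_mem _ hy)]

theorem fx_ev {l : List ℕ} (h : ∀ s ∈ l, s < C.k) : fx (C.ev l) = fixW C.cs l := by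
  rw [fx, fixW, fixW_eq_card, Nat.card_eq_fintype_card, Fintype.card_subtype]
  refine Finset.card_bij (fun p _ => (p : ℕ)) ?_ (fun p _ q _ => Fin.ext) ?_
  · intro p hp
    simp only [Finset.mem_filter, Finset.mem_univ, true_and] at hp
    simp only [Finset.mem_filter, Finset.mem_range]
    exact ⟨p.2, by rw [← appW_spec C.coded l h p]; exact congrArg Fin.val hp⟩
  · intro p hp
    simp only [Finset.mem_filter, Finset.mem_range] at hp
    refine ⟨⟨p, hp.1⟩, ?_, rfl⟩
    simp only [Finset.mem_filter, Finset.mem_univ, true_and]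
    exact Fin.ext (by rw [show C.ev l = evalW C.gen l from rfl, appW_spec C.coded l h]; exact hp.2)

end Ctx

end Cfsg.Agent.Co3Rec
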